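import Cfsg.Agent.Lib.Helper13.CosetGroup

set_option autoImplicit false

/-!
Phase A of the `≤` certificate: spanning tree, trivial Schreier generators (`Z` registers),
class labels of the remaining Schreier generators (packed planes `L`), and extraction of
relations among the class generators.
-/

namespace Cfsg.Agent.Lib.Helper13.CE

/-! ### registers -/

def rget : List ℕ → ℕ → ℕ
  | [], _ => 0
  | a :: _, 0 => a
  | _ :: R, i+1 => rget R i

def rset : List ℕ → ℕ → ℕ → List ℕ
  | [], _, _ => []
  | _ :: R, 0, v => v :: R
  | a :: R, i+1, v => a :: rset R i v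

theorem rget_rset_ne (R : List ℕ) (i v j : ℕ) (h : j ≠ i) : rget (rset R i v) j = rget R j := by
  induction R generalizing i j with
  | nil => rfl
  | cons a R ih =>
    cases i with
    | zero =>
      cases j with
      | zero => exact absurd rfl h
      | succ j => rfl
    | succ i =>
      cases j with
      | zero => rfl
      | succ j => simp only [rset, rget]; exact ih i j (by omega)

theorem rget_rset_self (R : List ℕ) (i v : ℕ) :
    rget (rset R i v) i = v ∨ rget (rset R i v) i = rget R i := by
  induction R generalizing i with
  | nil => right; rfl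
  | cons a R ih =>
    cases i with
    | zero => left; rfl
    | succ i => simp only [rset, rget]; exact ih i

theorem rget_replicate (m i : ℕ) : rget (List.replicate m 0) i = 0 := by
  induction m generalizing i with
  | zero => rfl
  | succ m ih =>
    cases i with
    | zero => rfl
    | succ i => simp only [List.replicate_succ, rget]; exact ih i

/-! ### matching and writing label columns -/

/-- points whose column in the packed planes `L` equals the bits of `code`. -/
def matchL (N full L code : ℕ) : ℕ → ℕ → ℕ
  | 0, acc => acc
  | q+1, acc => matchL N full L code q (Nat.land acc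
      (cond (Nat.testBit code q) (Nat.shiftRight L (N * q))
        (Nat.xor full (Nat.land (Nat.shiftRight L (N * q)) full))))

theorem testBit_matchL (N full L code : ℕ) (P acc c : ℕ) (hfull : full.testBit c = true) :
    (matchL N full L code P acc).testBit c = true ↔
      (acc.testBit c = true ∧ ∀ q < P, L.testBit (N * q + c) = code.testBit q) := by
  induction P generalizing acc with
  | zero => simp [matchL]
  | succ P ih =>
    simp only [matchL]
    rw [ih]
    have key : (Nat.land acc (cond (Nat.testBit code P) (Nat.shiftRight L (N * P))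
        (Nat.xor full (Nat.land (Nat.shiftRight L (N * P)) full)))).testBit c = true ↔
        (acc.testBit c = true ∧ L.testBit (N * P + c) = code.testBit P) := by
      rw [land_eq, Nat.testBit_and]
      cases hcd : Nat.testBit code P
      · simp only [cond_false, xor_eq, land_eq, shr_eq, Nat.testBit_xor, Nat.testBit_and,
          Nat.testBit_shiftRight, hfull]
        cases L.testBit (N * P + c) <;> simp
      · simp only [cond_true, shr_eq, Nat.testBit_shiftRight]
        cases L.testBit (N * P + c) <;> simp
    rw [key]
    constructor
    · rintro ⟨⟨h1, h2⟩, h3⟩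
      refine ⟨h1, fun q hq => ?_⟩
      rcases Nat.lt_succ_iff_lt_or_eq.mp hq with h | h
      · exact h3 q h
      · rw [h]; exact h2
    · rintro ⟨h1, h2⟩
      exact ⟨⟨h1, h2 P (Nat.lt_succ_self P)⟩, fun q hq => h2 q (Nat.lt_succ_of_lt hq)⟩

/-- the packed planes having the bits of `code` as column at every point of `S`. -/
def patt (N full code S : ℕ) : ℕ → ℕ
  | 0 => 0
  | q+1 => Nat.lor (cond (Nat.testBit code q) (Nat.shiftLeft (Nat.land S full) (N * q)) 0)
      (patt N full code S q)

theorem testBit_patt (N full code S : ℕ) (P q c : ℕ) (hc : c < N) (hfull : full < 2 ^ N) :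
    (patt N full code S P).testBit (N * q + c) =
      (decide (q < P) && (code.testBit q && S.testBit c && full.testBit c)) := by
  induction P with
  | zero => simp [patt]
  | succ P ih =>
    simp only [patt, lor_eq, Nat.testBit_or, ih]
    have hsh : ((S &&& full) <<< (N * P)).testBit (N * q + c) =
        (decide (q = P) && (S.testBit c && full.testBit c)) := by
      rw [Nat.testBit_shiftLeft]
      rcases Nat.lt_trichotomy q P with h | h | h
      · have h1 : N * (q + 1) ≤ N * P := Nat.mul_le_mul_left N h
        have h2 : ¬ (N * q + c ≥ N * P) := by rw [Nat.mul_succ] at h1; omega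
        have h3 : q ≠ P := by omega
        simp [h2, h3]
      · subst h; simp
      · have h1 : N * (P + 1) ≤ N * q := Nat.mul_le_mul_left N h
        have h2 : N * q + c ≥ N * P := by rw [Nat.mul_succ] at h1; omega
        have h3 : q ≠ P := by omega
        have h4 : N ≤ N * q + c - N * P := by rw [Nat.mul_succ] at h1; omega
        have h5 : (S &&& full) < 2 ^ N := lt_of_le_of_lt Nat.and_le_right hfull
        have h6 : (S &&& full).testBit (N * q + c - N * P) = false :=
          Nat.testBit_lt_two_pow (lt_of_lt_of_le h5 (Nat.pow_le_pow_right (by norm_num) h4))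
        simp [h2, h3, h6]
    cases hcd : Nat.testBit code P
    · simp only [cond_false, Nat.zero_testBit, Bool.false_or]
      by_cases hq : q = P
      · subst hq; simp [hcd]
      · have : (q < P + 1) ↔ (q < P) := by omega
        simp [this]
    · simp only [cond_true, shl_eq, land_eq, hsh]
      by_cases hq : q = P
      · subst hq; simp [hcd]
      · have : (q < P + 1) ↔ (q < P) := by omega
        simp [this, hq]

/-! ### the checker -/

/-- static data of a certificate. -/
structure Par (α : Type) where
  nets : α → List (ℕ × ℕ)
  idx : α → ℕ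
  letters : List α
  rels : List (List α)
  subs : List (List α)
  n : ℕ
  N : ℕ
  P : ℕ
  full : ℕ

/-- state of phase A. -/
structure StA where
  Z : List ℕ
  L : List ℕ
  nxt : ℕ
  ar : List (List ℕ)
  as : List (List ℕ)

inductive StepA (α : Type) where
  | z (j r : ℕ)
  | nc (x : α) (p : ℕ)
  | pc (j r i l : ℕ)
  | xr (j r : ℕ) (ls : List ℕ)
  | xs (j : ℕ) (ls : List ℕ)

def rotW {α : Type} (W : List α) (r : ℕ) : List α := W.drop r ++ W.take r

/-- the inverse letter: `2c ↔ 2c+1`. -/
def invL (l : ℕ) : ℕ := cond (Nat.beq (l % 2) 0) (l + 1) (l - 1)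

theorem invL_even (c : ℕ) : invL (2 * c) = 2 * c + 1 := by
  unfold invL
  have : Nat.beq (2 * c % 2) 0 = true := by simp
  rw [this]; rfl

theorem invL_odd (c : ℕ) : invL (2 * c + 1) = 2 * c := by
  unfold invL
  have h1 : (2 * c + 1) % 2 = 1 := by omega
  rw [h1]; rfl

theorem invL_cases (l : ℕ) : ∃ c, (l = 2 * c ∧ invL l = 2 * c + 1) ∨ (l = 2 * c + 1 ∧ invL l = 2 * c) := by
  rcases Nat.even_or_odd' l with ⟨c, h | h⟩
  · exact ⟨c, Or.inl ⟨h, by rw [h, invL_even]⟩⟩
  · exact ⟨c, Or.inr ⟨h, by rw [h, invL_odd]⟩⟩

theorem invL_invL (l : ℕ) : invL (invL l) = l := by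
  obtain ⟨c, ⟨h1, h2⟩ | ⟨h1, h2⟩⟩ := invL_cases l
  · rw [h2, invL_odd, h1]
  · rw [h2, invL_even, h1]

variable {α : Type}

/-- the filter of a chain position: trivial edges (`l = 0`) or edges labelled `l`. -/
def filt (pr : Par α) (st : StA) (x : α) (l : ℕ) : ℕ :=
  cond (Nat.beq l 0) (rget st.Z (pr.idx x))
    (cond (Nat.blt l (2 * st.nxt))
      (matchL pr.N pr.full (rget st.L (pr.idx x)) (2 * l + 1) pr.P pr.full) 0)

def chain (pr : Par α) (st : StA) : List α → List ℕ → ℕ → ℕ
  | x :: W, l :: ls, A =>
      strict (napply (pr.nets x) (Nat.land A (filt pr st x l))) (fun y => chain pr st W ls y)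
  | _, _, A => A

/-- one step of the spanning-tree phase on `(K, Z)`. -/
def extStep (pr : Par α) (KZ : ℕ × List ℕ) (x : α) : ℕ × List ℕ :=
  strict (Nat.land (napply (pr.nets x) KZ.1) (Nat.xor pr.full KZ.1)) (fun Cn =>
    strict (Nat.lor (rget KZ.2 (pr.idx x)) (Nat.lor (napply (pr.nets x) Cn) Cn)) (fun z =>
      (Nat.lor KZ.1 Cn, rset KZ.2 (pr.idx x) z)))

def runTree (pr : Par α) : ℕ × List ℕ → List α → ℕ × List ℕ
  | KZ, [] => KZ
  | KZ, x :: xs => runTree pr (extStep pr KZ x) xs

def stepA (pr : Par α) (st : StA) : StepA α → Option StA
  | .z j r =>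
    let W := rotW (pr.rels.getD j []) r
    match W.getLast? with
    | none => none
    | some g =>
      strict (chain pr st W.dropLast (List.replicate W.dropLast.length 0) pr.full) (fun A =>
        strict (Nat.lor (rget st.Z (pr.idx g)) (Nat.lor A (napply (pr.nets g) A))) (fun z =>
          some { st with Z := rset st.Z (pr.idx g) z }))
  | .nc x p =>
    strict (Nat.shiftLeft 1 p) (fun S =>
      strict (Nat.land (napply (pr.nets x) S) (Nat.xor pr.full S)) (fun S2 =>
        cond (Nat.blt p pr.n && (Nat.beq (Nat.land (rget st.L (pr.idx x)) (Nat.lor S S2)) 0 &&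
            Nat.ble (4 * (st.nxt + 1)) (2 ^ pr.P)))
          (strict (Nat.lor (Nat.lor (rget st.L (pr.idx x))
              (patt pr.N pr.full (4 * st.nxt + 1) S pr.P))
              (patt pr.N pr.full (4 * st.nxt + 3) S2 pr.P)) (fun v =>
            some { st with L := rset st.L (pr.idx x) v, nxt := st.nxt + 1 }))
          none))
  | .pc j r i l =>
    let W := rotW (pr.rels.getD j []) r
    match W.getLast? with
    | none => none
    | some g =>
      cond (Nat.ble 2 l && (Nat.blt l (2 * st.nxt) && Nat.blt i W.dropLast.length))
        (strict (chain pr st W.dropLast ((List.replicate W.dropLast.length 0).set i l) pr.full)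
          (fun A =>
          strict (Nat.xor pr.full (Nat.land (rget st.L (pr.idx g)) pr.full)) (fun nLb =>
            strict (Nat.land A nLb) (fun New =>
              strict (Nat.land (Nat.land (napply (pr.nets g) New) nLb) (Nat.xor pr.full New))
                (fun New2 =>
                strict (Nat.lor (Nat.lor (rget st.L (pr.idx g))
                    (patt pr.N pr.full (2 * (invL l) + 1) New pr.P))
                    (patt pr.N pr.full (2 * l + 1) New2 pr.P)) (fun v =>
                  some { st with L := rset st.L (pr.idx g) v }))))))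
        none
  | .xr j r ls =>
    let W := rotW (pr.rels.getD j []) r
    cond (Nat.beq ls.length W.length &&
        Nat.blt 0 (Nat.land (chain pr st W ls pr.full) pr.full))
      (some { st with ar := (ls.filter (fun l => !(Nat.beq l 0))) :: st.ar })
      none
  | .xs j ls =>
    let W := pr.subs.getD j []
    cond (Nat.beq ls.length W.length &&
        Nat.blt 0 (Nat.land (chain pr st W ls 1) pr.full))
      (some { st with as := (ls.filter (fun l => !(Nat.beq l 0))) :: st.as })
      none

def runA (pr : Par α) : StA → List (StepA α) → Option StA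
  | st, [] => some st
  | st, e :: es =>
    match stepA pr st e with
    | none => none
    | some st' => runA pr st' es

def coverOK (pr : Par α) (st : StA) : Bool :=
  pr.letters.all (fun x =>
    Nat.beq (Nat.land (Nat.lor (rget st.Z (pr.idx x)) (rget st.L (pr.idx x))) pr.full) pr.full)

/-- the complete phase-A check. -/
def checkA (pr : Par α) (nreg : ℕ) (tree : List α) (steps : List (StepA α))
    (AR AS : List (List ℕ)) (nclass : ℕ) : Bool :=
  match runTree pr (1, List.replicate nreg 0) tree with
  | (K, Z) =>
    Nat.beq (Nat.land K pr.full) pr.full && Nat.ble 4 (2 ^ pr.P) &&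
    match runA pr ⟨Z, List.replicate nreg 0, 1, [], []⟩ steps with
    | none => false
    | some st => coverOK pr st && (decide (st.ar = AR.reverse) && (decide (st.as = AS.reverse) &&
        Nat.beq st.nxt nclass))

end Cfsg.Agent.Lib.Helper13.CE
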