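import Cfsg.Agent.Lib.Helper13.CosetChain

set_option autoImplicit false
set_option linter.unusedSectionVars false

/-!
Soundness of the steps of phase A.
-/

namespace Cfsg.Agent.Lib.Helper13.CE

variable {α : Type} {G : Type*} [Group G] {n k : ℕ} [NeZero n]
variable {X : Act α G n k} {pr : Par α} {H : Subgroup G} {w : Fin n → G} {st : StA} {Γ : ℕ → G}

theorem cond_some_eq {β : Type} {c : Bool} {a b : β} (h : cond c (some a) none = some b) :
    c = true ∧ a = b := by
  cases c
  · simp at h
  · simp at h; exact ⟨rfl, h⟩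

theorem zf_update (lk : Link X pr H) (Z : List ℕ) (g : α) (v : ℕ)
    (hold : ∀ x (c : Fin n), (rget Z (pr.idx x)).testBit c = true → X.del w c x = 1)
    (hv : ∀ c : Fin n, v.testBit c = true → X.del w c g = 1) :
    ∀ x (c : Fin n), (rget (rset Z (pr.idx g) v) (pr.idx x)).testBit c = true → X.del w c x = 1 := by
  intro y c hc
  by_cases hxy : pr.idx y = pr.idx g
  · have hy : y = g := lk.idx hxy
    subst hy
    rcases rget_rset_self Z (pr.idx y) v with h | h
    · rw [h] at hc; exact hv c hc
    · rw [h] at hc; exact hold y c hc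
  · rw [rget_rset_ne _ _ _ _ hxy] at hc; exact hold y c hc

theorem step_z_sound (lk : Link X pr H) (inv : InvA X pr H w st Γ) (j r : ℕ) (st' : StA)
    (h : stepA pr st (.z j r) = some st') : InvA X pr H w st' Γ := by
  simp only [stepA] at h
  cases hg : (rotW (pr.rels.getD j []) r).getLast? with
  | none => rw [hg] at h; simp at h
  | some g =>
    rw [hg] at h
    simp only [strict_eq, Option.some.injEq] at h
    subst h
    have gap : ∀ c : Fin n, (chain pr st (rotW (pr.rels.getD j []) r).dropLast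
        (List.replicate (rotW (pr.rels.getD j []) r).dropLast.length 0) pr.full).testBit c = true →
        ∃ d : Fin n, c = X.φ (X.s g) d ∧ X.del w d g = 1 := by
      intro c hc
      obtain ⟨d, h1, h2, _⟩ := gap_sound lk inv _ g hg (lk.rel_getD j r) _ (by simp) c hc
      exact ⟨d, h1, by rw [h2, prod_G0_replicate]⟩
    refine ⟨?_, inv.col, inv.hP, inv.hnx, inv.ginv, inv.arf, inv.asf⟩
    apply zf_update lk _ _ _ inv.zf
    intro c hc
    rw [lor_eq, lor_eq, Nat.testBit_or, Nat.testBit_or, Bool.or_eq_true, Bool.or_eq_true] at hc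
    rcases hc with hc | hc | hc
    · exact inv.zf g c hc
    · obtain ⟨d, h1, h2⟩ := gap c hc
      rw [h1, X.del_symm, h2, inv_one]
    · rw [lk.napply_bit] at hc
      obtain ⟨d, h1, h2⟩ := gap _ hc
      have : c = d := (X.φ (X.s g)).injective h1
      rw [this]; exact h2

theorem step_nc_sound (lk : Link X pr H) (inv : InvA X pr H w st Γ) (x : α) (p : ℕ) (st' : StA)
    (h : stepA pr st (.nc x p) = some st') : ∃ Γ', InvA X pr H w st' Γ' := by
  simp only [stepA, strict_eq] at h
  obtain ⟨hc, rfl⟩ := cond_some_eq h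
  simp only [Bool.and_eq_true] at hc
  obtain ⟨hp, hz, hP⟩ := hc
  have hp' : p < n := by rw [← lk.n_eq]; simpa [Nat.blt] using hp
  have hz' := Nat.eq_of_beq_eq_true hz
  have hP' : 4 * (st.nxt + 1) ≤ 2 ^ pr.P := Nat.le_of_ble_eq_true hP
  clear hp hz hP h
  set S := Nat.shiftLeft 1 p with hS
  set S2 := Nat.land (napply (pr.nets x) S) (Nat.xor pr.full S) with hS2
  set Lx := rget st.L (pr.idx x) with hLx
  let pF : Fin n := ⟨p, hp'⟩
  have S_bit : ∀ c : Fin n, S.testBit c = decide (c = pF) := by
    intro c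
    rw [hS, shl_eq, Nat.one_shiftLeft, Nat.testBit_two_pow]
    by_cases hcp : c = pF
    · rw [hcp]; simp [pF]
    · have : ¬ (p = (c : ℕ)) := fun h' => hcp (Fin.ext h'.symm)
      simp [this, hcp]
  have S2_bit : ∀ c : Fin n, S2.testBit c = (decide (X.φ (X.s x) c = pF) && !decide (c = pF)) := by
    intro c
    rw [hS2, land_eq, xor_eq, Nat.testBit_and, Nat.testBit_xor, lk.napply_bit, S_bit, S_bit,
      lk.full_bit' c]
    simp
  have hfree : ∀ c : Fin n, (S.testBit c = true ∨ S2.testBit c = true) → Lx.testBit c = false := by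
    intro c hc
    have h1 : (Nat.land Lx (Nat.lor S S2)).testBit c = false := by rw [hz']; simp
    rw [land_eq, lor_eq, Nat.testBit_and, Nat.testBit_or] at h1
    rcases hc with hc | hc
    · rw [hc] at h1; simpa using h1
    · rw [hc] at h1; simpa using h1
  let Γ' : ℕ → G := fun l => if l = 2 * st.nxt then X.del w pF x
    else if l = 2 * st.nxt + 1 then (X.del w pF x)⁻¹ else Γ l
  have hΓ : ∀ l, l < 2 * st.nxt → Γ' l = Γ l := by
    intro l hl
    show (if l = 2 * st.nxt then X.del w pF x
      else if l = 2 * st.nxt + 1 then (X.del w pF x)⁻¹ else Γ l) = Γ l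
    rw [if_neg (by omega), if_neg (by omega)]
  have hΓ0 : Γ' (2 * st.nxt) = X.del w pF x := by
    show (if 2 * st.nxt = 2 * st.nxt then X.del w pF x
      else if 2 * st.nxt = 2 * st.nxt + 1 then (X.del w pF x)⁻¹ else Γ (2 * st.nxt)) = _
    rw [if_pos rfl]
  have hΓ1 : Γ' (2 * st.nxt + 1) = (X.del w pF x)⁻¹ := by
    show (if 2 * st.nxt + 1 = 2 * st.nxt then X.del w pF x
      else if 2 * st.nxt + 1 = 2 * st.nxt + 1 then (X.del w pF x)⁻¹ else Γ (2 * st.nxt + 1)) = _
    rw [if_neg (by omega), if_pos rfl]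
  have hPpos := inv.P_pos
  have hnx := inv.hnx
  refine ⟨Γ', inv.zf, ?_, hP', Nat.le_succ_of_le hnx, ?_, ?_, ?_⟩
  · -- columns
    show ∀ y, ColOK X pr w Γ' (st.nxt + 1) y (rget (rset st.L (pr.idx x) _) (pr.idx y))
    apply col_update lk
    · intro y; exact (inv.col y).mono hΓ (Nat.le_succ _)
    · intro c hq
      have hcN : (c : ℕ) < pr.N := lt_of_lt_of_le c.2 lk.hN
      have hv : ∀ q, q < pr.P →
          (Nat.lor (Nat.lor Lx (patt pr.N pr.full (4 * st.nxt + 1) S pr.P))
            (patt pr.N pr.full (4 * st.nxt + 3) S2 pr.P)).testBit (pr.N * q + c) =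
          (Lx.testBit (pr.N * q + c) || ((4 * st.nxt + 1).testBit q && S.testBit c) ||
            ((4 * st.nxt + 3).testBit q && S2.testBit c)) := by
        intro q hq'
        rw [lor_eq, lor_eq, Nat.testBit_or, Nat.testBit_or, testBit_patt _ _ _ _ _ _ _ hcN lk.full_lt,
          testBit_patt _ _ _ _ _ _ _ hcN lk.full_lt, lk.full_bit' c]
        simp [hq']
      by_cases h1 : c = pF
      · have hS1 : S.testBit c = true := by rw [S_bit]; simp [h1]
        have hS2' : S2.testBit c = false := by rw [S2_bit]; simp [h1]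
        have hemp := (inv.col x).empty hPpos c (hfree c (Or.inl hS1))
        refine ⟨2 * st.nxt, by omega, by omega, ?_, ?_⟩
        · intro q hq'
          rw [hv q hq', hemp q hq', hS1, hS2']
          have : 2 * (2 * st.nxt) + 1 = 4 * st.nxt + 1 := by omega
          rw [this]; simp
        · rw [hΓ0, h1]
      · by_cases h2 : X.φ (X.s x) c = pF
        · have hS1 : S.testBit c = false := by rw [S_bit]; simp [h1]
          have hS2' : S2.testBit c = true := by rw [S2_bit]; simp [h1, h2]
          have hemp := (inv.col x).empty hPpos c (hfree c (Or.inr hS2'))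
          refine ⟨2 * st.nxt + 1, by omega, by omega, ?_, ?_⟩
          · intro q hq'
            rw [hv q hq', hemp q hq', hS1, hS2']
            have : 2 * (2 * st.nxt + 1) + 1 = 4 * st.nxt + 3 := by omega
            rw [this]; simp
          · rw [hΓ1]
            have : c = X.φ (X.s x) pF := (X.φ_s_eq_iff x c pF).mp h2
            rw [this, X.del_symm]
        · have hS1 : S.testBit c = false := by rw [S_bit]; simp [h1]
          have hS2' : S2.testBit c = false := by rw [S2_bit]; simp [h2]
          have hsame : ∀ q, q < pr.P →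
              (Nat.lor (Nat.lor Lx (patt pr.N pr.full (4 * st.nxt + 1) S pr.P))
                (patt pr.N pr.full (4 * st.nxt + 3) S2 pr.P)).testBit (pr.N * q + c) =
              Lx.testBit (pr.N * q + c) := by
            intro q hq'; rw [hv q hq', hS1, hS2']; simp
          obtain ⟨q, hq1, hq2⟩ := hq
          rw [hsame q hq1] at hq2
          obtain ⟨l, e1, e2, e3, e4⟩ := inv.col x c ⟨q, hq1, hq2⟩
          refine ⟨l, e1, by omega, ?_, ?_⟩
          · intro q' hq'; rw [hsame q' hq']; exact e3 q' hq'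
          · rw [hΓ l e2]; exact e4
  · -- inverses
    intro l h2 hl
    by_cases hlt : l < 2 * st.nxt
    · have hb := invL_bounds l st.nxt h2 hlt
      rw [hΓ l hlt, hΓ _ hb.2]; exact inv.ginv l h2 hlt
    · have hl' : l = 2 * st.nxt ∨ l = 2 * st.nxt + 1 := by
        change l < 2 * (st.nxt + 1) at hl; omega
      rcases hl' with e | e
      · rw [e, invL_even, hΓ0, hΓ1]
      · rw [e, invL_odd, hΓ0, hΓ1, inv_inv]
  · intro r hr
    obtain ⟨h1, h2⟩ := inv.arf r hr
    refine ⟨fun l hl => ⟨(h1 l hl).1, ?_⟩, ?_⟩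
    · have := (h1 l hl).2
      change l < 2 * (st.nxt + 1); omega
    · have e : r.map Γ' = r.map Γ := List.map_congr_left (fun l hl => hΓ l (h1 l hl).2)
      rw [e]; exact h2
  · intro r hr
    obtain ⟨h1, h2⟩ := inv.asf r hr
    refine ⟨fun l hl => ⟨(h1 l hl).1, ?_⟩, ?_⟩
    · have := (h1 l hl).2
      change l < 2 * (st.nxt + 1); omega
    · have e : r.map Γ' = r.map Γ := List.map_congr_left (fun l hl => hΓ l (h1 l hl).2)
      rw [e]; exact h2

theorem step_pc_sound (lk : Link X pr H) (inv : InvA X pr H w st Γ) (j r i l : ℕ) (st' : StA)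
    (h : stepA pr st (.pc j r i l) = some st') : InvA X pr H w st' Γ := by
  simp only [stepA] at h
  cases hg : (rotW (pr.rels.getD j []) r).getLast? with
  | none => rw [hg] at h; simp at h
  | some g =>
    rw [hg] at h
    simp only [strict_eq] at h
    obtain ⟨hc, rfl⟩ := cond_some_eq h
    simp only [Bool.and_eq_true] at hc
    obtain ⟨hl2, hlt, hi⟩ := hc
    have hl2' : 2 ≤ l := Nat.le_of_ble_eq_true hl2
    have hlt' : l < 2 * st.nxt := by simpa [Nat.blt] using hlt
    have hi' : i < (rotW (pr.rels.getD j []) r).dropLast.length := by simpa [Nat.blt] using hi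
    clear hl2 hlt hi h
    set W := rotW (pr.rels.getD j []) r with hW
    set ls := (List.replicate W.dropLast.length 0).set i l with hls
    set A := chain pr st W.dropLast ls pr.full with hA
    set Lg := rget st.L (pr.idx g) with hLg
    set nLb := Nat.xor pr.full (Nat.land Lg pr.full) with hnLb
    set New := Nat.land A nLb with hNew
    set New2 := Nat.land (Nat.land (napply (pr.nets g) New) nLb) (Nat.xor pr.full New) with hNew2
    have hl0 : l ≠ 0 := by omega
    have hprod : (ls.map (G0 Γ)).prod = Γ l := by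
      rw [hls, prod_G0_set _ _ _ _ hi']; simp [G0, hl0]
    have hlen : W.dropLast.length = ls.length := by simp [hls]
    have gap : ∀ c : Fin n, A.testBit c = true →
        ∃ d : Fin n, c = X.φ (X.s g) d ∧ X.del w d g = Γ l := by
      intro c hc
      obtain ⟨d, h1, h2, _⟩ := gap_sound lk inv W g hg (lk.rel_getD j r) ls hlen c hc
      exact ⟨d, h1, by rw [h2, hprod]⟩
    have nLb_bit : ∀ c : Fin n, nLb.testBit c = !Lg.testBit c := by
      intro c
      rw [hnLb, xor_eq, land_eq, Nat.testBit_xor, Nat.testBit_and, lk.full_bit' c]; simp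
    have New_bit : ∀ c : Fin n, New.testBit c = (A.testBit c && !Lg.testBit c) := by
      intro c; rw [hNew, land_eq, Nat.testBit_and, nLb_bit]
    have New2_bit : ∀ c : Fin n, New2.testBit c =
        (New.testBit (X.φ (X.s g) c) && !Lg.testBit c && !New.testBit c) := by
      intro c
      rw [hNew2, land_eq, land_eq, xor_eq, Nat.testBit_and, Nat.testBit_and, Nat.testBit_xor,
        lk.napply_bit, nLb_bit, lk.full_bit' c]
      simp
    have hPpos := inv.P_pos
    refine ⟨inv.zf, ?_, inv.hP, inv.hnx, inv.ginv, inv.arf, inv.asf⟩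
    show ∀ y, ColOK X pr w Γ st.nxt y (rget (rset st.L (pr.idx g) _) (pr.idx y))
    apply col_update lk _ _ _ _ _ inv.col
    intro c hq
    have hcN : (c : ℕ) < pr.N := lt_of_lt_of_le c.2 lk.hN
    have hv : ∀ q, q < pr.P →
        (Nat.lor (Nat.lor Lg (patt pr.N pr.full (2 * invL l + 1) New pr.P))
          (patt pr.N pr.full (2 * l + 1) New2 pr.P)).testBit (pr.N * q + c) =
        (Lg.testBit (pr.N * q + c) || ((2 * invL l + 1).testBit q && New.testBit c) ||
          ((2 * l + 1).testBit q && New2.testBit c)) := by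
      intro q hq'
      rw [lor_eq, lor_eq, Nat.testBit_or, Nat.testBit_or, testBit_patt _ _ _ _ _ _ _ hcN lk.full_lt,
        testBit_patt _ _ _ _ _ _ _ hcN lk.full_lt, lk.full_bit' c]
      simp [hq']
    by_cases h1 : New.testBit c = true
    · have h1' := h1
      rw [New_bit, Bool.and_eq_true] at h1'
      have hLc : Lg.testBit c = false := by simpa using h1'.2
      have hN2 : New2.testBit c = false := by rw [New2_bit, h1]; simp
      have hemp := (inv.col g).empty hPpos c hLc
      obtain ⟨d, hd1, hd2⟩ := gap c h1'.1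
      have hb := invL_bounds l st.nxt hl2' hlt'
      refine ⟨invL l, hb.1, hb.2, ?_, ?_⟩
      · intro q hq'
        rw [hv q hq', hemp q hq', h1, hN2]; simp
      · rw [hd1, X.del_symm, hd2, inv.ginv l hl2' hlt']
    · have h1f : New.testBit c = false := by simpa using h1
      by_cases h2 : New2.testBit c = true
      · have h2' := h2
        rw [New2_bit, Bool.and_eq_true, Bool.and_eq_true] at h2'
        have hLc : Lg.testBit c = false := by simpa using h2'.1.2
        have hemp := (inv.col g).empty hPpos c hLc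
        have h3 := h2'.1.1
        rw [New_bit, Bool.and_eq_true] at h3
        obtain ⟨d, hd1, hd2⟩ := gap _ h3.1
        have hcd : c = d := (X.φ (X.s g)).injective hd1
        refine ⟨l, hl2', hlt', ?_, ?_⟩
        · intro q hq'
          rw [hv q hq', hemp q hq', h1f, h2]; simp
        · rw [hcd]; exact hd2
      · have h2f : New2.testBit c = false := by simpa using h2
        have hsame : ∀ q, q < pr.P →
            (Nat.lor (Nat.lor Lg (patt pr.N pr.full (2 * invL l + 1) New pr.P))
              (patt pr.N pr.full (2 * l + 1) New2 pr.P)).testBit (pr.N * q + c) =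
            Lg.testBit (pr.N * q + c) := by
          intro q hq'; rw [hv q hq', h1f, h2f]; simp
        obtain ⟨q, hq1, hq2⟩ := hq
        rw [hsame q hq1] at hq2
        obtain ⟨l', e1, e2, e3, e4⟩ := inv.col g c ⟨q, hq1, hq2⟩
        exact ⟨l', e1, e2, fun q' hq' => by rw [hsame q' hq']; exact e3 q' hq', e4⟩

theorem filter_bounds (ls : List ℕ) (m : ℕ) (h4 : ∀ l ∈ ls, l ≠ 0 → 2 ≤ l ∧ l < 2 * m) :
    ∀ l ∈ ls.filter (fun l => !(Nat.beq l 0)), 2 ≤ l ∧ l < 2 * m := by
  intro l hl
  rw [List.mem_filter] at hl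
  apply h4 l hl.1
  intro h0
  rw [h0] at hl
  exact Bool.noConfusion hl.2

theorem step_xr_sound (lk : Link X pr H) (inv : InvA X pr H w st Γ) (j r : ℕ) (ls : List ℕ)
    (st' : StA) (h : stepA pr st (.xr j r ls) = some st') : InvA X pr H w st' Γ := by
  simp only [stepA] at h
  obtain ⟨hc, rfl⟩ := cond_some_eq h
  simp only [Bool.and_eq_true] at hc
  obtain ⟨hlen, hnz⟩ := hc
  have hlen' : ls.length = (rotW (pr.rels.getD j []) r).length := Nat.eq_of_beq_eq_true hlen
  have hnz' : 1 ≤ Nat.land (chain pr st (rotW (pr.rels.getD j []) r) ls pr.full) pr.full := by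
    simpa [Nat.blt] using hnz
  obtain ⟨b, hb⟩ := Nat.exists_testBit_of_ne_zero (Nat.pos_iff_ne_zero.mp hnz')
  rw [land_eq, Nat.testBit_and, Bool.and_eq_true, lk.full_bit] at hb
  have hbn : b < n := by simpa using hb.2
  obtain ⟨d, _, h2, h3, h4⟩ := chain_sound lk inv _ ls pr.full hlen'.symm ⟨b, hbn⟩ hb.1
  have hev := lk.rel_getD j r
  rw [hev] at h2 h3
  have hcd : (⟨b, hbn⟩ : Fin n) = d := by rw [h2]; simp
  rw [hcd] at h3
  have hprod : (ls.map (G0 Γ)).prod = 1 := by rw [← h3]; group
  refine ⟨inv.zf, inv.col, inv.hP, inv.hnx, inv.ginv, ?_, inv.asf⟩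
  intro r' hr'
  rcases List.mem_cons.mp hr' with h5 | h5
  · rw [h5]
    exact ⟨filter_bounds ls st.nxt h4, by rw [← prod_G0_filter]; exact hprod⟩
  · exact inv.arf r' h5

theorem step_xs_sound (lk : Link X pr H) (hw0 : w 0 = 1) (inv : InvA X pr H w st Γ) (j : ℕ)
    (ls : List ℕ) (st' : StA) (h : stepA pr st (.xs j ls) = some st') : InvA X pr H w st' Γ := by
  simp only [stepA] at h
  obtain ⟨hc, rfl⟩ := cond_some_eq h
  simp only [Bool.and_eq_true] at hc
  obtain ⟨hlen, hnz⟩ := hc
  have hlen' : ls.length = (pr.subs.getD j []).length := Nat.eq_of_beq_eq_true hlen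
  have hnz' : 1 ≤ Nat.land (chain pr st (pr.subs.getD j []) ls 1) pr.full := by
    simpa [Nat.blt] using hnz
  obtain ⟨b, hb⟩ := Nat.exists_testBit_of_ne_zero (Nat.pos_iff_ne_zero.mp hnz')
  rw [land_eq, Nat.testBit_and, Bool.and_eq_true, lk.full_bit] at hb
  have hbn : b < n := by simpa using hb.2
  obtain ⟨d, h1, h2, h3, h4⟩ := chain_sound lk inv _ ls 1 hlen'.symm ⟨b, hbn⟩ hb.1
  have hev := lk.sub_getD j
  have hd : d = 0 := by
    apply Fin.ext
    rw [Nat.testBit_one_eq_true_iff_self_eq_zero.mp h1]; simp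
  have hfix := lk.fix _ (H.inv_mem hev)
  rw [hd, hfix] at h2
  rw [h2, hd, hw0] at h3
  have hprod : (ls.map (G0 Γ)).prod ∈ H := by
    rw [← h3]; simpa using hev
  refine ⟨inv.zf, inv.col, inv.hP, inv.hnx, inv.ginv, inv.arf, ?_⟩
  intro r' hr'
  rcases List.mem_cons.mp hr' with h5 | h5
  · rw [h5]
    exact ⟨filter_bounds ls st.nxt h4, by rw [← prod_G0_filter]; exact hprod⟩
  · exact inv.asf r' h5

theorem stepA_sound (lk : Link X pr H) (hw0 : w 0 = 1) (inv : InvA X pr H w st Γ) (e : StepA α)
    (st' : StA) (h : stepA pr st e = some st') : ∃ Γ', InvA X pr H w st' Γ' := by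
  cases e with
  | z j r => exact ⟨Γ, step_z_sound lk inv j r st' h⟩
  | nc x p => exact step_nc_sound lk inv x p st' h
  | pc j r i l => exact ⟨Γ, step_pc_sound lk inv j r i l st' h⟩
  | xr j r ls => exact ⟨Γ, step_xr_sound lk inv j r ls st' h⟩
  | xs j ls => exact ⟨Γ, step_xs_sound lk hw0 inv j ls st' h⟩

theorem runA_sound (lk : Link X pr H) (hw0 : w 0 = 1) : ∀ (steps : List (StepA α)) (st : StA)
    (Γ : ℕ → G), InvA X pr H w st Γ → ∀ st', runA pr st steps = some st' →
    ∃ Γ', InvA X pr H w st' Γ'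
  | [], st, Γ, inv, st', h => by
    simp only [runA, Option.some.injEq] at h
    subst h; exact ⟨Γ, inv⟩
  | e :: es, st, Γ, inv, st', h => by
    simp only [runA] at h
    cases hs : stepA pr st e with
    | none => rw [hs] at h; simp at h
    | some st1 =>
      rw [hs] at h
      obtain ⟨Γ1, inv1⟩ := stepA_sound lk hw0 inv e st1 hs
      exact runA_sound lk hw0 es st1 Γ1 inv1 st' h

/-- soundness of phase A. -/
theorem checkA_sound (lk : Link X pr H) (nreg : ℕ) (tree : List α) (steps : List (StepA α))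
    (AR AS : List (List ℕ)) (nclass : ℕ) (h : checkA pr nreg tree steps AR AS nclass = true) :
    ∃ (w : Fin n → G) (Γ : ℕ → G), w 0 = 1 ∧ (∀ c, (X.φ (w c))⁻¹ 0 = c) ∧
      (∀ l, 2 ≤ l → l < 2 * nclass → Γ (invL l) = (Γ l)⁻¹) ∧
      (∀ r ∈ AR, (r.map Γ).prod = 1) ∧ (∀ r ∈ AS, (r.map Γ).prod ∈ H) ∧
      ∀ x c, X.del w c x = 1 ∨ ∃ l, 2 ≤ l ∧ l < 2 * nclass ∧ X.del w c x = Γ l := by
  unfold checkA at h
  obtain ⟨w, tinv⟩ := runTree_sound lk tree (fun _ => 1) 1 (List.replicate nreg 0)
    (treeInv_init nreg)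
  generalize runTree pr (1, List.replicate nreg 0) tree = KZ at h tinv
  obtain ⟨K, Z⟩ := KZ
  simp only [Bool.and_eq_true] at h
  obtain ⟨⟨hK, hP4⟩, hrun⟩ := h
  cases hr : runA pr ⟨Z, List.replicate nreg 0, 1, [], []⟩ steps with
  | none => rw [hr] at hrun; simp at hrun
  | some st =>
    rw [hr] at hrun
    simp only [Bool.and_eq_true, decide_eq_true_eq] at hrun
    obtain ⟨hcov, har, has, hnx⟩ := hrun
    have hKall : ∀ c : Fin n, K.testBit c = true := by
      intro c
      have h1 := congrArg (fun v => Nat.testBit v c) (Nat.eq_of_beq_eq_true hK)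
      simp only [land_eq, Nat.testBit_and, lk.full_bit' c] at h1
      simpa using h1
    have inv0 : InvA X pr H w ⟨Z, List.replicate nreg 0, 1, [], []⟩ (fun _ => (1 : G)) := by
      refine ⟨fun x c hc => (tinv.zf x c hc).2.2, ?_, ?_, le_refl 1, ?_, ?_, ?_⟩
      · intro x c hq
        obtain ⟨q, _, hq2⟩ := hq
        rw [rget_replicate] at hq2; simp at hq2
      · exact Nat.le_of_ble_eq_true hP4
      · intro l h1 h2
        change l < 2 * 1 at h2; omega
      · intro r hr'; simp at hr'
      · intro r hr'; simp at hr'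
    obtain ⟨Γ, inv⟩ := runA_sound lk tinv.w0 steps _ _ inv0 st hr
    have hnx' : st.nxt = nclass := Nat.eq_of_beq_eq_true hnx
    refine ⟨w, Γ, tinv.w0, fun c => tinv.reach c (hKall c), ?_, ?_, ?_, ?_⟩
    · rw [← hnx']; exact inv.ginv
    · intro r hr'
      exact (inv.arf r (by rw [har]; exact List.mem_reverse.mpr hr')).2
    · intro r hr'
      exact (inv.asf r (by rw [has]; exact List.mem_reverse.mpr hr')).2
    · intro x c
      unfold coverOK at hcov
      rw [List.all_eq_true] at hcov
      have h1 := congrArg (fun v => Nat.testBit v c) (Nat.eq_of_beq_eq_true (hcov x (lk.letters x)))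
      simp only [land_eq, lor_eq, Nat.testBit_and, Nat.testBit_or, lk.full_bit' c] at h1
      have h2 : (rget st.Z (pr.idx x)).testBit c = true ∨ (rget st.L (pr.idx x)).testBit c = true := by
        simpa using h1
      rcases h2 with h2 | h2
      · left; exact inv.zf x c h2
      · right
        obtain ⟨l, e1, e2, _, e4⟩ := inv.col x c ⟨0, inv.P_pos, by simpa using h2⟩
        exact ⟨l, e1, by rw [← hnx']; exact e2, e4⟩

end Cfsg.Agent.Lib.Helper13.CE
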