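import Cfsg.Agent.Lib.Helper13.CosetSimple

set_option autoImplicit false

/-!
Orders of groups from chains of pointwise stabilisers in the permutation action of a certificate,
with generators given by words, and simplicity of a group with a faithful primitive action from a
prime dividing the degree of the action whose full power in the order of the group divides the
degree.
-/

namespace Cfsg.Agent.Lib.Helper13.CE

variable {α : Type} {G : Type*} [Group G] {n k : ℕ}

/-! ### chains of pointwise stabilisers -/

/-- the pointwise stabiliser of a list of points. -/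
def Act.pstab (X : Act α G n k) (bs : List ℕ) : Subgroup G where
  carrier := {g | ∀ b ∈ bs, ∀ c : Fin n, (c : ℕ) = b → X.φ g c = c}
  one_mem' := by
    intro b _ c _
    rw [map_one]; rfl
  mul_mem' := by
    intro g g' hg hg' b hb c hc
    rw [map_mul, Equiv.Perm.coe_mul, Function.comp_apply, hg' b hb c hc, hg b hb c hc]
  inv_mem' := by
    intro g hg b hb c hc
    rw [map_inv]
    exact Equiv.Perm.inv_eq_iff_eq.mpr (hg b hb c hc).symm

/-- one level: the words `ws` fix the points `bs`, and the orbit of `b` under them has at least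
`m` points. -/
def lvlW (nets : α → List (ℕ × ℕ)) (n : ℕ) (bs : List ℕ) (ws : List (List α)) (b : ℕ)
    (steps : List ℕ) (m : ℕ) : Bool :=
  Nat.blt b n && (ws.all (fun W => bs.all (fun p => Nat.beq (wpos nets W p) p)) &&
    Nat.ble m (cnt (orbBFS nets ws steps (Nat.shiftLeft 1 b)) n))

theorem Act.lvlW_sound (X : Act α G n k) [Finite G] (bs : List ℕ) (ws : List (List α))
    (b : ℕ) (steps : List ℕ) (m : ℕ) (h : lvlW X.nets n bs ws b steps m = true) :
    m * Nat.card (X.pstab (b :: bs)) ≤ Nat.card (X.pstab bs) := by
  simp only [lvlW, Bool.and_eq_true, List.all_eq_true] at h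
  obtain ⟨hb, hfixw, hm⟩ := h
  have hb' : b < n := by simpa [Nat.blt] using hb
  let bF : Fin n := ⟨b, hb'⟩
  have hfix : ∀ h ∈ X.pstab (b :: bs), X.φ h bF = bF :=
    fun h hh => hh b List.mem_cons_self bF rfl
  have hle : X.pstab (b :: bs) ≤ X.pstab bs :=
    fun g hg p hp c hc => hg p (List.mem_cons_of_mem _ hp) c hc
  have horb := X.orbBFS_sound (X.pstab bs) ws (by
      intro W hW p hp c hc
      apply Fin.ext
      rw [X.φ_ev_val, hc]
      exact Nat.eq_of_beq_eq_true (hfixw W hW p hp)) bF steps (Nat.shiftLeft 1 b) (by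
      intro c hc
      rw [shl_eq, Nat.one_shiftLeft, Nat.testBit_two_pow] at hc
      have : (c : ℕ) = b := by
        have := hc; simp at this; exact this.symm
      exact ⟨1, (X.pstab bs).one_mem, by rw [map_one]; exact Fin.ext (by simp [bF, this])⟩)
  have hcnt := cnt_le_ncard _ n {c : Fin n | ∃ h ∈ X.pstab bs, X.φ h bF = c} horb
  have hm' : m ≤ Set.ncard {c : Fin n | ∃ h ∈ X.pstab bs, X.φ h bF = c} :=
    le_trans (Nat.le_of_ble_eq_true hm) hcnt
  exact le_trans (Nat.mul_le_mul_right _ hm') (card_orbit_mul_le X.φ _ _ hle bF hfix)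

/-- a chain of levels: generating words, base point, orbit steps, orbit size. -/
def chainW (nets : α → List (ℕ × ℕ)) (n : ℕ) :
    List ℕ → List (List (List α) × ℕ × List ℕ × ℕ) → Bool
  | _, [] => true
  | bs, lv :: rest =>
    lvlW nets n bs lv.1 lv.2.1 lv.2.2.1 lv.2.2.2 && chainW nets n (lv.2.1 :: bs) rest

theorem Act.chainW_sound (X : Act α G n k) [Finite G] :
    ∀ (bs : List ℕ) (lv : List (List (List α) × ℕ × List ℕ × ℕ)),
      chainW X.nets n bs lv = true →
      (lv.map (fun l => l.2.2.2)).prod ≤ Nat.card (X.pstab bs)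
  | bs, [], _ => by
    simp only [List.map_nil, List.prod_nil]
    exact Nat.card_pos
  | bs, lv :: rest, h => by
    simp only [chainW, Bool.and_eq_true] at h
    have h1 := X.lvlW_sound bs lv.1 lv.2.1 lv.2.2.1 lv.2.2.2 h.1
    have h2 := X.chainW_sound (lv.2.1 :: bs) rest h.2
    simp only [List.map_cons, List.prod_cons]
    exact le_trans (Nat.mul_le_mul_left _ h2) h1

/-- from an upper bound on the order and a chain of pointwise stabilisers in the action: the
action is faithful and the order is known. -/
theorem Act.injective_of_chainW {G : Type*} [Group G] [Finite G] {n k : ℕ} (X : Act α G n k)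
    (lv : List (List (List α) × ℕ × List ℕ × ℕ))
    (hchain : chainW X.nets n [] lv = true) (N : ℕ) (hN : Nat.card G ≤ N)
    (hprod : N ≤ (lv.map (fun l => l.2.2.2)).prod) :
    Function.Injective X.φ ∧ Nat.card G = N := by
  have h1 : (lv.map (fun l => l.2.2.2)).prod ≤ Nat.card (X.toRange.pstab []) :=
    X.toRange.chainW_sound [] lv hchain
  have h2 : Nat.card (X.toRange.pstab []) ≤ Nat.card X.φ.range :=
    Nat.card_le_card_of_injective _ Subtype.val_injective
  have h3 : Nat.card X.φ.range ≤ Nat.card G :=
    Nat.card_le_card_of_surjective _ X.φ.rangeRestrict_surjective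
  have hb := Function.Surjective.bijective_of_nat_card_le X.φ.rangeRestrict_surjective
    (by omega)
  refine ⟨?_, by omega⟩
  intro a a' e
  apply hb.1
  exact Subtype.ext e

/-! ### simplicity from a prime -/

/-- in a finite group, an element whose `p`-th power is trivial lies in every normal subgroup
whose index is prime to the prime `p`. -/
theorem mem_normal_of_pow_prime {G : Type*} [Group G] [Finite G] (p : ℕ) (hp : p.Prime)
    (N : Subgroup G) [N.Normal] (hN : ¬ p ∣ N.index) (g : G) (hg : g ^ p = 1) : g ∈ N := by
  have h1 : orderOf (QuotientGroup.mk g : G ⧸ N) ∣ p :=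
    orderOf_dvd_of_pow_eq_one (by rw [← QuotientGroup.mk_pow, hg]; rfl)
  have h2 : orderOf (QuotientGroup.mk g : G ⧸ N) ∣ N.index := by
    rw [Subgroup.index_eq_card]
    exact orderOf_dvd_natCard _
  rcases (Nat.dvd_prime hp).mp h1 with h | h
  · rw [orderOf_eq_one_iff] at h
    exact (QuotientGroup.eq_one_iff g).mp h
  · rw [h] at h2
    exact absurd h2 hN

/-- simplicity of a finite group: every non-trivial normal subgroup has order divisible by `m`,
the index of such a subgroup is then prime to `p`, and every element of a generating set is a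
product of elements whose `p`-th powers are trivial. -/
theorem isSimpleGroup_of_prime {G : Type*} [Group G] [Finite G] (p m : ℕ) (hp : p.Prime)
    (hm : ∀ j : ℕ, m * j = Nat.card G → ¬ p ∣ j) (hG : Nat.card G ≠ 1)
    (hN : ∀ N : Subgroup G, N.Normal → N ≠ ⊥ → m ∣ Nat.card N)
    (S : Set G) (hS : Subgroup.closure S = ⊤)
    (hy : ∀ s ∈ S, ∃ zs : List G, (∀ z ∈ zs, z ^ p = 1) ∧ (s * zs.prod) ^ p = 1) :
    IsSimpleGroup G := by
  have hnt : Nontrivial G := by
    by_contra hnt
    rw [not_nontrivial_iff_subsingleton] at hnt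
    exact hG Nat.card_unique
  refine { toNontrivial := hnt, eq_bot_or_eq_top_of_normal := ?_ }
  intro N hNn
  by_cases hNb : N = ⊥
  · exact Or.inl hNb
  · right
    obtain ⟨c, hc⟩ := hN N hNn hNb
    have hidx : ¬ p ∣ N.index := by
      have h1 := N.card_mul_index
      have h2 : ¬ p ∣ c * N.index := hm (c * N.index) (by rw [← h1, hc]; ring)
      exact fun h => h2 (Dvd.dvd.mul_left h c)
    rw [eq_top_iff, ← hS, Subgroup.closure_le]
    intro s hs
    obtain ⟨zs, hz1, hz2⟩ := hy s hs
    have h3 : zs.prod ∈ N :=
      N.list_prod_mem (fun z hz => mem_normal_of_pow_prime p hp N hidx z (hz1 z hz))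
    have h4 := mem_normal_of_pow_prime p hp N hidx (s * zs.prod) hz2
    have h5 : s = s * zs.prod * zs.prod⁻¹ := by group
    show s ∈ N
    rw [h5]
    exact N.mul_mem h4 (N.inv_mem h3)

/-! ### witnesses given by words -/

theorem Act.ev_flatten (X : Act α G n k) (ys : List (List α)) :
    X.ev ys.flatten = (ys.map X.ev).prod := by
  induction ys with
  | nil => simp
  | cons Y ys ih => rw [List.flatten_cons, Act.ev_append, ih, List.map_cons, List.prod_cons]

/-- certificate: the `p`-th powers of the words `ys` and of the word `x :: ys.flatten` act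
trivially. -/
def witOK (nets : α → List (ℕ × ℕ)) (k p : ℕ) (x : α) (ys : List (List α)) : Bool :=
  ys.all (fun Y => relOK nets k (List.replicate p Y).flatten) &&
    relOK nets k (List.replicate p (x :: ys.flatten)).flatten

theorem Act.wit_sound (X : Act α G n k) (hinj : Function.Injective X.φ) (p : ℕ) (x : α)
    (ys : List (List α)) (h : witOK X.nets k p x ys = true) :
    ∃ zs : List G, (∀ z ∈ zs, z ^ p = 1) ∧ (X.s x * zs.prod) ^ p = 1 := by
  simp only [witOK, Bool.and_eq_true, List.all_eq_true] at h
  refine ⟨ys.map X.ev, ?_, ?_⟩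
  · intro z hz
    obtain ⟨Y, hY, rfl⟩ := List.mem_map.mp hz
    rw [← X.ev_replicate]
    exact X.ev_eq_one_of_inj hinj _ (h.1 Y hY)
  · have h1 := X.ev_eq_one_of_inj hinj _ h.2
    rw [X.ev_replicate, Act.ev_cons, X.ev_flatten] at h1
    exact h1

/-! ### normal subgroups of a group with a faithful primitive action -/

/-- a non-trivial normal subgroup of a group with a faithful primitive action on `n` points has
order divisible by `n`. -/
theorem Act.dvd_card_of_normal [NeZero n] [Finite G] (X : Act α G n k)
    (hinj : Function.Injective X.φ)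
    (hprim : @MulAction.IsPreprimitive G (Fin n) (X.mulAction).toSMul)
    (N : Subgroup G) (hNn : N.Normal) (hN : N ≠ ⊥) : n ∣ Nat.card N := by
  let _ := X.mulAction
  have hfix : MulAction.fixedPoints N (Fin n) ≠ Set.univ := by
    intro hu
    apply hN
    rw [eq_bot_iff]
    intro g hg
    rw [Subgroup.mem_bot]
    apply hinj
    rw [map_one]
    ext c
    have h1 : c ∈ MulAction.fixedPoints N (Fin n) := by rw [hu]; trivial
    have h2 : (⟨g, hg⟩ : N) • c = c := h1 ⟨g, hg⟩
    have h3 : X.φ g c = c := h2
    rw [h3]; rfl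
  have htr : MulAction.IsPretransitive N (Fin n) :=
    MulAction.IsQuasiPreprimitive.isPretransitive_of_normal hfix
  have h4 := MulAction.index_stabilizer_of_transitive N (0 : Fin n)
  rw [Nat.card_eq_fintype_card, Fintype.card_fin] at h4
  rw [← h4]
  exact Subgroup.index_dvd_card _

/-- simplicity of a finite group with a faithful primitive action on `n` points, from a prime
`p` such that `p` does not divide the order of the group divided by `n`, and witnesses. -/
theorem Act.isSimpleGroup_of_prime [NeZero n] [Finite G] (X : Act α G n k)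
    (hinj : Function.Injective X.φ)
    (hprim : @MulAction.IsPreprimitive G (Fin n) (X.mulAction).toSMul)
    (hgen : Subgroup.closure (Set.range X.s) = ⊤) (p : ℕ) (hp : p.Prime)
    (hm : ∀ j : ℕ, n * j = Nat.card G → ¬ p ∣ j) (hG : Nat.card G ≠ 1)
    (wit : α → List (List α)) (hw : ∀ x, witOK X.nets k p x (wit x) = true) :
    IsSimpleGroup G := by
  apply Cfsg.Agent.Lib.Helper13.CE.isSimpleGroup_of_prime p n hp hm hG
    (fun N hNn hN => X.dvd_card_of_normal hinj hprim N hNn hN) (Set.range X.s) hgen
  rintro _ ⟨x, rfl⟩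
  exact X.wit_sound hinj p x (wit x) (hw x)

end Cfsg.Agent.Lib.Helper13.CE
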