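import Mathlib

set_option autoImplicit false

/-!
Bit-parallel permutation networks (delta swaps) on natural numbers viewed as bit vectors.
Used by the coset-enumeration certificates of helper13.
-/

namespace Cfsg.Agent.Lib.Helper13.CE

/-- force the evaluation of `t` before continuing (only matters for kernel reduction). -/
def strict {β : Type} (t : ℕ) (k : ℕ → β) : β := cond (Nat.ble t t) (k t) (k t)

theorem strict_eq {β : Type} (t : ℕ) (k : ℕ → β) : strict t k = k t := by
  unfold strict; cases Nat.ble t t <;> rfl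

theorem land_eq (a b : ℕ) : Nat.land a b = a &&& b := rfl
theorem lor_eq (a b : ℕ) : Nat.lor a b = a ||| b := rfl
theorem xor_eq (a b : ℕ) : Nat.xor a b = a ^^^ b := rfl
theorem shl_eq (a b : ℕ) : Nat.shiftLeft a b = a <<< b := rfl
theorem shr_eq (a b : ℕ) : Nat.shiftRight a b = a >>> b := rfl

/-- one delta-swap stage: bits `j` and `j+d` are exchanged for every `j` in the mask `m`. -/
def dswap (m d x : ℕ) : ℕ :=
  Nat.xor (Nat.xor x (Nat.land (Nat.xor (Nat.shiftRight x d) x) m))
    (Nat.shiftLeft (Nat.land (Nat.xor (Nat.shiftRight x d) x) m) d)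

/-- the position map of a delta-swap stage. -/
def dpos (m d j : ℕ) : ℕ :=
  if m.testBit j then j + d else if d ≤ j ∧ m.testBit (j - d) then j - d else j

theorem testBit_dswap (m d x j : ℕ) (hv : Nat.land m (Nat.shiftLeft m d) = 0) :
    (dswap m d x).testBit j = x.testBit (dpos m d j) := by
  have hv' : ∀ i, ¬ (m.testBit i = true ∧ d ≤ i ∧ m.testBit (i - d) = true) := by
    intro i ⟨h1, h2, h3⟩
    have : (m &&& (m <<< d)).testBit i = true := by
      rw [Nat.testBit_and, Nat.testBit_shiftLeft]; simp [h1, h2, h3]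
    rw [land_eq, shl_eq] at hv
    rw [hv] at this; simp at this
  unfold dswap dpos
  simp only [land_eq, xor_eq, shl_eq, shr_eq, Nat.testBit_xor, Nat.testBit_and,
    Nat.testBit_shiftLeft, Nat.testBit_shiftRight]
  by_cases h1 : m.testBit j = true
  · have h3 : ¬ (d ≤ j ∧ m.testBit (j - d) = true) := fun h => hv' j ⟨h1, h.1, h.2⟩
    by_cases hd : d ≤ j
    · have h4 : m.testBit (j - d) = false := by
        by_contra h; exact h3 ⟨hd, by simpa using h⟩
      simp only [h1, hd, h4, Nat.add_comm]
      simp
      cases x.testBit j <;> cases x.testBit (d + j) <;> rfl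
    · simp only [h1, hd, Nat.add_comm]
      simp
      cases x.testBit j <;> cases x.testBit (d + j) <;> rfl
  · have h1' : m.testBit j = false := by simpa using h1
    by_cases hd : d ≤ j
    · by_cases h2 : m.testBit (j - d) = true
      · have e : d + (j - d) = j := by omega
        simp [h1', hd, h2, e]
      · have h2' : m.testBit (j - d) = false := by simpa using h2
        simp [h1', hd, h2']
    · simp [h1', hd]

/-- a network: list of stages `(mask, shift)`, applied in order. -/
def napply : List (ℕ × ℕ) → ℕ → ℕ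
  | [], x => x
  | st :: rest, x => napply rest (dswap st.1 st.2 x)

def npos : List (ℕ × ℕ) → ℕ → ℕ
  | [], j => j
  | st :: rest, j => dpos st.1 st.2 (npos rest j)

def nvalid : List (ℕ × ℕ) → Bool
  | [] => true
  | st :: rest => Nat.beq (Nat.land st.1 (Nat.shiftLeft st.1 st.2)) 0 && nvalid rest

theorem testBit_napply (net : List (ℕ × ℕ)) (hv : nvalid net = true) (x j : ℕ) :
    (napply net x).testBit j = x.testBit (npos net j) := by
  induction net generalizing x with
  | nil => rfl
  | cons st rest ih =>
    simp only [nvalid, Bool.and_eq_true] at hv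
    have h0 : Nat.land st.1 (Nat.shiftLeft st.1 st.2) = 0 := Nat.eq_of_beq_eq_true hv.1
    simp only [napply, npos]
    rw [ih hv.2, testBit_dswap _ _ _ _ h0]

/-- bits `j < 2^k` with `j.testBit b`. -/
def planeD : ℕ → ℕ → ℕ
  | 0, _ => 0
  | k+1, b => cond (Nat.beq b k) (Nat.shiftLeft (2 ^ (2 ^ k) - 1) (2 ^ k))
      (cond (Nat.blt b k) (Nat.lor (planeD k b) (Nat.shiftLeft (planeD k b) (2 ^ k))) 0)

theorem planeD_lt (k b : ℕ) : planeD k b < 2 ^ (2 ^ k) := by
  induction k with
  | zero => simp [planeD]
  | succ k ih =>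
    unfold planeD
    have e : 2 ^ (2 ^ (k+1)) = 2 ^ (2 ^ k) * 2 ^ (2 ^ k) := by rw [← pow_add]; congr 1; ring
    have hpos : 0 < 2 ^ (2 ^ k) := by positivity
    cases h1 : Nat.beq b k
    · cases h2 : Nat.blt b k
      · simp only [cond_false]; positivity
      · simp only [cond_false, cond_true, lor_eq, shl_eq]
        apply Nat.or_lt_two_pow
        · exact lt_of_lt_of_le ih (Nat.pow_le_pow_right (by norm_num) (by rw [pow_succ]; omega))
        · rw [Nat.shiftLeft_eq, e]; exact Nat.mul_lt_mul_of_pos_right ih hpos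
    · simp only [cond_true, shl_eq]
      rw [Nat.shiftLeft_eq, e]
      exact Nat.mul_lt_mul_of_pos_right (by omega) hpos

theorem testBit_lt_succ_pow (j k : ℕ) (hj : j < 2 ^ (k+1)) : j.testBit k = decide (2 ^ k ≤ j) := by
  by_cases h : 2 ^ k ≤ j
  · have : j = 2 ^ k + (j - 2 ^ k) := by omega
    have h2 : j - 2 ^ k < 2 ^ k := by rw [pow_succ] at hj; omega
    rw [this, Nat.testBit_two_pow_add_eq, Nat.testBit_lt_two_pow h2]; simp [h]
  · have : j < 2 ^ k := by omega
    rw [Nat.testBit_lt_two_pow this]; simp [h]

theorem testBit_planeD (k b j : ℕ) (hb : b < k) (hj : j < 2 ^ k) :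
    (planeD k b).testBit j = j.testBit b := by
  induction k generalizing j with
  | zero => omega
  | succ k ih =>
    unfold planeD
    cases h1 : Nat.beq b k
    · have hbk : b ≠ k := Nat.ne_of_beq_eq_false h1
      have hlt : b < k := by omega
      have h2 : Nat.blt b k = true := by simpa [Nat.blt] using hlt
      simp only [h2, cond_false, cond_true, lor_eq, shl_eq, Nat.testBit_or, Nat.testBit_shiftLeft]
      by_cases hjk : 2 ^ k ≤ j
      · have h3 : (planeD k b).testBit j = false :=
          Nat.testBit_lt_two_pow (lt_of_lt_of_le (planeD_lt k b) (Nat.pow_le_pow_right (by norm_num) (by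
            calc 2 ^ k ≤ j := hjk
              _ ≤ j := le_refl _)))
        have h4 : j - 2 ^ k < 2 ^ k := by rw [pow_succ] at hj; omega
        rw [h3, ih (j - 2 ^ k) hlt h4]
        have : j = 2 ^ k + (j - 2 ^ k) := by omega
        conv_rhs => rw [this, Nat.testBit_two_pow_add_gt hlt]
        simp [hjk]
      · have : j < 2 ^ k := by omega
        rw [ih j hlt this]; simp [hjk]
    · have hbk : b = k := Nat.eq_of_beq_eq_true h1
      subst hbk
      simp only [cond_true, shl_eq, Nat.testBit_shiftLeft, Nat.testBit_two_pow_sub_one]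
      rw [testBit_lt_succ_pow j b hj]
      by_cases hjk : 2 ^ b ≤ j
      · have : j - 2 ^ b < 2 ^ b := by rw [pow_succ] at hj; omega
        simp [hjk, this]
      · simp [hjk]

end Cfsg.Agent.Lib.Helper13.CE
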