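import Cfsg.Agent.Lib.Helper13.CosetTree

set_option autoImplicit false

/-!
Invariant of phase A and soundness of the chain scans.
-/

namespace Cfsg.Agent.Lib.Helper13.CE

variable {α : Type} {G : Type*} [Group G] {n k : ℕ}

/-- the value of a chain letter: `0` stands for a trivial edge. -/
def G0 (Γ : ℕ → G) (l : ℕ) : G := if l = 0 then 1 else Γ l

theorem prod_G0_replicate (Γ : ℕ → G) (m : ℕ) : ((List.replicate m 0).map (G0 Γ)).prod = 1 := by
  induction m with
  | zero => rfl
  | succ m ih => simp only [List.replicate_succ, List.map_cons, List.prod_cons, ih]; simp [G0]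

theorem prod_G0_set (Γ : ℕ → G) (m i l : ℕ) (hi : i < m) :
    (((List.replicate m 0).set i l).map (G0 Γ)).prod = G0 Γ l := by
  induction m generalizing i with
  | zero => omega
  | succ m ih =>
    cases i with
    | zero =>
      simp only [List.replicate_succ, List.set_cons_zero, List.map_cons, List.prod_cons,
        prod_G0_replicate, mul_one]
    | succ i =>
      simp only [List.replicate_succ, List.set_cons_succ, List.map_cons, List.prod_cons]
      rw [ih i (by omega)]; simp [G0]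

theorem prod_G0_filter (Γ : ℕ → G) (ls : List ℕ) :
    (ls.map (G0 Γ)).prod = ((ls.filter (fun l => !(Nat.beq l 0))).map Γ).prod := by
  induction ls with
  | nil => rfl
  | cons l ls ih =>
    by_cases h : l = 0
    · subst h
      have : (!(Nat.beq 0 0)) = false := rfl
      rw [List.filter_cons_of_neg (by simp), List.map_cons, List.prod_cons, ih]; simp [G0]
    · have h2 : (!(Nat.beq l 0)) = true := by
        cases h3 : Nat.beq l 0
        · rfl
        · exact absurd (Nat.eq_of_beq_eq_true h3) h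
      simp only [List.filter_cons, h2, if_true, List.map_cons, List.prod_cons, ih]
      simp [G0, h]

section

set_option linter.unusedSectionVars false

variable [NeZero n]

/-- the label columns of one register are consistent with the class generators `Γ`. -/
def ColOK (X : Act α G n k) (pr : Par α) (w : Fin n → G) (Γ : ℕ → G) (nxt : ℕ) (x : α) (Lv : ℕ) : Prop :=
  ∀ c : Fin n, (∃ q < pr.P, Lv.testBit (pr.N * q + c) = true) →
    ∃ l, 2 ≤ l ∧ l < 2 * nxt ∧ (∀ q < pr.P, Lv.testBit (pr.N * q + c) = (2 * l + 1).testBit q) ∧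
      X.del w c x = Γ l

/-- invariant of phase A. -/
structure InvA (X : Act α G n k) (pr : Par α) (H : Subgroup G) (w : Fin n → G) (st : StA)
    (Γ : ℕ → G) : Prop where
  zf : ∀ x (c : Fin n), (rget st.Z (pr.idx x)).testBit c = true → X.del w c x = 1
  col : ∀ x, ColOK X pr w Γ st.nxt x (rget st.L (pr.idx x))
  hP : 4 * st.nxt ≤ 2 ^ pr.P
  hnx : 1 ≤ st.nxt
  ginv : ∀ l, 2 ≤ l → l < 2 * st.nxt → Γ (invL l) = (Γ l)⁻¹
  arf : ∀ r ∈ st.ar, (∀ l ∈ r, 2 ≤ l ∧ l < 2 * st.nxt) ∧ (r.map Γ).prod = 1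
  asf : ∀ r ∈ st.as, (∀ l ∈ r, 2 ≤ l ∧ l < 2 * st.nxt) ∧ (r.map Γ).prod ∈ H

variable {X : Act α G n k} {pr : Par α} {H : Subgroup G} {w : Fin n → G} {st : StA} {Γ : ℕ → G}

theorem invL_bounds (l m : ℕ) (h1 : 2 ≤ l) (h2 : l < 2 * m) : 2 ≤ invL l ∧ invL l < 2 * m := by
  obtain ⟨c, ⟨e1, e2⟩ | ⟨e1, e2⟩⟩ := invL_cases l
  · rw [e2]; omega
  · rw [e2]; omega

theorem InvA.P_pos (inv : InvA X pr H w st Γ) : 0 < pr.P := by
  have h1 := inv.hP
  have h2 := inv.hnx
  by_contra h
  have : pr.P = 0 := by omega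
  rw [this] at h1; omega

theorem ColOK.empty {x : α} {Lv nxt : ℕ} (hc : ColOK X pr w Γ nxt x Lv) (hP : 0 < pr.P) (c : Fin n)
    (h0 : Lv.testBit c = false) : ∀ q < pr.P, Lv.testBit (pr.N * q + c) = false := by
  intro q hq
  by_contra h
  have h1 : Lv.testBit (pr.N * q + c) = true := by simpa using h
  obtain ⟨l, _, _, h4, _⟩ := hc c ⟨q, hq, h1⟩
  have h5 := h4 0 hP
  rw [Nat.mul_zero, Nat.zero_add, h0] at h5
  have h6 : (2 * l + 1).testBit 0 = true := by
    rw [Nat.testBit_zero]; simp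
  rw [h6] at h5; exact Bool.noConfusion h5

theorem ColOK.mono {x : α} {Lv nxt nxt' : ℕ} {Γ' : ℕ → G} (hc : ColOK X pr w Γ nxt x Lv)
    (hΓ : ∀ l, l < 2 * nxt → Γ' l = Γ l) (hn : nxt ≤ nxt') : ColOK X pr w Γ' nxt' x Lv := by
  intro c hq
  obtain ⟨l, h1, h2, h3, h4⟩ := hc c hq
  exact ⟨l, h1, by omega, h3, by rw [hΓ l h2]; exact h4⟩

theorem col_update (lk : Link X pr H) (L : List ℕ) (Γ' : ℕ → G) (nxt' : ℕ) (x : α) (v : ℕ)
    (hold : ∀ y, ColOK X pr w Γ' nxt' y (rget L (pr.idx y)))
    (hv : ColOK X pr w Γ' nxt' x v) :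
    ∀ y, ColOK X pr w Γ' nxt' y (rget (rset L (pr.idx x) v) (pr.idx y)) := by
  intro y
  by_cases hxy : pr.idx y = pr.idx x
  · have hy : y = x := lk.idx hxy
    subst hy
    rcases rget_rset_self L (pr.idx y) v with h | h
    · rw [h]; exact hv
    · rw [h]; exact hold y
  · rw [rget_rset_ne _ _ _ _ hxy]; exact hold y

/-- a column matching the code of a letter carries that letter. -/
theorem InvA.lab (inv : InvA X pr H w st Γ) (x : α) (c : Fin n) (l : ℕ) (hl : l < 2 * st.nxt)
    (hm : ∀ q < pr.P, (rget st.L (pr.idx x)).testBit (pr.N * q + c) = (2 * l + 1).testBit q) :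
    2 ≤ l ∧ X.del w c x = Γ l := by
  have hP := inv.P_pos
  have h0 : (rget st.L (pr.idx x)).testBit (pr.N * 0 + c) = true := by
    rw [hm 0 hP, Nat.testBit_zero]; simp
  obtain ⟨l', h1, h2, h3, h4⟩ := inv.col x c ⟨0, hP, h0⟩
  have hb := inv.hP
  have e : 2 * l + 1 = 2 * l' + 1 := by
    apply Nat.eq_of_testBit_eq
    intro q
    by_cases hq : q < pr.P
    · rw [← hm q hq, h3 q hq]
    · have hq' : 2 ^ pr.P ≤ 2 ^ q := Nat.pow_le_pow_right (by norm_num) (by omega)
      rw [Nat.testBit_lt_two_pow (by omega), Nat.testBit_lt_two_pow (by omega)]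
  have e2 : l = l' := by omega
  rw [e2]; exact ⟨h1, h4⟩

theorem filt_sound (lk : Link X pr H) (inv : InvA X pr H w st Γ) (x : α) (l : ℕ) (c : Fin n)
    (h : (filt pr st x l).testBit c = true) :
    X.del w c x = G0 Γ l ∧ (l ≠ 0 → 2 ≤ l ∧ l < 2 * st.nxt) := by
  unfold filt at h
  cases h0 : Nat.beq l 0
  · have hl : l ≠ 0 := Nat.ne_of_beq_eq_false h0
    rw [h0] at h
    simp only [cond_false] at h
    cases h1 : Nat.blt l (2 * st.nxt)
    · rw [h1] at h; simp at h
    · rw [h1] at h
      simp only [cond_true] at h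
      have hlt : l < 2 * st.nxt := by simpa [Nat.blt] using h1
      rw [testBit_matchL _ _ _ _ _ _ _ (lk.full_bit' c)] at h
      obtain ⟨h2, h3⟩ := inv.lab x c l hlt h.2
      refine ⟨?_, fun _ => ⟨h2, hlt⟩⟩
      rw [h3]; simp [G0, hl]
  · have hl : l = 0 := Nat.eq_of_beq_eq_true h0
    rw [h0] at h
    simp only [cond_true] at h
    refine ⟨?_, fun h' => absurd hl h'⟩
    rw [inv.zf x c h, hl]; simp [G0]

theorem chain_sound (lk : Link X pr H) (inv : InvA X pr H w st Γ) :
    ∀ (W : List α) (ls : List ℕ) (A : ℕ), W.length = ls.length → ∀ c : Fin n,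
      (chain pr st W ls A).testBit c = true →
      ∃ d : Fin n, A.testBit d = true ∧ c = X.φ (X.ev W)⁻¹ d ∧
        w d * X.ev W * (w c)⁻¹ = (ls.map (G0 Γ)).prod ∧
        ∀ l ∈ ls, l ≠ 0 → 2 ≤ l ∧ l < 2 * st.nxt := by
  intro W
  induction W with
  | nil =>
    intro ls A hlen c hc
    cases ls with
    | nil =>
      refine ⟨c, hc, ?_, ?_, ?_⟩
      · simp
      · simp
      · intro l hl; simp at hl
    | cons l ls => simp at hlen
  | cons x W ih =>
    intro ls A hlen c hc
    cases ls with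
    | nil => simp at hlen
    | cons l ls =>
      simp only [chain, strict_eq] at hc
      have hlen' : W.length = ls.length := by simpa using hlen
      obtain ⟨d', h1, h2, h3, h4⟩ := ih ls _ hlen' c hc
      rw [lk.napply_bit, land_eq, Nat.testBit_and, Bool.and_eq_true] at h1
      obtain ⟨hf1, hf2⟩ := filt_sound lk inv x l _ h1.2
      refine ⟨X.φ (X.s x) d', h1.1, ?_, ?_, ?_⟩
      · rw [h2, X.ev_cons, mul_inv_rev, map_mul, Equiv.Perm.coe_mul, Function.comp_apply,
          X.inv_s, X.φ_s_invol]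
      · rw [List.map_cons, List.prod_cons, ← hf1, ← h3, X.ev_cons]
        unfold Act.del
        rw [X.φ_s_invol]; group
      · intro l' hl'
        rcases List.mem_cons.mp hl' with h | h
        · rw [h]; exact hf2
        · exact h4 l' h

/-- the gap lemma: a chain along all but the last letter of a relator determines the
Schreier element of the last edge. -/
theorem gap_sound (lk : Link X pr H) (inv : InvA X pr H w st Γ) (W : List α) (g : α)
    (hg : W.getLast? = some g) (hW : X.ev W = 1) (ls : List ℕ) (hlen : W.dropLast.length = ls.length)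
    (c : Fin n) (hc : (chain pr st W.dropLast ls pr.full).testBit c = true) :
    ∃ d : Fin n, c = X.φ (X.s g) d ∧ X.del w d g = (ls.map (G0 Γ)).prod ∧
      ∀ l ∈ ls, l ≠ 0 → 2 ≤ l ∧ l < 2 * st.nxt := by
  obtain ⟨d, _, h2, h3, h4⟩ := chain_sound lk inv W.dropLast ls pr.full hlen c hc
  have hsplit : W.dropLast ++ [g] = W := List.dropLast_append_getLast? g hg
  have he : X.ev W.dropLast = X.s g := by
    have : X.ev W.dropLast * X.s g = 1 := by
      have h5 := hW
      rw [← hsplit, X.ev_append] at h5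
      simpa using h5
    rw [eq_comm, ← X.inv_s g]
    exact (mul_eq_one_iff_eq_inv.mp this).symm ▸ rfl
  rw [he] at h2 h3
  rw [X.inv_s] at h2
  refine ⟨d, h2, ?_, h4⟩
  unfold Act.del
  rw [← h2]; exact h3

end

end Cfsg.Agent.Lib.Helper13.CE
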