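import Cfsg.Agent.Lib.Helper13.CosetASound

set_option autoImplicit false

/-!
Chunked evaluation of the phase-A check: the run is cut into pieces whose intermediate states
are given explicitly, so that each piece can be checked by the kernel on its own.
-/

namespace Cfsg.Agent.Lib.Helper13.CE

variable {α : Type}

/-- equality test of lists of naturals by `Nat.beq`. -/
def lbeq : List ℕ → List ℕ → Bool
  | [], [] => true
  | a :: l, b :: m => Nat.beq a b && lbeq l m
  | _, _ => false

theorem eq_of_lbeq : ∀ (l m : List ℕ), lbeq l m = true → l = m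
  | [], [], _ => rfl
  | [], _ :: _, h => by simp [lbeq] at h
  | _ :: _, [], h => by simp [lbeq] at h
  | a :: l, b :: m, h => by
    simp only [lbeq, Bool.and_eq_true] at h
    rw [Nat.eq_of_beq_eq_true h.1, eq_of_lbeq l m h.2]

theorem runA_append (pr : Par α) : ∀ (s1 s2 : List (StepA α)) (st : StA),
    runA pr st (s1 ++ s2) = (runA pr st s1).bind (fun st' => runA pr st' s2)
  | [], s2, st => by simp [runA]
  | e :: s1, s2, st => by
    simp only [List.cons_append, runA]
    cases h : stepA pr st e with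
    | none => simp
    | some st' => simp only; exact runA_append pr s1 s2 st'

/-- one piece of the run: from the state `(Z, L, nxt)` with no extracted relations, the steps
lead to `(Z', L', nxt')` and extract `a`, `b`. -/
def chunkOK (pr : Par α) (Z L : List ℕ) (nxt : ℕ) (steps : List (StepA α))
    (Z' L' : List ℕ) (nxt' : ℕ) (a b : List (List ℕ)) : Bool :=
  match runA pr ⟨Z, L, nxt, [], []⟩ steps with
  | none => false
  | some st => lbeq st.Z Z' && (lbeq st.L L' && (Nat.beq st.nxt nxt' &&
      (decide (st.ar = a) && decide (st.as = b))))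

theorem runA_of_chunkOK (pr : Par α) (Z L : List ℕ) (nxt : ℕ) (steps : List (StepA α))
    (Z' L' : List ℕ) (nxt' : ℕ) (a b : List (List ℕ))
    (h : chunkOK pr Z L nxt steps Z' L' nxt' a b = true) :
    runA pr ⟨Z, L, nxt, [], []⟩ steps = some ⟨Z', L', nxt', a, b⟩ := by
  unfold chunkOK at h
  cases hr : runA pr ⟨Z, L, nxt, [], []⟩ steps with
  | none => rw [hr] at h; simp at h
  | some st =>
    rw [hr] at h
    simp only [Bool.and_eq_true, decide_eq_true_eq] at h
    obtain ⟨h1, h2, h3, h4, h5⟩ := h
    obtain ⟨Z1, L1, n1, a1, b1⟩ := st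
    simp only at h1 h2 h3 h4 h5
    rw [eq_of_lbeq _ _ h1, eq_of_lbeq _ _ h2, Nat.eq_of_beq_eq_true h3, h4, h5]

/-- composition of a piece that extracts nothing with the rest of the run. -/
theorem runA_chunk_cons (pr : Par α) (Z L : List ℕ) (nxt : ℕ) (s1 s2 : List (StepA α))
    (Z1 L1 : List ℕ) (n1 : ℕ) (st : StA)
    (h1 : chunkOK pr Z L nxt s1 Z1 L1 n1 [] [] = true)
    (h2 : runA pr ⟨Z1, L1, n1, [], []⟩ s2 = some st) :
    runA pr ⟨Z, L, nxt, [], []⟩ (s1 ++ s2) = some st := by
  rw [runA_append, runA_of_chunkOK pr Z L nxt s1 Z1 L1 n1 [] [] h1]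
  exact h2

/-- the spanning-tree part of the check, with its result given explicitly. -/
def treeOK (pr : Par α) (nreg : ℕ) (tree : List α) (Z0 : List ℕ) : Bool :=
  match runTree pr (1, List.replicate nreg 0) tree with
  | (K, Z) => Nat.beq (Nat.land K pr.full) pr.full && (Nat.ble 4 (2 ^ pr.P) && lbeq Z Z0)

theorem checkA_of_parts (pr : Par α) (nreg : ℕ) (tree : List α) (steps : List (StepA α))
    (AR AS : List (List ℕ)) (nclass : ℕ) (Z0 Zf Lf : List ℕ)
    (ht : treeOK pr nreg tree Z0 = true)
    (hr : runA pr ⟨Z0, List.replicate nreg 0, 1, [], []⟩ steps =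
      some ⟨Zf, Lf, nclass, AR.reverse, AS.reverse⟩)
    (hc : coverOK pr ⟨Zf, Lf, nclass, AR.reverse, AS.reverse⟩ = true) :
    checkA pr nreg tree steps AR AS nclass = true := by
  unfold treeOK at ht
  unfold checkA
  generalize runTree pr (1, List.replicate nreg 0) tree = KZ at ht ⊢
  obtain ⟨K, Z⟩ := KZ
  simp only [Bool.and_eq_true] at ht
  obtain ⟨h1, h2, h3⟩ := ht
  have hZ : Z = Z0 := eq_of_lbeq _ _ h3
  subst hZ
  simp only [hr, h1, h2, hc, Bool.and_self, Bool.true_and, decide_true, Nat.beq_refl]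

end Cfsg.Agent.Lib.Helper13.CE
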