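import Cfsg.Agent.Lib.Helper13.CosetChunk

set_option autoImplicit false

/-!
Chunked evaluation of the phase-A check, with the extraction steps spread over several pieces:
the lists of extracted relations are only ever extended, so a run from empty lists can be moved
to any starting lists.
-/

namespace Cfsg.Agent.Lib.Helper13.CE

variable {α : Type}

/-- the state with further extracted relations after the present ones. -/
def StA.shift (st : StA) (a b : List (List ℕ)) : StA :=
  ⟨st.Z, st.L, st.nxt, st.ar ++ a, st.as ++ b⟩

theorem chain_shift (pr : Par α) (st : StA) (a b : List (List ℕ)) :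
    ∀ (W : List α) (ls : List ℕ) (A : ℕ),
      chain pr (st.shift a b) W ls A = chain pr st W ls A
  | [], _, _ => by simp [chain]
  | _ :: _, [], _ => by simp [chain]
  | x :: W, l :: ls, A => by
    simp only [chain, strict_eq]
    rw [chain_shift pr st a b W ls]
    rfl

theorem stepA_shift (pr : Par α) (st : StA) (a b : List (List ℕ)) (e : StepA α) :
    stepA pr (st.shift a b) e = (stepA pr st e).map (fun s => s.shift a b) := by
  cases e with
  | z j r =>
    simp only [stepA]
    cases (rotW (pr.rels.getD j []) r).getLast? with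
    | none => rfl
    | some g => simp only [strict_eq, chain_shift]; rfl
  | nc x p =>
    simp only [stepA, strict_eq]
    cases hc : (Nat.blt p pr.n && (Nat.beq (Nat.land (rget st.L (pr.idx x))
        (Nat.lor (Nat.shiftLeft 1 p) (Nat.land (napply (pr.nets x) (Nat.shiftLeft 1 p))
          (Nat.xor pr.full (Nat.shiftLeft 1 p))))) 0 &&
        Nat.ble (4 * (st.nxt + 1)) (2 ^ pr.P))) with
    | false =>
      have hc' : (Nat.blt p pr.n && (Nat.beq (Nat.land (rget (st.shift a b).L (pr.idx x))
        (Nat.lor (Nat.shiftLeft 1 p) (Nat.land (napply (pr.nets x) (Nat.shiftLeft 1 p))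
          (Nat.xor pr.full (Nat.shiftLeft 1 p))))) 0 &&
        Nat.ble (4 * ((st.shift a b).nxt + 1)) (2 ^ pr.P))) = false := hc
      rw [hc']; rfl
    | true =>
      have hc' : (Nat.blt p pr.n && (Nat.beq (Nat.land (rget (st.shift a b).L (pr.idx x))
        (Nat.lor (Nat.shiftLeft 1 p) (Nat.land (napply (pr.nets x) (Nat.shiftLeft 1 p))
          (Nat.xor pr.full (Nat.shiftLeft 1 p))))) 0 &&
        Nat.ble (4 * ((st.shift a b).nxt + 1)) (2 ^ pr.P))) = true := hc
      rw [hc']; rfl
  | pc j r i l =>
    simp only [stepA]
    cases (rotW (pr.rels.getD j []) r).getLast? with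
    | none => rfl
    | some g =>
      simp only [strict_eq, chain_shift]
      cases hc : (Nat.ble 2 l && (Nat.blt l (2 * st.nxt) &&
          Nat.blt i (rotW (pr.rels.getD j []) r).dropLast.length)) with
      | false =>
        have hc' : (Nat.ble 2 l && (Nat.blt l (2 * (st.shift a b).nxt) &&
          Nat.blt i (rotW (pr.rels.getD j []) r).dropLast.length)) = false := hc
        rw [hc']; rfl
      | true =>
        have hc' : (Nat.ble 2 l && (Nat.blt l (2 * (st.shift a b).nxt) &&
          Nat.blt i (rotW (pr.rels.getD j []) r).dropLast.length)) = true := hc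
        rw [hc']; rfl
  | xr j r ls =>
    simp only [stepA, chain_shift]
    cases (Nat.beq ls.length (rotW (pr.rels.getD j []) r).length &&
        Nat.blt 0 (Nat.land (chain pr st (rotW (pr.rels.getD j []) r) ls pr.full) pr.full)) with
    | false => rfl
    | true => rfl
  | xs j ls =>
    simp only [stepA, chain_shift]
    cases (Nat.beq ls.length (pr.subs.getD j []).length &&
        Nat.blt 0 (Nat.land (chain pr st (pr.subs.getD j []) ls 1) pr.full)) with
    | false => rfl
    | true => rfl

theorem runA_shift (pr : Par α) (a b : List (List ℕ)) :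
    ∀ (steps : List (StepA α)) (st st' : StA), runA pr st steps = some st' →
      runA pr (st.shift a b) steps = some (st'.shift a b)
  | [], st, st', h => by
    simp only [runA, Option.some.injEq] at h ⊢
    rw [h]
  | e :: es, st, st', h => by
    simp only [runA] at h ⊢
    rw [stepA_shift]
    cases hs : stepA pr st e with
    | none => rw [hs] at h; exact absurd h (by simp)
    | some s1 =>
      rw [hs] at h
      simp only [Option.map_some]
      exact runA_shift pr a b es s1 st' h

/-- composition of a piece with the rest of the run. -/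
theorem runA_chunk_cons2 (pr : Par α) (Z L : List ℕ) (nxt : ℕ) (s1 s2 : List (StepA α))
    (Z1 L1 : List ℕ) (n1 : ℕ) (a1 b1 : List (List ℕ)) (st : StA)
    (h1 : chunkOK pr Z L nxt s1 Z1 L1 n1 a1 b1 = true)
    (h2 : runA pr ⟨Z1, L1, n1, [], []⟩ s2 = some st) :
    runA pr ⟨Z, L, nxt, [], []⟩ (s1 ++ s2) = some (st.shift a1 b1) := by
  rw [runA_append, runA_of_chunkOK pr Z L nxt s1 Z1 L1 n1 a1 b1 h1]
  have h3 := runA_shift pr a1 b1 s2 ⟨Z1, L1, n1, [], []⟩ st h2
  exact h3

theorem some_StA_eq (s : StA) (Z L : List ℕ) (nxt : ℕ) (ar as : List (List ℕ)) (hZ : s.Z = Z)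
    (hL : s.L = L) (hn : s.nxt = nxt) (ha : s.ar = ar) (hb : s.as = as) :
    some s = some (⟨Z, L, nxt, ar, as⟩ : StA) := by
  subst hZ hL hn ha hb; rfl

end Cfsg.Agent.Lib.Helper13.CE
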