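import Cfsg.Agent.Lib.Helper13.CosetMain
import Cfsg.Agent.Lib.Helper13.CosetChunk

set_option autoImplicit false

/-!
Coset-enumeration certificates for Mathlib's presented Coxeter groups `CoxeterMatrix.Group`.
-/

namespace Cfsg.Agent.Lib.Helper13.CE

variable {B : Type}

/-- the relators of a Coxeter matrix used by the certificates. -/
def relsM (M : CoxeterMatrix B) (letters : List B) : List (List B) :=
  letters.map (fun x => [x, x]) ++ (pairsLT letters).map (fun p => cw p.1 p.2 (M p.1 p.2))

/-- the action of a Coxeter group on the points. -/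
def coxmatAct (M : CoxeterMatrix B) (n k : ℕ) (nets : B → List (ℕ × ℕ)) (hok : NetOK nets n k)
    (hlift : M.IsLiftable (sig hok)) : Act B M.Group n k where
  nets := nets
  ok := hok
  s := M.simple
  hs := M.toCoxeterSystem.simple_mul_simple_self
  φ := M.toCoxeterSystem.lift ⟨sig hok, hlift⟩
  hφ := by
    intro x j
    have h := M.toCoxeterSystem.lift_apply_simple hlift x
    rw [CoxeterMatrix.toCoxeterSystem_simple] at h
    rw [h, sig_val]

theorem coxmat_main [DecidableEq B] (M : CoxeterMatrix B) (n k : ℕ) [NeZero n] (pr : Par B)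
    (hletters : ∀ x, x ∈ pr.letters) (hidx : Function.Injective pr.idx)
    (hrels : pr.rels = relsM M pr.letters)
    (hstat : staticOK pr n k = true)
    (nreg : ℕ) (tree : List B) (stepsA : List (StepA B)) (pb : ParB) (stepsB : List StepB)
    (nclass : ℕ) (hA : checkA pr nreg tree stepsA pb.AR.flatten pb.AS nclass = true)
    (hNL : pb.NL = 2 * nclass) (hB : checkB pb stepsB = true) :
    ∃ (X : Act B M.Group n k)
      (f : M.Group ⧸ Subgroup.closure {g | ∃ W ∈ pr.subs, g = (W.map M.simple).prod} ≃ Fin n),
      X.nets = pr.nets ∧ X.s = M.simple ∧ (∀ g, f (QuotientGroup.mk g) = X.φ g 0) := by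
  simp only [staticOK, Bool.and_eq_true, List.all_eq_true] at hstat
  obtain ⟨hnet, hle, hrelok, hfixok, hfull, hn, hN⟩ := hstat
  have mem_sq : ∀ x, [x, x] ∈ pr.rels := by
    intro x
    rw [hrels]; unfold relsM
    exact List.mem_append_left _ (List.mem_map.mpr ⟨x, hletters x, rfl⟩)
  have mem_pair : ∀ x y, (x, y) ∈ pairsLT pr.letters → cw x y (M x y) ∈ pr.rels := by
    intro x y hxy
    rw [hrels]; unfold relsM
    exact List.mem_append_right _ (List.mem_map.mpr ⟨(x, y), hxy, rfl⟩)
  have hok : NetOK pr.nets n k :=
    { valid := fun x => (hnet x (hletters x)).1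
      range := fun x => (hnet x (hletters x)).2
      le := Nat.le_of_ble_eq_true hle
      sq := fun x => hrelok _ (mem_sq x) }
  have hlift : M.IsLiftable (sig hok) := by
    intro x y
    by_cases hxy : x = y
    · subst hxy
      rw [M.diagonal, pow_one]; exact sig_mul_self hok x
    · rcases pairsLT_total pr.letters x y (hletters x) (hletters y) hxy with h | h
      · have := prod_sig_eq_one hok _ (hrelok _ (mem_pair x y h))
        rw [prod_cw] at this; exact this
      · have := prod_sig_eq_one hok _ (hrelok _ (mem_pair y x h))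
        rw [prod_cw, M.symmetric y x] at this
        exact pow_mul_comm_eq_one _ _ _ this
  let X := coxmatAct M n k pr.nets hok hlift
  have hfix1 : ∀ W ∈ pr.subs, X.φ (X.ev W) 0 = 0 := by
    intro W hW
    have h1 := X.testBit_wapply' W 1 (0 : Fin n)
    have h2 : wapply X.nets W 1 = 1 := Nat.eq_of_beq_eq_true (hfixok W hW)
    rw [h2] at h1
    have h3 : (1 : ℕ).testBit ((0 : Fin n) : ℕ) = true := by simp
    rw [h3] at h1
    exact Fin.ext (by simpa using (Nat.testBit_one_eq_true_iff_self_eq_zero.mp h1.symm))
  have hfix : ∀ h ∈ Subgroup.closure {g | ∃ W ∈ pr.subs, g = (W.map M.simple).prod},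
      X.φ h 0 = 0 := by
    intro h hh
    induction hh using Subgroup.closure_induction with
    | mem y hy =>
      obtain ⟨W, hW, rfl⟩ := hy
      exact hfix1 W hW
    | one => simp
    | mul a b _ _ iha ihb => rw [map_mul, Equiv.Perm.coe_mul, Function.comp_apply, ihb, iha]
    | inv a _ iha =>
      rw [map_inv]
      have := congrArg (fun c => (X.φ a)⁻¹ c) iha
      simpa using this.symm
  have lk : Link X pr (Subgroup.closure {g | ∃ W ∈ pr.subs, g = (W.map M.simple).prod}) :=
    { nets := rfl
      n_eq := Nat.eq_of_beq_eq_true hn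
      full := Nat.eq_of_beq_eq_true hfull
      hN := Nat.le_of_ble_eq_true hN
      idx := hidx
      letters := hletters
      rel := by
        intro W hW
        rw [hrels] at hW
        unfold relsM at hW
        rcases List.mem_append.mp hW with h | h
        · obtain ⟨x, _, rfl⟩ := List.mem_map.mp h
          rw [Act.ev_cons, Act.ev_cons, Act.ev_nil, mul_one]; exact X.hs x
        · obtain ⟨⟨x, y⟩, _, rfl⟩ := List.mem_map.mp h
          show ((cw x y (M x y)).map M.simple).prod = 1
          rw [prod_cw]
          exact M.toCoxeterSystem.simple_mul_simple_pow x y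
      sub := by
        intro W hW
        exact Subgroup.subset_closure ⟨W, hW, rfl⟩
      fix := hfix }
  have hgen : Subgroup.closure (Set.range X.s) = ⊤ :=
    M.toCoxeterSystem.subgroup_closure_range_simple
  obtain ⟨f, hf⟩ := X.cert_equiv pr _ lk hgen nreg tree stepsA pb stepsB nclass hA hNL hB
  exact ⟨X, f, rfl, rfl, hf⟩

/-- the closure of the empty family of words is trivial. -/
theorem closure_subs_nil {G : Type*} [Group G] (s : B → G) :
    Subgroup.closure {g : G | ∃ W ∈ ([] : List (List B)), g = (W.map s).prod} = ⊥ := by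
  have : {g : G | ∃ W ∈ ([] : List (List B)), g = (W.map s).prod} = ∅ := by
    ext g; simp
  rw [this, Subgroup.closure_empty]

/-- with no subgroup words the certificate gives the order of the group and a faithful action. -/
theorem card_of_equiv_bot {G : Type*} [Group G] {n : ℕ} (H : Subgroup G) (hH : H = ⊥)
    (f : G ⧸ H ≃ Fin n) : Nat.card G = n := by
  subst hH
  have h1 : Nat.card (G ⧸ (⊥ : Subgroup G)) = n := by
    rw [Nat.card_congr f, Nat.card_fin]
  rw [← h1]
  exact (Nat.card_congr (QuotientGroup.quotientBot (G := G)).toEquiv).symm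

theorem Act.injective_of_bot {α : Type} {G : Type*} [Group G] {n k : ℕ} [NeZero n]
    (X : Act α G n k) (H : Subgroup G) (hH : H = ⊥) (f : G ⧸ H ≃ Fin n)
    (hf : ∀ g : G, f (QuotientGroup.mk g) = X.φ g 0) : Function.Injective X.φ := by
  subst hH
  intro g g' h
  have h1 : f (QuotientGroup.mk g) = f (QuotientGroup.mk g') := by rw [hf, hf, h]
  have h2 := f.injective h1
  rw [QuotientGroup.eq] at h2
  have h3 : g⁻¹ * g' = 1 := by simpa using h2
  exact (inv_mul_eq_one.mp h3)

/-- a word acts trivially when the plane check succeeds. -/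
theorem Act.φ_ev_eq_one {α : Type} {G : Type*} [Group G] {n k : ℕ} (X : Act α G n k) (W : List α)
    (hW : relOK X.nets k W = true) : X.φ (X.ev W) = 1 := by
  ext j
  rw [X.φ_ev_val, wpos_eq_self X.ok W hW j j.2]; simp

/-- a word acts non-trivially when it moves a point. -/
theorem Act.φ_ev_ne_one {α : Type} {G : Type*} [Group G] {n k : ℕ} (X : Act α G n k) (W : List α)
    (j : Fin n) (hW : wpos X.nets W j ≠ j) : X.φ (X.ev W) ≠ 1 := by
  intro h
  apply hW
  rw [← X.φ_ev_val, h]; simp

end Cfsg.Agent.Lib.Helper13.CE
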