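import Cfsg.Agent.Lib.Helper13.CosetCox

set_option autoImplicit false

/-!
Orders of groups from stabiliser chains in the permutation action of a certificate, homomorphisms
between Coxeter groups of sub-diagrams, and orders of elements given by words.
-/

namespace Cfsg.Agent.Lib.Helper13.CE

variable {α : Type} {G : Type*} [Group G] {n k : ℕ}

/-! ### counting bits -/

/-- the number of set bits of `O` below `n`. -/
def cnt (O : ℕ) : ℕ → ℕ
  | 0 => 0
  | c+1 => cond (Nat.testBit O c) (cnt O c + 1) (cnt O c)

theorem cnt_le_ncard (O n : ℕ) (T : Set (Fin n))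
    (h : ∀ c : Fin n, O.testBit c = true → c ∈ T) : cnt O n ≤ T.ncard := by
  have key : ∀ m, m ≤ n →
      cnt O m ≤ ({c : Fin n | (c : ℕ) < m ∧ O.testBit c = true} : Set (Fin n)).ncard := by
    intro m
    induction m with
    | zero => intro _; simp [cnt]
    | succ m ih =>
      intro hm
      have hm' : m < n := hm
      have ih' := ih (Nat.le_of_lt hm')
      simp only [cnt]
      cases hb : Nat.testBit O m with
      | false =>
        simp only [cond_false]
        refine le_trans ih' (Set.ncard_le_ncard ?_ (Set.toFinite _))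
        intro c hc; exact ⟨Nat.lt_succ_of_lt hc.1, hc.2⟩
      | true =>
        simp only [cond_true]
        have hset : ({c : Fin n | (c : ℕ) < m + 1 ∧ O.testBit c = true} : Set (Fin n)) =
            insert (⟨m, hm'⟩ : Fin n) {c : Fin n | (c : ℕ) < m ∧ O.testBit c = true} := by
          ext c
          simp only [Set.mem_setOf_eq, Set.mem_insert_iff]
          constructor
          · rintro ⟨h1, h2⟩
            rcases Nat.lt_succ_iff_lt_or_eq.mp h1 with h3 | h3
            · right; exact ⟨h3, h2⟩
            · left; exact Fin.ext h3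
          · rintro (h3 | ⟨h3, h4⟩)
            · rw [h3]; exact ⟨Nat.lt_succ_self m, hb⟩
            · exact ⟨Nat.lt_succ_of_lt h3, h4⟩
        rw [hset, Set.ncard_insert_of_notMem (by simp) (Set.toFinite _)]
        omega
  refine le_trans (key n le_rfl) (Set.ncard_le_ncard ?_ (Set.toFinite _))
  intro c hc; exact h c hc.2

/-! ### orbit and stabiliser -/

theorem card_orbit_mul_le (φ : G →* Equiv.Perm (Fin n)) (K K' : Subgroup G) [Finite K]
    (hle : K' ≤ K) (b : Fin n) (hfix : ∀ h ∈ K', φ h b = b) :
    Set.ncard {c : Fin n | ∃ h ∈ K, φ h b = c} * Nat.card K' ≤ Nat.card K := by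
  letI : MulAction K (Fin n) := MulAction.compHom (Fin n) (φ.comp K.subtype)
  have hsm : ∀ (x : K) (c : Fin n), x • c = φ (x : G) c := fun _ _ => rfl
  have h1 := Subgroup.card_eq_card_quotient_mul_card_subgroup (MulAction.stabilizer K b)
  have h2 : Nat.card (K ⧸ MulAction.stabilizer K b) = Nat.card (MulAction.orbit K b) :=
    Nat.card_congr (MulAction.orbitEquivQuotientStabilizer K b).symm
  have h3 : (MulAction.orbit K b) = {c : Fin n | ∃ h ∈ K, φ h b = c} := by
    ext c
    constructor
    · rintro ⟨x, rfl⟩
      exact ⟨x.1, x.2, (hsm x b).symm⟩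
    · rintro ⟨h, hh, rfl⟩
      exact ⟨⟨h, hh⟩, hsm ⟨h, hh⟩ b⟩
  have h4 : Nat.card K' ≤ Nat.card (MulAction.stabilizer K b) := by
    apply Nat.card_le_card_of_injective
      (fun h : K' => (⟨⟨h.1, hle h.2⟩, by
        rw [MulAction.mem_stabilizer_iff, hsm]; exact hfix h.1 h.2⟩ : MulAction.stabilizer K b))
    intro a a' e
    apply Subtype.ext
    have := congrArg (fun x : MulAction.stabilizer K b => ((x : K) : G)) e
    exact this
  rw [h1, h2, Nat.card_coe_set_eq, h3]
  exact Nat.mul_le_mul_left _ h4

/-! ### stabiliser chains -/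

/-- the subgroup generated by a list of generators. -/
def Act.sub (X : Act α G n k) (g : List α) : Subgroup G :=
  Subgroup.closure {y | ∃ x ∈ g, y = X.s x}

/-- one level: `b` is fixed by the generators `g'`, and its orbit under the generators `g` has at
least `m` points. -/
def lvlOK (nets : α → List (ℕ × ℕ)) (n : ℕ) (g g' : List α) (b : ℕ) (steps : List ℕ) (m : ℕ) :
    Bool :=
  Nat.blt b n && (g'.all (fun x => Nat.beq (npos (nets x) b) b) &&
    Nat.ble m (cnt (orbBFS nets (g.map (fun x => [x])) steps (Nat.shiftLeft 1 b)) n))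

theorem Act.lvl_sound (X : Act α G n k) [Finite G] (g g' : List α) (hsub : g' ⊆ g)
    (b : ℕ) (steps : List ℕ) (m : ℕ) (h : lvlOK X.nets n g g' b steps m = true) :
    m * Nat.card (X.sub g') ≤ Nat.card (X.sub g) := by
  simp only [lvlOK, Bool.and_eq_true, List.all_eq_true] at h
  obtain ⟨hb, hfixg, hm⟩ := h
  have hb' : b < n := by simpa [Nat.blt] using hb
  let bF : Fin n := ⟨b, hb'⟩
  have hfix : ∀ h ∈ X.sub g', X.φ h bF = bF := by
    intro h hh
    induction hh using Subgroup.closure_induction with
    | mem y hy =>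
      obtain ⟨x, hx, rfl⟩ := hy
      apply Fin.ext
      rw [X.hφ]
      exact Nat.eq_of_beq_eq_true (hfixg x hx)
    | one => simp
    | mul a c _ _ iha ihc => rw [map_mul, Equiv.Perm.coe_mul, Function.comp_apply, ihc, iha]
    | inv a _ iha =>
      rw [map_inv]
      have := congrArg (fun c => (X.φ a)⁻¹ c) iha
      simpa using this.symm
  have hle : X.sub g' ≤ X.sub g := by
    apply Subgroup.closure_mono
    rintro y ⟨x, hx, rfl⟩
    exact ⟨x, hsub hx, rfl⟩
  have horb := X.orbBFS_sound (X.sub g) (g.map (fun x => [x])) (by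
      intro W hW
      obtain ⟨x, hx, rfl⟩ := List.mem_map.mp hW
      rw [Act.ev_cons, Act.ev_nil, mul_one]
      exact Subgroup.subset_closure ⟨x, hx, rfl⟩) bF steps (Nat.shiftLeft 1 b) (by
      intro c hc
      rw [shl_eq, Nat.one_shiftLeft, Nat.testBit_two_pow] at hc
      have : (c : ℕ) = b := by
        have := hc; simp at this; exact this.symm
      exact ⟨1, (X.sub g).one_mem, by rw [map_one]; exact Fin.ext (by simp [bF, this])⟩)
  have hcnt := cnt_le_ncard _ n {c : Fin n | ∃ h ∈ X.sub g, X.φ h bF = c} horb
  have hm' : m ≤ Set.ncard {c : Fin n | ∃ h ∈ X.sub g, X.φ h bF = c} :=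
    le_trans (Nat.le_of_ble_eq_true hm) hcnt
  exact le_trans (Nat.mul_le_mul_right _ hm') (card_orbit_mul_le X.φ _ _ hle bF hfix)

/-- a chain of levels for the subgroups generated by the first `j`, `j - 1`, … generators. -/
def chainOK (nets : α → List (ℕ × ℕ)) (n : ℕ) (gens : List α) :
    ℕ → List (ℕ × List ℕ × ℕ) → Bool
  | _, [] => true
  | 0, _ :: _ => false
  | j+1, lv :: rest =>
    lvlOK nets n (gens.take (j+1)) (gens.take j) lv.1 lv.2.1 lv.2.2 && chainOK nets n gens j rest

theorem Act.chain_sound (X : Act α G n k) [Finite G] (gens : List α) :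
    ∀ (j : ℕ) (lv : List (ℕ × List ℕ × ℕ)), chainOK X.nets n gens j lv = true →
      (lv.map (fun l => l.2.2)).prod ≤ Nat.card (X.sub (gens.take j))
  | j, [], _ => by
    simp only [List.map_nil, List.prod_nil]
    exact Nat.card_pos
  | 0, _ :: _, h => by simp [chainOK] at h
  | j+1, lv :: rest, h => by
    simp only [chainOK, Bool.and_eq_true] at h
    have h1 := X.lvl_sound (gens.take (j+1)) (gens.take j)
      (List.take_subset_take_left gens (Nat.le_succ j)) lv.1 lv.2.1 lv.2.2 h.1
    have h2 := X.chain_sound gens j rest h.2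
    simp only [List.map_cons, List.prod_cons]
    exact le_trans (Nat.mul_le_mul_left _ h2) h1

theorem chainOK_tail (nets : α → List (ℕ × ℕ)) (n : ℕ) (gens : List α) (j : ℕ)
    (lv : ℕ × List ℕ × ℕ) (rest : List (ℕ × List ℕ × ℕ))
    (h : chainOK nets n gens (j+1) (lv :: rest) = true) : chainOK nets n gens j rest = true := by
  simp only [chainOK, Bool.and_eq_true] at h
  exact h.2

/-! ### the image of an action -/

/-- the group of permutations generated by the action. -/
def Act.toRange (X : Act α G n k) : Act α X.φ.range n k where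
  nets := X.nets
  ok := X.ok
  s := fun x => ⟨X.φ (X.s x), ⟨X.s x, rfl⟩⟩
  hs := fun x => Subtype.ext (by
    show X.φ (X.s x) * X.φ (X.s x) = 1
    rw [← map_mul, X.hs, map_one])
  φ := X.φ.range.subtype
  hφ := fun x j => X.hφ x j

/-! ### homomorphisms between Coxeter groups -/

/-- the homomorphism of Coxeter groups induced by a map of nodes compatible with the matrices. -/
def coxHom {B B' : Type} (M : CoxeterMatrix B) (M' : CoxeterMatrix B') (e : B' → B)
    (he : ∀ i j, M' i j = M (e i) (e j)) : M'.Group →* M.Group :=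
  M'.toCoxeterSystem.lift ⟨fun i => M.simple (e i), fun i j => by
    rw [he]; exact M.toCoxeterSystem.simple_mul_simple_pow (e i) (e j)⟩

theorem coxHom_simple {B B' : Type} (M : CoxeterMatrix B) (M' : CoxeterMatrix B') (e : B' → B)
    (he : ∀ i j, M' i j = M (e i) (e j)) (i : B') :
    coxHom M M' e he (M'.simple i) = M.simple (e i) := by
  have h := M'.toCoxeterSystem.lift_apply_simple (f := fun i => M.simple (e i)) (fun i j => by
    rw [he]; exact M.toCoxeterSystem.simple_mul_simple_pow (e i) (e j)) i
  rw [CoxeterMatrix.toCoxeterSystem_simple] at h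
  exact h

/-- from an index certificate over the subgroup of a sub-diagram: finiteness and the bound
`|W| ≤ n |W'|`. -/
theorem card_le_mul_of_sub {B B' : Type} (M : CoxeterMatrix B) (M' : CoxeterMatrix B')
    [Finite M'.Group] (e : B' → B) (he : ∀ i j, M' i j = M (e i) (e j))
    (subs : List (List B)) (hsubs : ∀ W ∈ subs, ∃ i, W = [e i]) (n : ℕ)
    (f : M.Group ⧸ Subgroup.closure {g | ∃ W ∈ subs, g = (W.map M.simple).prod} ≃ Fin n) :
    Finite M.Group ∧ Nat.card M.Group ≤ n * Nat.card M'.Group := by
  set H := Subgroup.closure {g : M.Group | ∃ W ∈ subs, g = (W.map M.simple).prod} with hH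
  have hle : H ≤ (coxHom M M' e he).range := by
    rw [hH, Subgroup.closure_le]
    rintro g ⟨W, hW, rfl⟩
    obtain ⟨i, rfl⟩ := hsubs W hW
    refine ⟨M'.simple i, ?_⟩
    rw [coxHom_simple]; simp
  haveI : Finite (coxHom M M' e he).range :=
    Finite.of_surjective _ (coxHom M M' e he).rangeRestrict_surjective
  haveI : Finite H := Finite.of_injective _ (Subgroup.inclusion_injective hle)
  haveI : Finite (M.Group ⧸ H) := Finite.of_equiv _ f.symm
  haveI : Finite M.Group := Finite.of_subgroup_quotient H
  refine ⟨inferInstance, ?_⟩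
  have h1 := Subgroup.card_eq_card_quotient_mul_card_subgroup H
  have h2 : Nat.card (M.Group ⧸ H) = n := by rw [Nat.card_congr f, Nat.card_fin]
  have h3 : Nat.card H ≤ Nat.card (coxHom M M' e he).range :=
    Nat.card_le_card_of_injective _ (Subgroup.inclusion_injective hle)
  have h4 : Nat.card (coxHom M M' e he).range ≤ Nat.card M'.Group :=
    Nat.card_le_card_of_surjective _ (coxHom M M' e he).rangeRestrict_surjective
  rw [h1, h2]
  exact Nat.mul_le_mul_left _ (le_trans h3 h4)

/-- a homomorphism from a group of order at most `|K|` whose image contains `K` is injective. -/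
theorem inj_of_card {G' H' : Type*} [Group G'] [Group H'] [Finite G'] (θ : G' →* H')
    (K : Subgroup H') (hK : K ≤ θ.range) (hc : Nat.card G' ≤ Nat.card K) :
    Function.Injective θ ∧ Nat.card G' = Nat.card K := by
  haveI : Finite θ.range := Finite.of_surjective _ θ.rangeRestrict_surjective
  have h1 : Nat.card K ≤ Nat.card θ.range :=
    Nat.card_le_card_of_injective _ (Subgroup.inclusion_injective hK)
  have h2 : Nat.card θ.range ≤ Nat.card G' :=
    Nat.card_le_card_of_surjective _ θ.rangeRestrict_surjective
  have hb := Function.Surjective.bijective_of_nat_card_le θ.rangeRestrict_surjective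
    (le_trans hc h1)
  refine ⟨?_, le_antisymm hc (le_trans h1 h2)⟩
  intro a a' e
  apply hb.1
  exact Subtype.ext e

/-! ### orders of elements given by words -/

theorem Act.ev_replicate (X : Act α G n k) (W : List α) (m : ℕ) :
    X.ev ((List.replicate m W).flatten) = X.ev W ^ m := by
  induction m with
  | zero => simp
  | succ m ih =>
    rw [List.replicate_succ, List.flatten_cons, Act.ev_append, ih, pow_succ']

theorem Act.φ_pow_val (X : Act α G n k) (W : List α) (m : ℕ) (j : Fin n) :
    (((X.φ (X.ev W)) ^ m) j : ℕ) = (wpos X.nets W)^[m] j := by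
  induction m with
  | zero => simp
  | succ m ih =>
    rw [pow_succ', Equiv.Perm.coe_mul, Function.comp_apply, X.φ_ev_val, ih,
      Function.iterate_succ_apply']

/-- the order of the permutation of a word, from a cycle of full length. -/
theorem Act.orderOf_φ_ev (X : Act α G n k) (W : List α) (h : ℕ) (hh : 0 < h)
    (h1 : relOK X.nets k ((List.replicate h W).flatten) = true)
    (j : Fin n) (h2 : ∀ m < h, 0 < m → (wpos X.nets W)^[m] j ≠ j) :
    orderOf (X.φ (X.ev W)) = h := by
  rw [orderOf_eq_iff hh]
  refine ⟨?_, fun m hm hm0 hc => h2 m hm hm0 ?_⟩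
  · rw [← map_pow, ← X.ev_replicate]
    exact X.φ_ev_eq_one _ h1
  · rw [← X.φ_pow_val, hc]; simp

end Cfsg.Agent.Lib.Helper13.CE
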