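import Cfsg.Agent.Lib.Helper13.CosetY

set_option autoImplicit false

/-!
Simplicity of a group from a rank three action given by a coset enumeration certificate, through
the Iwasawa criterion of Mathlib, and auxiliary facts on orders.
-/

namespace Cfsg.Agent.Lib.Helper13.CE

open scoped Pointwise

variable {α : Type} {G : Type*} [Group G] {n k : ℕ}

/-! ### words -/

theorem Act.ev_reverse (X : Act α G n k) (W : List α) : X.ev W.reverse = (X.ev W)⁻¹ := by
  induction W with
  | nil => simp
  | cons x W ih =>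
    rw [List.reverse_cons, Act.ev_append, ih, Act.ev_cons, Act.ev_cons, Act.ev_nil, mul_one,
      mul_inv_rev, X.inv_s]

theorem Act.ev_eq_one_of_inj (X : Act α G n k) (hinj : Function.Injective X.φ) (W : List α)
    (hW : relOK X.nets k W = true) : X.ev W = 1 :=
  hinj (by rw [X.φ_ev_eq_one W hW, map_one])

/-- commutation of two words from the plane check of the commutator. -/
theorem Act.comm_of_relOK (X : Act α G n k) (hinj : Function.Injective X.φ) (W T : List α)
    (h : relOK X.nets k (W ++ T ++ W.reverse ++ T.reverse) = true) :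
    X.ev W * X.ev T = X.ev T * X.ev W := by
  have h1 := X.ev_eq_one_of_inj hinj _ h
  rw [Act.ev_append, Act.ev_append, Act.ev_append, X.ev_reverse, X.ev_reverse] at h1
  have h3 : X.ev W * X.ev T * (X.ev W)⁻¹ = X.ev T := by
    rw [mul_inv_eq_one] at h1
    exact h1
  calc X.ev W * X.ev T = (X.ev W * X.ev T * (X.ev W)⁻¹) * X.ev W := by group
    _ = X.ev T * X.ev W := by rw [h3]

/-- a generator as a conjugate of a word, from a plane check. -/
theorem Act.conj_of_relOK (X : Act α G n k) (hinj : Function.Injective X.φ) (V T : List α)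
    (x : α) (h : relOK X.nets k (V ++ T ++ V.reverse ++ [x]) = true) :
    X.s x = X.ev V * X.ev T * (X.ev V)⁻¹ := by
  have h1 := X.ev_eq_one_of_inj hinj _ h
  rw [Act.ev_append, Act.ev_append, Act.ev_append, X.ev_reverse, Act.ev_cons, Act.ev_nil,
    mul_one] at h1
  have h2 := eq_inv_of_mul_eq_one_left h1
  rw [X.inv_s] at h2
  exact h2.symm

/-! ### perfect groups generated by conjugate involutions -/

theorem Act.normalClosure_eq_top (X : Act α G n k)
    (hgen : Subgroup.closure (Set.range X.s) = ⊤) (t : G)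
    (hconj : ∀ x, ∃ v, X.s x = v * t * v⁻¹) : Subgroup.normalClosure {t} = ⊤ := by
  rw [eq_top_iff, ← hgen, Subgroup.closure_le]
  rintro _ ⟨x, rfl⟩
  obtain ⟨v, hv⟩ := hconj x
  show X.s x ∈ Subgroup.normalClosure {t}
  rw [hv]
  exact (Subgroup.normalClosure_normal (s := {t})).conj_mem _
    (Subgroup.subset_normalClosure (Set.mem_singleton t)) v

theorem Act.commutator_eq_top (X : Act α G n k)
    (hgen : Subgroup.closure (Set.range X.s) = ⊤) (t : G)
    (hconj : ∀ x, ∃ v, X.s x = v * t * v⁻¹) (W0 : List α) (hW0 : X.ev W0 = 1)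
    (hodd : W0.length % 2 = 1) : commutator G = ⊤ := by
  have hs : ∀ x, Abelianization.of (X.s x) = Abelianization.of t := by
    intro x
    obtain ⟨v, hv⟩ := hconj x
    rw [hv, map_mul, map_mul, map_inv, mul_comm, inv_mul_cancel_left]
  have hw : ∀ W : List α, Abelianization.of (X.ev W) = Abelianization.of t ^ W.length := by
    intro W
    induction W with
    | nil => simp
    | cons x W ih => rw [Act.ev_cons, map_mul, ih, hs, List.length_cons, pow_succ']
  have h2 : Abelianization.of t ^ 2 = 1 := by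
    cases W0 with
    | nil => simp at hodd
    | cons x W =>
      have := congrArg Abelianization.of (X.hs x)
      rw [map_mul, hs, map_one] at this
      rw [pow_two]; exact this
  have h1 : Abelianization.of t = 1 := by
    have h3 := hw W0
    rw [hW0, map_one] at h3
    have h4 : W0.length = 2 * (W0.length / 2) + 1 := by omega
    rw [h4, pow_succ, pow_mul, h2, one_pow, one_mul] at h3
    exact h3.symm
  rw [eq_top_iff, ← hgen, Subgroup.closure_le]
  rintro _ ⟨x, rfl⟩
  show X.s x ∈ commutator G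
  rw [← Abelianization.ker_of, MonoidHom.mem_ker, hs, h1]

/-! ### the action on the points -/

section action

variable [NeZero n] (X : Act α G n k) (H : Subgroup G) (f : G ⧸ H ≃ Fin n)
  (hf : ∀ g : G, f (QuotientGroup.mk g) = X.φ g 0)

include hf

theorem Act.exists_φ_zero_eq (c : Fin n) : ∃ g : G, X.φ g 0 = c := by
  obtain ⟨g, hg⟩ := QuotientGroup.mk_surjective (f.symm c)
  exact ⟨g, by rw [← hf, hg, Equiv.apply_symm_apply]⟩

theorem Act.mem_iff_φ_zero (g : G) : g ∈ H ↔ X.φ g 0 = 0 := by
  have h1 : f (QuotientGroup.mk (1 : G)) = 0 := by rw [hf, map_one]; rfl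
  constructor
  · intro hg
    rw [← hf, ← h1]
    congr 1
    rw [QuotientGroup.eq]
    simpa using H.inv_mem hg
  · intro hg
    rw [← hf, ← h1] at hg
    have h2 := f.injective hg
    rw [QuotientGroup.eq] at h2
    have h3 := H.inv_mem h2
    simpa using h3

theorem Act.f_smul (h : H) (q : G ⧸ H) : f (h • q) = X.φ (h : G) (f q) := by
  induction q using QuotientGroup.induction_on with
  | H g =>
    have : h • (QuotientGroup.mk g : G ⧸ H) = QuotientGroup.mk ((h : G) * g) := rfl
    rw [this, hf, hf, map_mul]; rfl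

/-- transitivity of the subgroup on a range of points which is one of its orbits. -/
theorem Act.trans_on_range (subs : List (List α))
    (hH : H = Subgroup.closure {g | ∃ W ∈ subs, g = X.ev W})
    (steps : List ℕ) (lo m : ℕ) (hok : orbOK X.nets n subs steps lo m = true)
    (c c' : Fin n) (hc : lo ≤ (c : ℕ) ∧ (c : ℕ) < lo + m) (hc' : lo ≤ (c' : ℕ) ∧ (c' : ℕ) < lo + m) :
    ∃ h ∈ H, X.φ h c = c' := by
  have hlo : lo < n := lt_of_le_of_lt hc.1 c.2
  have ho := X.orbit_eq H f hf subs hH steps lo m hok (f.symm ⟨lo, hlo⟩) (by simp)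
  have h1 : f.symm c ∈ MulAction.orbit H (f.symm ⟨lo, hlo⟩) := by
    rw [ho.1]; simpa using hc
  have h2 : f.symm c' ∈ MulAction.orbit H (f.symm ⟨lo, hlo⟩) := by
    rw [ho.1]; simpa using hc'
  obtain ⟨a, ha⟩ := h1
  obtain ⟨b, hb⟩ := h2
  refine ⟨(b : G) * (a : G)⁻¹, H.mul_mem b.2 (H.inv_mem a.2), ?_⟩
  have h3 : X.φ (a : G) (⟨lo, hlo⟩ : Fin n) = c := by
    have := X.f_smul H f hf a (f.symm ⟨lo, hlo⟩)
    rw [Equiv.apply_symm_apply] at this
    rw [← this]
    have ha' : a • f.symm ⟨lo, hlo⟩ = f.symm c := ha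
    rw [ha', Equiv.apply_symm_apply]
  have h4 : X.φ (b : G) (⟨lo, hlo⟩ : Fin n) = c' := by
    have := X.f_smul H f hf b (f.symm ⟨lo, hlo⟩)
    rw [Equiv.apply_symm_apply] at this
    rw [← this]
    have hb' : b • f.symm ⟨lo, hlo⟩ = f.symm c' := hb
    rw [hb', Equiv.apply_symm_apply]
  rw [map_mul, Equiv.Perm.coe_mul, Function.comp_apply, map_inv, ← h3]
  simp [h4]

end action

/-! ### primitivity of a rank three action -/

/-- the action of the group on the points. -/
@[reducible] def Act.mulAction (X : Act α G n k) : MulAction G (Fin n) :=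
  MulAction.compHom (Fin n) X.φ

section prim

variable [NeZero n] (X : Act α G n k) (H : Subgroup G) (f : G ⧸ H ≃ Fin n)
  (hf : ∀ g : G, f (QuotientGroup.mk g) = X.φ g 0)

include hf

theorem Act.isPretransitive : @MulAction.IsPretransitive G (Fin n) (X.mulAction).toSMul := by
  letI := X.mulAction
  have hsm : ∀ (g : G) (c : Fin n), g • c = X.φ g c := fun _ _ => rfl
  constructor
  intro x y
  obtain ⟨gx, hx⟩ := X.exists_φ_zero_eq H f hf x
  obtain ⟨gy, hy⟩ := X.exists_φ_zero_eq H f hf y
  refine ⟨gy * gx⁻¹, ?_⟩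
  rw [hsm, map_mul, Equiv.Perm.coe_mul, Function.comp_apply, map_inv, ← hx]
  simp [hy]

theorem Act.isPreprimitive_of_rank3 (subs : List (List α))
    (hH : H = Subgroup.closure {g | ∃ W ∈ subs, g = X.ev W})
    (o1 o2 : List ℕ) (m1 m2 : ℕ) (hn : n = 1 + m1 + m2)
    (ho1 : orbOK X.nets n subs o1 1 m1 = true)
    (ho2 : orbOK X.nets n subs o2 (1 + m1) m2 = true)
    (hd1 : ¬ (1 + m1) ∣ n) (hd2 : ¬ (1 + m2) ∣ n) :
    @MulAction.IsPreprimitive G (Fin n) (X.mulAction).toSMul := by
  letI := X.mulAction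
  have hsm : ∀ (g : G) (c : Fin n), g • c = X.φ g c := fun _ _ => rfl
  haveI : MulAction.IsPretransitive G (Fin n) := X.isPretransitive H f hf
  apply MulAction.IsPreprimitive.of_isTrivialBlock_base (0 : Fin n)
  intro B h0 hB
  have hHB : ∀ h ∈ H, ∀ c ∈ B, X.φ h c ∈ B := by
    intro h hh c hc
    have h1 : h • (0 : Fin n) ∈ B := by
      rw [hsm, (X.mem_iff_φ_zero H f hf h).mp hh]; exact h0
    have h2 : h • B = B := (MulAction.isBlock_iff_smul_eq_of_mem.mp hB) h0 h1
    rw [← h2]
    exact ⟨c, hc, rfl⟩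
  have hr1 : ∀ c ∈ B, (1 ≤ (c : ℕ) ∧ (c : ℕ) < 1 + m1) →
      ∀ c' : Fin n, (1 ≤ (c' : ℕ) ∧ (c' : ℕ) < 1 + m1) → c' ∈ B := by
    intro c hc hcr c' hcr'
    obtain ⟨h, hh, he⟩ := X.trans_on_range H f hf subs hH o1 1 m1 ho1 c c' hcr hcr'
    rw [← he]; exact hHB h hh c hc
  have hr2 : ∀ c ∈ B, (1 + m1 ≤ (c : ℕ) ∧ (c : ℕ) < 1 + m1 + m2) →
      ∀ c' : Fin n, (1 + m1 ≤ (c' : ℕ) ∧ (c' : ℕ) < 1 + m1 + m2) → c' ∈ B := by
    intro c hc hcr c' hcr'
    obtain ⟨h, hh, he⟩ := X.trans_on_range H f hf subs hH o2 (1 + m1) m2 ho2 c c' hcr hcr'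
    rw [← he]; exact hHB h hh c hc
  have hz : ∀ c : Fin n, (c : ℕ) = 0 → c = 0 := by
    intro c hc
    apply Fin.ext
    rw [hc]; simp
  have hcardB : B.ncard ∣ n := by
    have := hB.ncard_dvd_card ⟨0, h0⟩
    rwa [Nat.card_eq_fintype_card, Fintype.card_fin] at this
  by_cases e1 : ∃ c ∈ B, 1 ≤ (c : ℕ) ∧ (c : ℕ) < 1 + m1
  · obtain ⟨c1, hc1, hcr1⟩ := e1
    by_cases e2 : ∃ c ∈ B, 1 + m1 ≤ (c : ℕ) ∧ (c : ℕ) < 1 + m1 + m2
    · obtain ⟨c2, hc2, hcr2⟩ := e2
      right
      ext c
      simp only [Set.mem_univ, iff_true]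
      by_cases hc0 : (c : ℕ) = 0
      · rw [hz c hc0]; exact h0
      · by_cases hc1' : (c : ℕ) < 1 + m1
        · exact hr1 c1 hc1 hcr1 c ⟨by omega, hc1'⟩
        · exact hr2 c2 hc2 hcr2 c ⟨by omega, by have := c.2; omega⟩
    · exfalso
      have hBset : Fin.val '' B = Set.Iio (1 + m1) := by
        ext j
        constructor
        · rintro ⟨c, hc, rfl⟩
          by_contra hj
          simp only [Set.mem_Iio, not_lt] at hj
          exact e2 ⟨c, hc, hj, by have := c.2; omega⟩
        · intro hj
          simp only [Set.mem_Iio] at hj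
          have hj' : j < n := by omega
          by_cases hj0 : j = 0
          · exact ⟨0, h0, by simp [hj0]⟩
          · exact ⟨⟨j, hj'⟩, hr1 c1 hc1 hcr1 ⟨j, hj'⟩ ⟨by simp; omega, by simpa using hj⟩, rfl⟩
      have hcard : B.ncard = 1 + m1 := by
        rw [← Set.ncard_image_of_injective B Fin.val_injective, hBset,
          Set.ncard_eq_toFinset_card', Set.toFinset_Iio, Nat.card_Iio]
      rw [hcard] at hcardB
      exact hd1 hcardB
  · by_cases e2 : ∃ c ∈ B, 1 + m1 ≤ (c : ℕ) ∧ (c : ℕ) < 1 + m1 + m2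
    · exfalso
      obtain ⟨c2, hc2, hcr2⟩ := e2
      have hBset : Fin.val '' B = insert 0 (Set.Ico (1 + m1) n) := by
        ext j
        constructor
        · rintro ⟨c, hc, rfl⟩
          by_cases hc0 : (c : ℕ) = 0
          · left; exact hc0
          · right
            simp only [Set.mem_Ico]
            refine ⟨?_, c.2⟩
            by_contra hlt
            exact e1 ⟨c, hc, by omega, by omega⟩
        · intro hj
          rcases hj with hj | hj
          · exact ⟨0, h0, by simp [hj]⟩
          · simp only [Set.mem_Ico] at hj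
            exact ⟨⟨j, hj.2⟩, hr2 c2 hc2 hcr2 ⟨j, hj.2⟩ ⟨hj.1, by simp; omega⟩, rfl⟩
      have hcard : B.ncard = 1 + m2 := by
        rw [← Set.ncard_image_of_injective B Fin.val_injective, hBset,
          Set.ncard_insert_of_notMem (by simp), Set.ncard_eq_toFinset_card', Set.toFinset_Ico,
          Nat.card_Ico]
        omega
      rw [hcard] at hcardB
      exact hd2 hcardB
    · left
      have hB0 : ∀ x ∈ B, x = 0 := by
        intro x hx
        apply hz
        by_contra hx0
        by_cases hx1 : (x : ℕ) < 1 + m1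
        · exact e1 ⟨x, hx, by omega, hx1⟩
        · exact e2 ⟨x, hx, by omega, by have := x.2; omega⟩
      intro x hx y hy
      rw [hB0 x hx, hB0 y hy]

end prim

/-! ### the Iwasawa criterion -/

section iwasawa

variable [NeZero n] (X : Act α G n k) (H : Subgroup G) (f : G ⧸ H ≃ Fin n)
  (hf : ∀ g : G, f (QuotientGroup.mk g) = X.φ g 0)

include hf

/-- the conjugates of an element centralised by the point stabiliser depend only on the point. -/
theorem Act.conj_eq_of_φ_eq (t : G) (hcent : ∀ h ∈ H, h * t = t * h) (g g' : G)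
    (h : X.φ g 0 = X.φ g' 0) : g * t * g⁻¹ = g' * t * g'⁻¹ := by
  have h1 : g'⁻¹ * g ∈ H := by
    rw [X.mem_iff_φ_zero H f hf, map_mul, Equiv.Perm.coe_mul, Function.comp_apply, h, map_inv]
    simp
  have h2 := hcent _ h1
  calc g * t * g⁻¹ = g' * ((g'⁻¹ * g) * t) * (g'⁻¹ * g)⁻¹ * g'⁻¹ := by group
    _ = g' * (t * (g'⁻¹ * g)) * (g'⁻¹ * g)⁻¹ * g'⁻¹ := by rw [h2]
    _ = g' * t * g'⁻¹ := by group

/-- the Iwasawa structure given by the conjugates of an element centralised by the point
stabiliser. -/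
noncomputable def Act.iwasawa (t : G) (hcent : ∀ h ∈ H, h * t = t * h)
    (hnc : Subgroup.normalClosure {t} = ⊤) :
    @MulAction.IwasawaStructure G _ (Fin n) X.mulAction :=
  letI := X.mulAction
  { T := fun c => Subgroup.zpowers (Classical.choose (X.exists_φ_zero_eq H f hf c) * t *
      (Classical.choose (X.exists_φ_zero_eq H f hf c))⁻¹)
    is_comm := fun c => inferInstance
    is_conj := by
      intro g c
      have hr := Classical.choose_spec (X.exists_φ_zero_eq H f hf c)
      have hr' := Classical.choose_spec (X.exists_φ_zero_eq H f hf (g • c))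
      have h1 : X.φ (Classical.choose (X.exists_φ_zero_eq H f hf (g • c))) 0 =
          X.φ (g * Classical.choose (X.exists_φ_zero_eq H f hf c)) 0 := by
        rw [hr', map_mul, Equiv.Perm.coe_mul, Function.comp_apply, hr]; rfl
      rw [X.conj_eq_of_φ_eq H f hf t hcent _ _ h1]
      show Subgroup.zpowers _ = Subgroup.map (MulAut.conj g).toMonoidHom (Subgroup.zpowers _)
      rw [MonoidHom.map_zpowers]
      congr 1
      rw [MulEquiv.coe_toMonoidHom, MulAut.conj_apply]
      group
    is_generator := by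
      rw [eq_top_iff, ← hnc]
      unfold Subgroup.normalClosure
      rw [Subgroup.closure_le]
      intro x hx
      rw [Group.mem_conjugatesOfSet_iff] at hx
      obtain ⟨a, ha, hax⟩ := hx
      rw [Set.mem_singleton_iff] at ha
      subst ha
      obtain ⟨c, rfl⟩ := isConj_iff.mp hax
      have hr := Classical.choose_spec (X.exists_φ_zero_eq H f hf (X.φ c 0))
      refine Subgroup.mem_iSup_of_mem (X.φ c 0) ?_
      show c * a * c⁻¹ ∈ Subgroup.zpowers _
      rw [X.conj_eq_of_φ_eq H f hf a hcent _ _ hr]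
      exact Subgroup.mem_zpowers _ }

/-- a proper normal subgroup acts trivially on the points of a rank three action with an
Iwasawa structure, when the group is perfect. -/
theorem Act.normal_le_ker (subs : List (List α))
    (hH : H = Subgroup.closure {g | ∃ W ∈ subs, g = X.ev W})
    (o1 o2 : List ℕ) (m1 m2 : ℕ) (hn : n = 1 + m1 + m2)
    (ho1 : orbOK X.nets n subs o1 1 m1 = true)
    (ho2 : orbOK X.nets n subs o2 (1 + m1) m2 = true)
    (hd1 : ¬ (1 + m1) ∣ n) (hd2 : ¬ (1 + m2) ∣ n)
    (t : G) (hcent : ∀ h ∈ H, h * t = t * h) (hnc : Subgroup.normalClosure {t} = ⊤)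
    (hperf : commutator G = ⊤) (N : Subgroup G) [N.Normal] (hN : N ≠ ⊤) : N ≤ X.φ.ker := by
  letI := X.mulAction
  haveI : MulAction.IsPreprimitive G (Fin n) :=
    X.isPreprimitive_of_rank3 H f hf subs hH o1 o2 m1 m2 hn ho1 ho2 hd1 hd2
  by_contra hle
  have hfix : MulAction.fixedPoints N (Fin n) ≠ Set.univ := by
    intro hu
    apply hle
    intro g hg
    rw [MonoidHom.mem_ker]
    ext c
    have h1 : c ∈ MulAction.fixedPoints N (Fin n) := by rw [hu]; trivial
    have h2 : (⟨g, hg⟩ : N) • c = c := h1 ⟨g, hg⟩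
    have h3 : X.φ g c = c := h2
    rw [h3]; rfl
  have h4 := (X.iwasawa H f hf t hcent hnc).commutator_le N hfix
  rw [hperf] at h4
  exact hN (top_le_iff.mp h4)

/-- simplicity of a perfect group with a faithful rank three action with an Iwasawa structure. -/
theorem Act.isSimpleGroup_of_rank3 (hinj : Function.Injective X.φ) (subs : List (List α))
    (hH : H = Subgroup.closure {g | ∃ W ∈ subs, g = X.ev W})
    (o1 o2 : List ℕ) (m1 m2 : ℕ) (hn : n = 1 + m1 + m2)
    (ho1 : orbOK X.nets n subs o1 1 m1 = true)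
    (ho2 : orbOK X.nets n subs o2 (1 + m1) m2 = true)
    (hd1 : ¬ (1 + m1) ∣ n) (hd2 : ¬ (1 + m2) ∣ n)
    (t : G) (hcent : ∀ h ∈ H, h * t = t * h) (hnc : Subgroup.normalClosure {t} = ⊤)
    (hperf : commutator G = ⊤) : IsSimpleGroup G := by
  have hnt : Nontrivial G := by
    by_contra hnt
    rw [not_nontrivial_iff_subsingleton] at hnt
    apply hd1
    have hm2 : m2 = 0 := by
      by_contra hm2
      have hlt : 1 + m1 < n := by omega
      obtain ⟨g, hg⟩ := X.exists_φ_zero_eq H f hf ⟨1 + m1, hlt⟩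
      have : g = 1 := Subsingleton.elim _ _
      rw [this, map_one] at hg
      have := congrArg Fin.val hg
      simp at this
      omega
    rw [hn, hm2]
    simp
  refine { toNontrivial := hnt, eq_bot_or_eq_top_of_normal := ?_ }
  intro N hN
  by_cases hNt : N = ⊤
  · exact Or.inr hNt
  · left
    have h1 := X.normal_le_ker H f hf subs hH o1 o2 m1 m2 hn ho1 ho2 hd1 hd2 t hcent hnc hperf N hNt
    rw [(MonoidHom.ker_eq_bot_iff X.φ).mpr hinj] at h1
    exact le_bot_iff.mp h1

end iwasawa

/-! ### orders -/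

/-- order bound from an index certificate over a subgroup of bounded order. -/
theorem card_le_of_index {G : Type*} [Group G] (H : Subgroup G) [Finite H] (m n : ℕ)
    (hm : Nat.card H ≤ m) (f : G ⧸ H ≃ Fin n) : Finite G ∧ Nat.card G ≤ n * m := by
  haveI : Finite (G ⧸ H) := Finite.of_equiv _ f.symm
  haveI : Finite G := Finite.of_subgroup_quotient H
  refine ⟨inferInstance, ?_⟩
  have h1 := Subgroup.card_eq_card_quotient_mul_card_subgroup H
  have h2 : Nat.card (G ⧸ H) = n := by rw [Nat.card_congr f, Nat.card_fin]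
  rw [h1, h2]
  exact Nat.mul_le_mul_left _ hm

/-- exact order from an index certificate. -/
theorem card_eq_of_index {G : Type*} [Group G] (H : Subgroup G) (n : ℕ) (f : G ⧸ H ≃ Fin n) :
    Nat.card G = n * Nat.card H := by
  have h1 := Subgroup.card_eq_card_quotient_mul_card_subgroup H
  have h2 : Nat.card (G ⧸ H) = n := by rw [Nat.card_congr f, Nat.card_fin]
  rw [h1, h2]

/-- the image of a homomorphism with a non-trivial element in the kernel has at most half the
order. -/
theorem two_mul_card_range_le {G G' : Type*} [Group G] [Group G'] [Finite G'] (ι : G' →* G)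
    (g : G') (hg : g ≠ 1) (h1 : ι g = 1) : 2 * Nat.card ι.range ≤ Nat.card G' := by
  have h3 : Nat.card G' = Nat.card ι.ker * Nat.card ι.range := by
    rw [Subgroup.card_eq_card_quotient_mul_card_subgroup ι.ker,
      Nat.card_congr (QuotientGroup.quotientKerEquivRange ι).toEquiv, mul_comm]
  have h4 : 2 ≤ Nat.card ι.ker := by
    by_contra hlt
    have h5 : Nat.card ι.ker ≤ 1 := by omega
    have h6 := Subgroup.eq_bot_of_card_le ι.ker h5
    have h7 : g ∈ ι.ker := h1
    rw [h6, Subgroup.mem_bot] at h7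
    exact hg h7
  rw [h3]
  exact Nat.mul_le_mul_right _ h4

/-- from an upper bound on the order and a stabiliser chain in the action: the action is
faithful and the order is known. -/
theorem Act.injective_of_chain {G : Type*} [Group G] [Finite G] {n k : ℕ} (X : Act α G n k)
    (gens : List α) (j : ℕ) (lv : List (ℕ × List ℕ × ℕ))
    (hchain : chainOK X.nets n gens j lv = true) (N : ℕ) (hN : Nat.card G ≤ N)
    (hprod : N ≤ (lv.map (fun l => l.2.2)).prod) :
    Function.Injective X.φ ∧ Nat.card G = N := by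
  have h1 : (lv.map (fun l => l.2.2)).prod ≤ Nat.card (X.toRange.sub (gens.take j)) :=
    X.toRange.chain_sound gens j lv hchain
  have h2 : Nat.card (X.toRange.sub (gens.take j)) ≤ Nat.card X.φ.range :=
    Nat.card_le_card_of_injective _ Subtype.val_injective
  have h3 : Nat.card X.φ.range ≤ Nat.card G :=
    Nat.card_le_card_of_surjective _ X.φ.rangeRestrict_surjective
  have hb := Function.Surjective.bijective_of_nat_card_le X.φ.rangeRestrict_surjective
    (by omega)
  refine ⟨?_, by omega⟩
  intro a a' e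
  apply hb.1
  exact Subtype.ext e

end Cfsg.Agent.Lib.Helper13.CE
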