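import Cfsg.Agent.Lib.Helper13.CoxOrders
import Cfsg.Agent.Lib.Helper13.CosetSimple

set_option autoImplicit false

/-!
Order bounds for Coxeter-graph presented groups along sub-diagrams, down to an `E₇` sub-diagram
whose Coxeter element has trivial ninth power.
-/

namespace Cfsg.Agent.Lib.Helper13.CE

open Cfsg.Spor

theorem comp_coxHom_prod {B B' : Type} {n k : ℕ} (M : CoxeterMatrix B) (M' : CoxeterMatrix B')
    (e : B' → B) (he : ∀ i j, M' i j = M (e i) (e j)) (X : Act B M.Group n k)
    (hs : X.s = M.simple) (L : List B') :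
    X.φ (coxHom M M' e he (L.map M'.simple).prod) = X.φ (X.ev (L.map e)) := by
  congr 1
  rw [map_list_prod, List.map_map]
  unfold Act.ev
  rw [List.map_map, hs]
  congr 1

/-- a product of simple reflections of `E₇` which moves a point of the action on 240 points is
non-trivial. -/
theorem e7_prod_ne_one (L : List (Fin 7)) (j : ℕ) (hj : j < 240)
    (hm : wpos CoxE8.par.nets (L.map (Fin.castLE (by norm_num))) j ≠ j) :
    (L.map CoxeterMatrix.E₇.simple).prod ≠ 1 := by
  obtain ⟨X, hnets, hs, -, -, -⟩ := e8_faithful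
  intro h1
  have h2 := comp_coxHom_prod CoxeterMatrix.E₈ CoxeterMatrix.E₇ (Fin.castLE (by norm_num)) he78
    X hs L
  rw [h1, map_one, map_one] at h2
  exact X.φ_ev_ne_one _ ⟨j, hj⟩ (by rw [hnets]; exact hm) h2.symm

variable {α : Type}

theorem coxToPres_prod {B : Type} [DecidableEq α] (M : CoxeterMatrix B)
    (edges : List (α × ℕ × α)) (extra : List (FreeGroup α)) (e : B → α)
    (hnodes : ∀ i, e i ∈ coxNodes edges) (hlab : ∀ i j, M i j = coxLabel edges (e i) (e j))
    (L : List B) :
    coxToPres M edges extra e hnodes hlab (L.map M.simple).prod =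
      PresentedGroup.mk _ (((L.map e).map FreeGroup.of).prod) := by
  induction L with
  | nil => simp
  | cons x L ih =>
    rw [List.map_cons, List.prod_cons, map_mul, ih, coxToPres_simple, List.map_cons,
      List.map_cons, List.prod_cons, map_mul]
    rfl

/-- the order bound for a Coxeter-graph presented group from an index certificate over an `E₇`
sub-diagram with a Coxeter element of trivial ninth power. -/
theorem card_le_of_e7 [DecidableEq α] (edges : List (α × ℕ × α)) (extra : List (FreeGroup α))
    (e : Fin 7 → α) (hnodes : ∀ i, e i ∈ coxNodes edges)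
    (hlab : ∀ i j, CoxeterMatrix.E₇ i j = coxLabel edges (e i) (e j))
    (L : List (Fin 7)) (j : ℕ) (hj : j < 240)
    (hm : wpos CoxE8.par.nets (L.map (Fin.castLE (by norm_num))) j ≠ j)
    (hL : PresentedGroup.mk (coxRelators edges ∪ {r | r ∈ extra})
      (((L.map e).map FreeGroup.of).prod) = 1)
    (subs : List (List α)) (hsubs : ∀ W ∈ subs, ∃ i, W = [e i]) (n : ℕ)
    (f : PresentedGroup (coxRelators edges ∪ {r | r ∈ extra}) ⧸
      Subgroup.closure {g | ∃ W ∈ subs, g = PresentedGroup.mk
        (coxRelators edges ∪ {r | r ∈ extra}) ((W.map FreeGroup.of).prod)} ≃ Fin n) :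
    Finite (PresentedGroup (coxRelators edges ∪ {r | r ∈ extra})) ∧
      Nat.card (PresentedGroup (coxRelators edges ∪ {r | r ∈ extra})) ≤ n * 1451520 := by
  let ι := coxToPres CoxeterMatrix.E₇ edges extra e hnodes hlab
  have hH : Subgroup.closure {g | ∃ W ∈ subs, g = PresentedGroup.mk
      (coxRelators edges ∪ {r | r ∈ extra}) ((W.map FreeGroup.of).prod)} ≤ ι.range := by
    apply closure_subs_le_range (β := α) edges extra ι subs
    intro W hW
    obtain ⟨i, rfl⟩ := hsubs W hW
    exact ⟨e i, rfl, ⟨CoxeterMatrix.E₇.simple i, coxToPres_simple _ _ _ _ _ _ i⟩⟩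
  haveI : Finite ι.range := Finite.of_surjective _ ι.rangeRestrict_surjective
  haveI : Finite (Subgroup.closure {g | ∃ W ∈ subs, g = PresentedGroup.mk
      (coxRelators edges ∪ {r | r ∈ extra}) ((W.map FreeGroup.of).prod)}) :=
    Finite.of_injective _ (Subgroup.inclusion_injective hH)
  have h1 := two_mul_card_range_le ι _ (e7_prod_ne_one L j hj hm)
    (by rw [coxToPres_prod]; exact hL)
  rw [card_E7] at h1
  have h2 : Nat.card (Subgroup.closure {g | ∃ W ∈ subs, g = PresentedGroup.mk
      (coxRelators edges ∪ {r | r ∈ extra}) ((W.map FreeGroup.of).prod)}) ≤ Nat.card ι.range :=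
    Nat.card_le_card_of_injective _ (Subgroup.inclusion_injective hH)
  exact card_le_of_index _ 1451520 n (by omega) f

/-- the order bound for a Coxeter-graph presented group from an index certificate over the image
of the presented group of a sub-diagram. -/
theorem card_le_of_presHom {β : Type} [DecidableEq α] [DecidableEq β]
    (edges : List (α × ℕ × α)) (extra : List (FreeGroup α)) (edges' : List (β × ℕ × β))
    (extra' : List (FreeGroup β)) (e : β → α)
    (hnodes : ∀ x ∈ coxNodes edges', e x ∈ coxNodes edges)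
    (hlab : ∀ x ∈ coxNodes edges', ∀ y ∈ coxNodes edges',
      coxLabel edges' x y = coxLabel edges (e x) (e y))
    (hextra : ∀ r ∈ extra', PresentedGroup.mk (coxRelators edges ∪ {r | r ∈ extra})
      (FreeGroup.map e r) = 1)
    (m : ℕ) (hfin : Finite (PresentedGroup (coxRelators edges' ∪ {r | r ∈ extra'})))
    (hm : Nat.card (PresentedGroup (coxRelators edges' ∪ {r | r ∈ extra'})) ≤ m)
    (subs : List (List α)) (hsubs : ∀ W ∈ subs, ∃ i, W = [e i]) (n : ℕ)
    (f : PresentedGroup (coxRelators edges ∪ {r | r ∈ extra}) ⧸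
      Subgroup.closure {g | ∃ W ∈ subs, g = PresentedGroup.mk
        (coxRelators edges ∪ {r | r ∈ extra}) ((W.map FreeGroup.of).prod)} ≃ Fin n) :
    Finite (PresentedGroup (coxRelators edges ∪ {r | r ∈ extra})) ∧
      Nat.card (PresentedGroup (coxRelators edges ∪ {r | r ∈ extra})) ≤ n * m := by
  let ι := presHom edges extra edges' extra' e hnodes hlab hextra
  have hH : Subgroup.closure {g | ∃ W ∈ subs, g = PresentedGroup.mk
      (coxRelators edges ∪ {r | r ∈ extra}) ((W.map FreeGroup.of).prod)} ≤ ι.range := by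
    apply closure_subs_le_range (β := α) edges extra ι subs
    intro W hW
    obtain ⟨i, rfl⟩ := hsubs W hW
    exact ⟨e i, rfl, ⟨PresentedGroup.of i, presHom_of _ _ _ _ _ _ _ _ i⟩⟩
  have h := card_le_mul_of_range ι _ hH n f
  exact ⟨h.1, le_trans h.2 (Nat.mul_le_mul_left _ hm)⟩

end Cfsg.Agent.Lib.Helper13.CE
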