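import Cfsg.Agent.Lib.Helper13.CosetPerm

set_option autoImplicit false

/-!
Group side of the coset-enumeration certificates: a group `G` generated by involutions `s x`,
acting on `Fin n` through the permutations defined by networks.
-/

namespace Cfsg.Agent.Lib.Helper13.CE

/-- A group with involutive generators acting on `Fin n` via the networks. -/
structure Act (α : Type) (G : Type*) [Group G] (n k : ℕ) where
  nets : α → List (ℕ × ℕ)
  ok : NetOK nets n k
  s : α → G
  hs : ∀ x, s x * s x = 1
  φ : G →* Equiv.Perm (Fin n)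
  hφ : ∀ x (j : Fin n), ((φ (s x) j : Fin n) : ℕ) = npos (nets x) j

namespace Act

variable {α : Type} {G : Type*} [Group G] {n k : ℕ} (X : Act α G n k)

/-- the value of a word. -/
def ev (W : List α) : G := (W.map X.s).prod

@[simp] theorem ev_nil : X.ev [] = 1 := rfl
@[simp] theorem ev_cons (x : α) (W : List α) : X.ev (x :: W) = X.s x * X.ev W := by simp [ev]
@[simp] theorem ev_append (V W : List α) : X.ev (V ++ W) = X.ev V * X.ev W := by simp [ev]

theorem inv_s (x : α) : (X.s x)⁻¹ = X.s x := inv_eq_of_mul_eq_one_right (X.hs x)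

theorem φ_s_invol (x : α) (j : Fin n) : X.φ (X.s x) (X.φ (X.s x) j) = j := by
  have : X.φ (X.s x) * X.φ (X.s x) = 1 := by rw [← map_mul, X.hs, map_one]
  have h2 := congrArg (fun p : Equiv.Perm (Fin n) => p j) this
  simpa using h2

theorem φ_s_inv (x : α) (j : Fin n) : (X.φ (X.s x))⁻¹ j = X.φ (X.s x) j := by
  rw [← map_inv, X.inv_s]

theorem φ_ev_val (W : List α) (j : Fin n) :
    ((X.φ (X.ev W) j : Fin n) : ℕ) = wpos X.nets W j := by
  induction W generalizing j with
  | nil => simp [wpos]
  | cons l ls ih =>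
    simp only [ev_cons, map_mul, Equiv.Perm.coe_mul, Function.comp_apply, wpos]
    rw [X.hφ, ih]

theorem testBit_napply' (x : α) (S : ℕ) (j : Fin n) :
    (napply (X.nets x) S).testBit j = S.testBit (X.φ (X.s x) j) := by
  rw [testBit_napply _ (X.ok.valid x), X.hφ]

theorem testBit_wapply' (W : List α) (S : ℕ) (j : Fin n) :
    (wapply X.nets W S).testBit j = S.testBit (X.φ (X.ev W) j) := by
  rw [testBit_wapply _ X.ok.valid, X.φ_ev_val]

/-- the Schreier element of the edge `(c, x)` for a transversal `w`. -/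
def del (w : Fin n → G) (c : Fin n) (x : α) : G := w c * X.s x * (w (X.φ (X.s x) c))⁻¹

/-- the path element of `g` starting at `c`. -/
def pp (w : Fin n → G) (c : Fin n) (g : G) : G := w c * g * (w ((X.φ g)⁻¹ c))⁻¹

theorem pp_mul (w : Fin n → G) (c : Fin n) (g g' : G) :
    X.pp w c (g * g') = X.pp w c g * X.pp w ((X.φ g)⁻¹ c) g' := by
  unfold pp
  have : (X.φ (g * g'))⁻¹ c = (X.φ g')⁻¹ ((X.φ g)⁻¹ c) := by
    rw [map_mul, mul_inv_rev]; rfl
  rw [this]; group

theorem pp_inv (w : Fin n → G) (c : Fin n) (g : G) :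
    X.pp w c g⁻¹ = (X.pp w (X.φ g c) g)⁻¹ := by
  unfold pp
  have h1 : (X.φ g⁻¹)⁻¹ c = X.φ g c := by rw [map_inv, inv_inv]
  have h2 : (X.φ g)⁻¹ (X.φ g c) = c := by simp
  rw [h1, h2]; group

theorem pp_s (w : Fin n → G) (c : Fin n) (x : α) : X.pp w c (X.s x) = X.del w c x := by
  unfold pp del; rw [X.φ_s_inv]

theorem pp_mem (H : Subgroup G) (w : Fin n → G)
    (hgen : Subgroup.closure (Set.range X.s) = ⊤)
    (hcov : ∀ x c, X.del w c x ∈ H) (g : G) : ∀ c, X.pp w c g ∈ H := by
  have hg : g ∈ Subgroup.closure (Set.range X.s) := by rw [hgen]; trivial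
  induction hg using Subgroup.closure_induction with
  | mem y hy =>
    obtain ⟨x, rfl⟩ := hy
    intro c; rw [X.pp_s]; exact hcov x c
  | one => intro c; simp [pp]
  | mul a b _ _ iha ihb => intro c; rw [X.pp_mul]; exact H.mul_mem (iha c) (ihb _)
  | inv a _ iha => intro c; rw [X.pp_inv]; exact H.inv_mem (iha _)

/-- the bijection between the cosets of `H` and the points. -/
theorem exists_equiv [NeZero n] (H : Subgroup G) (w : Fin n → G) (hw0 : w 0 = 1)
    (hreach : ∀ c, (X.φ (w c))⁻¹ 0 = c)
    (hfix : ∀ h ∈ H, X.φ h 0 = 0)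
    (hgen : Subgroup.closure (Set.range X.s) = ⊤)
    (hcov : ∀ x c, X.del w c x ∈ H) :
    ∃ f : G ⧸ H ≃ Fin n, ∀ g : G, f (QuotientGroup.mk g) = X.φ g 0 := by
  have hpp := X.pp_mem H w hgen hcov
  have key : ∀ g : G, g⁻¹ * (w (X.φ g 0))⁻¹ ∈ H := by
    intro g
    have := hpp g⁻¹ 0
    unfold pp at this
    rw [hw0, one_mul, map_inv, inv_inv] at this
    exact this
  let f0 : G ⧸ H → Fin n := fun q => Quotient.liftOn' q (fun g => X.φ g 0) (by
    intro a b hab
    rw [QuotientGroup.leftRel_apply] at hab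
    have := hfix _ hab
    rw [map_mul, map_inv] at this
    have h2 : X.φ b 0 = X.φ a 0 := by
      have h3 := congrArg (X.φ a) this
      simpa using h3
    exact h2.symm)
  have hf0 : ∀ g : G, f0 (QuotientGroup.mk g) = X.φ g 0 := fun g => rfl
  have hinj : Function.Injective f0 := by
    intro q q'
    induction q using QuotientGroup.induction_on with
    | H g =>
      induction q' using QuotientGroup.induction_on with
      | H g' =>
        intro h
        rw [hf0, hf0] at h
        rw [QuotientGroup.eq]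
        have h1 := key g
        have h2 := key g'
        rw [← h] at h2
        have := H.mul_mem h1 (H.inv_mem h2)
        convert this using 1
        group
  have hsurj : Function.Surjective f0 := by
    intro c
    refine ⟨QuotientGroup.mk (w c)⁻¹, ?_⟩
    rw [hf0, map_inv]; exact hreach c
  exact ⟨Equiv.ofBijective f0 ⟨hinj, hsurj⟩, fun g => rfl⟩

theorem index_eq [NeZero n] (H : Subgroup G) (f : G ⧸ H ≃ Fin n) : H.index = n := by
  rw [Subgroup.index, Nat.card_congr f, Nat.card_fin]

end Act

/-- the set of bits `lo ≤ j < lo + m`. -/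
def rangeSet (lo m : ℕ) : ℕ := Nat.shiftLeft (2 ^ m - 1) lo

theorem testBit_rangeSet (lo m j : ℕ) :
    (rangeSet lo m).testBit j = decide (lo ≤ j ∧ j < lo + m) := by
  unfold rangeSet
  rw [shl_eq, Nat.testBit_shiftLeft, Nat.testBit_two_pow_sub_one]
  by_cases h : lo ≤ j
  · have : (j - lo < m) ↔ (j < lo + m) := by omega
    simp [h, this]
  · simp [h]

/-- union of a set of bits with its images under a list of subgroup words. -/
def orbBFS {α : Type} (nets : α → List (ℕ × ℕ)) (subs : List (List α)) : List ℕ → ℕ → ℕ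
  | [], O => O
  | j :: js, O => strict (Nat.lor O (wapply nets (subs.getD j []) O)) (fun y => orbBFS nets subs js y)

/-- certificate check: the bits `[lo, lo+m)` form one orbit of the subgroup words. -/
def orbOK {α : Type} (nets : α → List (ℕ × ℕ)) (n : ℕ) (subs : List (List α)) (steps : List ℕ)
    (lo m : ℕ) : Bool :=
  subs.all (fun W => Nat.beq (wapply nets W (rangeSet lo m)) (rangeSet lo m)) &&
  (Nat.beq (orbBFS nets subs steps (Nat.shiftLeft 1 lo)) (rangeSet lo m) &&
  (Nat.ble (lo + m) n && Nat.blt 0 m))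

namespace Act

variable {α : Type} {G : Type*} [Group G] {n k : ℕ} (X : Act α G n k)

theorem orbBFS_sound (H : Subgroup G) (subs : List (List α))
    (hsub : ∀ W ∈ subs, X.ev W ∈ H) (c₀ : Fin n) (steps : List ℕ) (O : ℕ)
    (hO : ∀ c : Fin n, O.testBit c = true → ∃ h ∈ H, X.φ h c₀ = c) :
    ∀ c : Fin n, (orbBFS X.nets subs steps O).testBit c = true → ∃ h ∈ H, X.φ h c₀ = c := by
  induction steps generalizing O with
  | nil => exact hO
  | cons j js ih =>
    simp only [orbBFS, strict_eq]
    apply ih
    intro c hc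
    rw [lor_eq, Nat.testBit_or, Bool.or_eq_true] at hc
    rcases hc with hc | hc
    · exact hO c hc
    · rw [X.testBit_wapply'] at hc
      obtain ⟨h, hh, he⟩ := hO _ hc
      have hW : X.ev (subs.getD j []) ∈ H := by
        by_cases hj : j < subs.length
        · have : subs.getD j [] = subs[j] := by simp [List.getD, hj]
          rw [this]; exact hsub _ (List.getElem_mem hj)
        · have : subs.getD j [] = [] := by
            rw [List.getD_eq_getElem?_getD, List.getElem?_eq_none (by omega)]; rfl
          rw [this]; simp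
      refine ⟨(X.ev (subs.getD j []))⁻¹ * h, H.mul_mem (H.inv_mem hW) hh, ?_⟩
      rw [map_mul, Equiv.Perm.coe_mul, Function.comp_apply, he, map_inv]; simp

theorem orbit_eq [NeZero n] (H : Subgroup G) (f : G ⧸ H ≃ Fin n)
    (hf : ∀ g : G, f (QuotientGroup.mk g) = X.φ g 0) (subs : List (List α))
    (hH : H = Subgroup.closure {g | ∃ W ∈ subs, g = X.ev W})
    (steps : List ℕ) (lo m : ℕ) (hok : orbOK X.nets n subs steps lo m = true)
    (q : G ⧸ H) (hq : (f q : ℕ) = lo) :
    (∀ q', q' ∈ MulAction.orbit H q ↔ lo ≤ (f q' : ℕ) ∧ (f q' : ℕ) < lo + m) ∧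
      (MulAction.orbit H q).ncard = m := by
  simp only [orbOK, Bool.and_eq_true, List.all_eq_true] at hok
  obtain ⟨h1, h2, h3, h4⟩ := hok
  have hlm : lo + m ≤ n := Nat.le_of_ble_eq_true h3
  have hm : 0 < m := by
    have := h4; simp [Nat.blt] at this; omega
  have hsub : ∀ W ∈ subs, X.ev W ∈ H := by
    intro W hW; rw [hH]; exact Subgroup.subset_closure ⟨W, hW, rfl⟩
  -- equivariance
  have heq : ∀ (h : H) (q' : G ⧸ H), f (h • q') = X.φ (h : G) (f q') := by
    intro h q'
    induction q' using QuotientGroup.induction_on with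
    | H g =>
      have : h • (QuotientGroup.mk g : G ⧸ H) = QuotientGroup.mk ((h : G) * g) := rfl
      rw [this, hf, hf, map_mul]; rfl
  -- invariance of the range
  have hinv : ∀ h ∈ H, ∀ c : Fin n, (rangeSet lo m).testBit c = (rangeSet lo m).testBit (X.φ h c) := by
    intro h hh
    rw [hH] at hh
    induction hh using Subgroup.closure_induction with
    | mem y hy =>
      obtain ⟨W, hW, rfl⟩ := hy
      intro c
      have := X.testBit_wapply' W (rangeSet lo m) c
      rw [Nat.eq_of_beq_eq_true (h1 W hW)] at this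
      exact this
    | one => intro c; simp
    | mul a b _ _ iha ihb => intro c; rw [map_mul, Equiv.Perm.coe_mul, Function.comp_apply, ihb c, iha]
    | inv a _ iha =>
      intro c
      have := iha ((X.φ a)⁻¹ c)
      rw [map_inv]; simpa using this.symm
  have hbfs := X.orbBFS_sound H subs hsub (f q) steps (Nat.shiftLeft 1 lo) (by
    intro c hc
    rw [shl_eq, Nat.one_shiftLeft, Nat.testBit_two_pow] at hc
    have : (c : ℕ) = lo := by
      have := hc; simp at this; exact this.symm
    exact ⟨1, H.one_mem, by rw [map_one]; exact Fin.ext (by simp [hq, this])⟩)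
  rw [Nat.eq_of_beq_eq_true h2] at hbfs
  have hchar : ∀ q', q' ∈ MulAction.orbit H q ↔ lo ≤ (f q' : ℕ) ∧ (f q' : ℕ) < lo + m := by
    intro q'
    constructor
    · rintro ⟨h, rfl⟩
      have h5 := hinv h h.2 (f q)
      rw [testBit_rangeSet, testBit_rangeSet, hq] at h5
      have h6 : decide (lo ≤ lo ∧ lo < lo + m) = true := by simp; omega
      rw [h6] at h5
      have h7 := h5.symm
      simp only [decide_eq_true_eq] at h7
      have h8 : f (h • q) = X.φ (h : G) (f q) := heq h q
      show lo ≤ ((f (h • q) : Fin n) : ℕ) ∧ ((f (h • q) : Fin n) : ℕ) < lo + m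
      rw [h8]; exact h7
    · intro hr
      have h5 : (rangeSet lo m).testBit (f q') = true := by rw [testBit_rangeSet]; simpa using hr
      obtain ⟨h, hh, he⟩ := hbfs _ h5
      refine ⟨⟨h, hh⟩, ?_⟩
      apply f.injective
      show f ((⟨h, hh⟩ : H) • q) = f q'
      rw [heq]; exact he
  refine ⟨hchar, ?_⟩
  have hset : MulAction.orbit H q = f ⁻¹' (Fin.val ⁻¹' Set.Ico lo (lo + m)) := by
    ext q'; rw [hchar]; simp
  rw [hset, Set.ncard_preimage_of_injective_subset_range f.injective (by simp),
    Set.ncard_preimage_of_injective_subset_range Fin.val_injective (by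
      intro i hi
      simp only [Set.mem_Ico] at hi
      rw [Fin.range_val]; simp; omega)]
  rw [Set.ncard_eq_toFinset_card', Set.toFinset_Ico, Nat.card_Ico]; omega

end Act

end Cfsg.Agent.Lib.Helper13.CE
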