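import Cfsg.Agent.Lib.Helper13.CosetA

set_option autoImplicit false

/-!
Soundness of the spanning-tree phase of the phase-A checker, and generalities used by the
soundness proof of the other steps.
-/

namespace Cfsg.Agent.Lib.Helper13.CE

variable {α : Type} {G : Type*} [Group G] {n k : ℕ}

/-- the static data of a certificate describe the action `X` and the subgroup `H`. -/
structure Link [NeZero n] (X : Act α G n k) (pr : Par α) (H : Subgroup G) : Prop where
  nets : pr.nets = X.nets
  n_eq : pr.n = n
  full : pr.full = 2 ^ n - 1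
  hN : n ≤ pr.N
  idx : Function.Injective pr.idx
  letters : ∀ x, x ∈ pr.letters
  rel : ∀ W ∈ pr.rels, X.ev W = 1
  sub : ∀ W ∈ pr.subs, X.ev W ∈ H
  fix : ∀ h ∈ H, X.φ h 0 = 0

namespace Act

variable (X : Act α G n k)

theorem del_symm (w : Fin n → G) (c : Fin n) (x : α) :
    X.del w (X.φ (X.s x) c) x = (X.del w c x)⁻¹ := by
  unfold del
  rw [X.φ_s_invol]
  have h := X.inv_s x
  rw [mul_inv_rev, mul_inv_rev, inv_inv, h, mul_assoc]

theorem φ_s_eq_iff (x : α) (c d : Fin n) : X.φ (X.s x) c = d ↔ c = X.φ (X.s x) d := by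
  constructor
  · intro h; rw [← h, X.φ_s_invol]
  · intro h; rw [h, X.φ_s_invol]

theorem ev_rot (W : List α) (r : ℕ) (h : X.ev W = 1) : X.ev (rotW W r) = 1 := by
  unfold rotW
  rw [X.ev_append]
  have h2 : X.ev (W.take r) * X.ev (W.drop r) = 1 := by
    rw [← X.ev_append, List.take_append_drop]; exact h
  exact mul_eq_one_comm.mp h2

end Act

theorem getD_mem_or {β : Type} (L : List (List β)) (j : ℕ) : L.getD j [] ∈ L ∨ L.getD j [] = [] := by
  by_cases hj : j < L.length
  · left
    have : L.getD j [] = L[j] := by simp [List.getD, hj]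
    rw [this]; exact List.getElem_mem hj
  · right
    rw [List.getD_eq_getElem?_getD, List.getElem?_eq_none (by omega)]; rfl

section

variable [NeZero n] {X : Act α G n k} {pr : Par α} {H : Subgroup G}

theorem Link.full_bit (lk : Link X pr H) (j : ℕ) : pr.full.testBit j = decide (j < n) := by
  rw [lk.full, Nat.testBit_two_pow_sub_one]

theorem Link.full_bit' (lk : Link X pr H) (c : Fin n) : pr.full.testBit c = true := by
  rw [lk.full_bit]; simp

theorem Link.full_lt (lk : Link X pr H) : pr.full < 2 ^ pr.N := by
  rw [lk.full]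
  have h1 : 2 ^ n ≤ 2 ^ pr.N := Nat.pow_le_pow_right (by norm_num) lk.hN
  have h2 : 0 < 2 ^ n := by positivity
  omega

theorem Link.napply_bit (lk : Link X pr H) (x : α) (S : ℕ) (c : Fin n) :
    (napply (pr.nets x) S).testBit c = S.testBit (X.φ (X.s x) c) := by
  rw [lk.nets, X.testBit_napply']

theorem Link.rel_getD (lk : Link X pr H) (j r : ℕ) : X.ev (rotW (pr.rels.getD j []) r) = 1 := by
  apply X.ev_rot
  rcases getD_mem_or pr.rels j with h | h
  · exact lk.rel _ h
  · rw [h]; rfl

theorem Link.sub_getD (lk : Link X pr H) (j : ℕ) : X.ev (pr.subs.getD j []) ∈ H := by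
  rcases getD_mem_or pr.subs j with h | h
  · exact lk.sub _ h
  · rw [h]; exact H.one_mem

/-- invariant of the spanning-tree phase. -/
structure TreeInv (X : Act α G n k) (pr : Par α) (w : Fin n → G) (K : ℕ) (Z : List ℕ) : Prop where
  w0 : w 0 = 1
  k0 : K.testBit 0 = true
  reach : ∀ c : Fin n, K.testBit c = true → (X.φ (w c))⁻¹ 0 = c
  zf : ∀ x (c : Fin n), (rget Z (pr.idx x)).testBit c = true →
        K.testBit c = true ∧ K.testBit (X.φ (X.s x) c) = true ∧ X.del w c x = 1

theorem treeInv_init (nreg : ℕ) : TreeInv X pr (fun _ => 1) 1 (List.replicate nreg 0) where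
  w0 := rfl
  k0 := by decide
  reach := by
    intro c hc
    have h1 : (c : ℕ) = 0 := by
      by_contra h
      have : (1 : ℕ).testBit c = false := by
        rw [show (1 : ℕ) = 2 ^ 0 from rfl, Nat.testBit_two_pow]; simpa using fun h' => h h'.symm
      rw [this] at hc; exact Bool.noConfusion hc
    have h2 : c = 0 := Fin.ext (by rw [h1]; simp)
    rw [h2, map_one]; rfl
  zf := by
    intro x c hc
    rw [rget_replicate] at hc; simp at hc

theorem extStep_sound (lk : Link X pr H) (w : Fin n → G) (K : ℕ) (Z : List ℕ)
    (inv : TreeInv X pr w K Z) (x : α) :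
    ∃ w', TreeInv X pr w' (extStep pr (K, Z) x).1 (extStep pr (K, Z) x).2 := by
  classical
  simp only [extStep, strict_eq]
  set Cn := Nat.land (napply (pr.nets x) K) (Nat.xor pr.full K) with hCn
  have cn_bit : ∀ c : Fin n, Cn.testBit c = (K.testBit (X.φ (X.s x) c) && !K.testBit c) := by
    intro c
    rw [hCn, land_eq, xor_eq, Nat.testBit_and, Nat.testBit_xor, lk.napply_bit, lk.full_bit' c]
    cases K.testBit c <;> simp
  let w' : Fin n → G := fun c => if Cn.testBit c = true then w (X.φ (X.s x) c) * X.s x else w c
  have w'_old : ∀ c : Fin n, K.testBit c = true → w' c = w c := by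
    intro c hc
    have : Cn.testBit c = false := by rw [cn_bit, hc]; simp
    simp [w', this]
  have w'_new : ∀ c : Fin n, Cn.testBit c = true → w' c = w (X.φ (X.s x) c) * X.s x := by
    intro c hc; simp [w', hc]
  have del_old : ∀ y (c : Fin n), K.testBit c = true → K.testBit (X.φ (X.s y) c) = true →
      X.del w' c y = X.del w c y := by
    intro y c h1 h2
    unfold Act.del; rw [w'_old c h1, w'_old _ h2]
  refine ⟨w', ?_, ?_, ?_, ?_⟩
  · have := w'_old 0 (by simpa using inv.k0)
    rw [this]; exact inv.w0
  · show (Nat.lor K Cn).testBit 0 = true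
    rw [lor_eq, Nat.testBit_or, inv.k0]; rfl
  · intro c hc
    change (Nat.lor K Cn).testBit c = true at hc
    rw [lor_eq, Nat.testBit_or] at hc
    by_cases hcn : Cn.testBit c = true
    · rw [w'_new c hcn]
      have h1 := hcn
      rw [cn_bit] at h1
      simp only [Bool.and_eq_true] at h1
      have h2 := inv.reach _ h1.1
      rw [map_mul, mul_inv_rev, Equiv.Perm.coe_mul, Function.comp_apply, h2, X.φ_s_inv, X.φ_s_invol]
    · have hk : K.testBit c = true := by
        cases h : K.testBit c
        · rw [h] at hc; simp at hc; exact absurd hc hcn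
        · rfl
      rw [w'_old c hk]; exact inv.reach c hk
  · intro y c hc
    change (rget (rset Z (pr.idx x) _) (pr.idx y)).testBit c = true at hc
    have old : (rget Z (pr.idx y)).testBit c = true →
        (Nat.lor K Cn).testBit c = true ∧ (Nat.lor K Cn).testBit (X.φ (X.s y) c) = true ∧
          X.del w' c y = 1 := by
      intro h
      obtain ⟨h1, h2, h3⟩ := inv.zf y c h
      refine ⟨?_, ?_, ?_⟩
      · rw [lor_eq, Nat.testBit_or, h1]; rfl
      · rw [lor_eq, Nat.testBit_or, h2]; rfl
      · rw [del_old y c h1 h2]; exact h3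
    show (Nat.lor K Cn).testBit c = true ∧ (Nat.lor K Cn).testBit (X.φ (X.s y) c) = true ∧
          X.del w' c y = 1
    by_cases hxy : pr.idx y = pr.idx x
    · have hy : y = x := lk.idx hxy
      subst hy
      rcases rget_rset_self Z (pr.idx y) (Nat.lor (rget Z (pr.idx y))
          (Nat.lor (napply (pr.nets y) Cn) Cn)) with h | h
      · rw [h, lor_eq, lor_eq, Nat.testBit_or, Nat.testBit_or, Bool.or_eq_true, Bool.or_eq_true] at hc
        rcases hc with hc | hc | hc
        · exact old hc
        · -- c old, its image new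
          rw [lk.napply_bit] at hc
          have h1 := hc
          rw [cn_bit, X.φ_s_invol] at h1
          simp only [Bool.and_eq_true] at h1
          refine ⟨?_, ?_, ?_⟩
          · rw [lor_eq, Nat.testBit_or, h1.1]; rfl
          · rw [lor_eq, Nat.testBit_or, hc]; simp
          · unfold Act.del
            rw [w'_old c h1.1, w'_new _ hc, X.φ_s_invol]
            group
        · -- c new, its image old
          have h1 := hc
          rw [cn_bit] at h1
          simp only [Bool.and_eq_true] at h1
          refine ⟨?_, ?_, ?_⟩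
          · rw [lor_eq, Nat.testBit_or, hc]; simp
          · rw [lor_eq, Nat.testBit_or, h1.1]; rfl
          · unfold Act.del
            rw [w'_new c hc, w'_old _ h1.1]
            have := X.hs y
            calc w (X.φ (X.s y) c) * X.s y * X.s y * (w (X.φ (X.s y) c))⁻¹
                = w (X.φ (X.s y) c) * (X.s y * X.s y) * (w (X.φ (X.s y) c))⁻¹ := by group
              _ = 1 := by rw [this]; group
      · rw [h] at hc; exact old hc
    · rw [rget_rset_ne _ _ _ _ hxy] at hc; exact old hc

theorem runTree_sound (lk : Link X pr H) (tree : List α) : ∀ (w : Fin n → G) (K : ℕ) (Z : List ℕ),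
    TreeInv X pr w K Z → ∃ w', TreeInv X pr w' (runTree pr (K, Z) tree).1 (runTree pr (K, Z) tree).2 := by
  induction tree with
  | nil => intro w K Z inv; exact ⟨w, inv⟩
  | cons x xs ih =>
    intro w K Z inv
    obtain ⟨w', inv'⟩ := extStep_sound lk w K Z inv x
    simp only [runTree]
    exact ih w' _ _ inv'

end

end Cfsg.Agent.Lib.Helper13.CE
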