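import Cfsg.Agent.Lib.Helper13.CosetTC
import Cfsg.Agent.Lib.Helper13.CosetTree

set_option autoImplicit false

/-!
Soundness of the sheet Todd–Coxeter replay.
-/

namespace Cfsg.Agent.Lib.Helper13.CE

variable {G : Type*} [Group G]

/-- sheet representatives, defined from the list of sheet definitions. -/
def kap (Γ : ℕ → G) (defs : List (ℕ × ℕ)) : ℕ → G
  | 0 => 1
  | m+1 =>
    match defs[m]? with
    | some (v, l) => if _h : v < m+1 then kap Γ defs v * Γ l else 1
    | none => 1
termination_by m => m

theorem kap_zero (Γ : ℕ → G) (defs : List (ℕ × ℕ)) : kap Γ defs 0 = 1 := by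
  rw [kap]

theorem kap_succ (Γ : ℕ → G) (defs : List (ℕ × ℕ)) (m v l : ℕ) (hd : defs[m]? = some (v, l))
    (hv : v < m + 1) : kap Γ defs (m + 1) = kap Γ defs v * Γ l := by
  rw [kap]
  simp only [hd]
  rw [dif_pos hv]

theorem fget_zero (wd i : ℕ) : fget wd 0 i = 0 := by
  unfold fget
  rw [shr_eq, land_eq, Nat.zero_shiftRight, Nat.zero_and]

theorem idx_inj (NL v l v' l' : ℕ) (hl : l < NL) (hl' : l' < NL) (h : v' * NL + l' = v * NL + l) :
    v' = v ∧ l' = l := by
  have h1 := congrArg (· % NL) h
  simp only [Nat.mul_add_mod_self_right, Nat.mod_eq_of_lt hl, Nat.mod_eq_of_lt hl'] at h1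
  subst h1
  have h2 : v' * NL = v * NL := by omega
  have hpos : 0 < NL := by omega
  exact ⟨Nat.eq_of_mul_eq_mul_right hpos h2, rfl⟩

theorem prod_rotW (Γ : ℕ → G) (W : List ℕ) (r : ℕ) (h : (W.map Γ).prod = 1) :
    ((rotW W r).map Γ).prod = 1 := by
  unfold rotW
  rw [List.map_append, List.prod_append]
  have h2 : ((W.take r).map Γ).prod * ((W.drop r).map Γ).prod = 1 := by
    rw [← List.prod_append, ← List.map_append, List.take_append_drop]; exact h
  exact mul_eq_one_comm.mp h2

theorem prod_inv_rev (Γ : ℕ → G) (post : List ℕ) (h : ∀ l ∈ post, Γ (invL l) = (Γ l)⁻¹) :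
    ((post.reverse.map invL).map Γ).prod = ((post.map Γ).prod)⁻¹ := by
  induction post with
  | nil => simp
  | cons l ps ih =>
    have h1 := ih (fun l' hl' => h l' (List.mem_cons_of_mem _ hl'))
    simp only [List.reverse_cons, List.map_append, List.map_cons, List.map_nil, List.prod_append,
      List.prod_cons, List.prod_nil, mul_one, mul_inv_rev]
    rw [h1, h l List.mem_cons_self]

theorem cond_some_eq' {β : Type} {c : Bool} {a b : β} (h : cond c (some a) none = some b) :
    c = true ∧ a = b := by
  cases c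
  · simp at h
  · simp at h; exact ⟨rfl, h⟩

theorem invL_bounds' (l m : ℕ) (h1 : 2 ≤ l) (h2 : l < 2 * m) : 2 ≤ invL l ∧ invL l < 2 * m := by
  obtain ⟨c, ⟨e1, e2⟩ | ⟨e1, e2⟩⟩ := invL_cases l
  · rw [e2]; omega
  · rw [e2]; omega

/-- invariant of the tables. -/
structure InvJR (pb : ParB) (H : Subgroup G) (Γ : ℕ → G) (κ : ℕ → G) (JR : ℕ × ℕ) : Prop where
  hJ : ∀ v l t, okL pb.NL l = true → fget pb.wd JR.1 (v * pb.NL + l) = t + 1 →
    κ v * Γ l * (κ t)⁻¹ ∈ H
  hR : ∀ v r, fget pb.wd JR.2 v = r + 1 → κ v * (κ r)⁻¹ ∈ H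

variable {pb : ParB} {H : Subgroup G} {Γ : ℕ → G} {κ : ℕ → G} {JR : ℕ × ℕ}

theorem chase_sound (wd R : ℕ) (hR : ∀ v r, fget wd R v = r + 1 → κ v * (κ r)⁻¹ ∈ H) :
    ∀ f v, κ v * (κ (chase wd R f v))⁻¹ ∈ H := by
  intro f
  induction f with
  | zero => intro v; simp [chase]
  | succ f ih =>
    intro v
    simp only [chase, strict_eq]
    cases h0 : Nat.beq (fget wd R v) 0
    · simp only [cond_false]
      obtain ⟨r, hr⟩ := Nat.exists_eq_add_one_of_ne_zero (Nat.ne_of_beq_eq_false h0)
      have h1 := hR v r hr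
      have h2 := ih r
      rw [hr, Nat.add_sub_cancel]
      have := H.mul_mem h1 h2
      simpa [mul_assoc] using this
    · simp only [cond_true]; simp

theorem look_sound (inv : InvJR pb H Γ κ JR) (v l t : ℕ) (h : look pb JR v l = t + 1) :
    okL pb.NL l = true ∧ κ v * Γ l * (κ t)⁻¹ ∈ H := by
  unfold look at h
  cases hok : okL pb.NL l
  · rw [hok] at h; simp at h
  · rw [hok] at h
    simp only [cond_true, strict_eq] at h
    cases h0 : Nat.beq (fget pb.wd JR.1 (v * pb.NL + l)) 0
    · rw [h0] at h
      simp only [cond_false, Nat.add_right_cancel_iff] at h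
      obtain ⟨t0, ht0⟩ := Nat.exists_eq_add_one_of_ne_zero (Nat.ne_of_beq_eq_false h0)
      have h1 := inv.hJ v l t0 hok ht0
      have h2 := chase_sound pb.wd JR.2 inv.hR pb.fuel t0
      rw [ht0, Nat.add_sub_cancel] at h
      rw [h] at h2
      refine ⟨rfl, ?_⟩
      have := H.mul_mem h1 h2
      simpa [mul_assoc] using this
    · rw [h0] at h; simp at h

theorem follow_sound (inv : InvJR pb H Γ κ JR) : ∀ (ls : List ℕ) (v u : ℕ),
    follow pb JR ls v = u + 1 →
    κ v * (ls.map Γ).prod * (κ u)⁻¹ ∈ H ∧ ∀ l ∈ ls, okL pb.NL l = true := by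
  intro ls
  induction ls with
  | nil =>
    intro v u h
    simp only [follow, Nat.add_right_cancel_iff] at h
    subst h; simp
  | cons l ls ih =>
    intro v u h
    simp only [follow, strict_eq] at h
    cases h0 : Nat.beq (look pb JR v l) 0
    · rw [h0] at h
      simp only [cond_false] at h
      obtain ⟨t, ht⟩ := Nat.exists_eq_add_one_of_ne_zero (Nat.ne_of_beq_eq_false h0)
      rw [ht, Nat.add_sub_cancel] at h
      obtain ⟨hok, h1⟩ := look_sound inv v l t ht
      obtain ⟨h2, h3⟩ := ih t u h
      refine ⟨?_, ?_⟩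
      · have := H.mul_mem h1 h2
        simp only [List.map_cons, List.prod_cons]
        convert this using 1; group
      · intro l' hl'
        rcases List.mem_cons.mp hl' with e | e
        · rw [e]; exact hok
        · exact h3 l' e
    · rw [h0] at h; simp at h

theorem union_sound (R : ℕ) (hR : ∀ v r, fget pb.wd R v = r + 1 → κ v * (κ r)⁻¹ ∈ H) (a b : ℕ)
    (hab : κ a * (κ b)⁻¹ ∈ H) :
    ∀ v r, fget pb.wd (union pb R a b) v = r + 1 → κ v * (κ r)⁻¹ ∈ H := by
  unfold union
  simp only [strict_eq]
  have ha := chase_sound pb.wd R hR pb.fuel a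
  have hb := chase_sound pb.wd R hR pb.fuel b
  generalize chase pb.wd R pb.fuel a = a' at ha ⊢
  generalize chase pb.wd R pb.fuel b = b' at hb ⊢
  have hab' : κ a' * (κ b')⁻¹ ∈ H := by
    have := H.mul_mem (H.mul_mem (H.inv_mem ha) hab) hb
    convert this using 1; group
  cases h1 : Nat.beq a' b'
  · simp only [cond_false]
    cases h2 : Nat.blt a' b'
    · simp only [cond_false]
      cases h3 : Nat.beq (fget pb.wd R a') 0
      · simp only [cond_false]; exact hR
      · simp only [cond_true]
        intro v r hv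
        rw [fget_fset] at hv
        split_ifs at hv with hc
        · have : r = b' := by omega
          rw [hc.1, this]; exact hab'
        · exact hR v r hv
    · simp only [cond_true]
      cases h3 : Nat.beq (fget pb.wd R b') 0
      · simp only [cond_false]; exact hR
      · simp only [cond_true]
        intro v r hv
        rw [fget_fset] at hv
        split_ifs at hv with hc
        · have : r = a' := by omega
          rw [hc.1, this]
          have := H.inv_mem hab'
          convert this using 1; group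
        · exact hR v r hv
  · simp only [cond_true]; exact hR

theorem addEdge_sound (inv : InvJR pb H Γ κ JR) (v l u : ℕ)
    (h : okL pb.NL l = true → κ v * Γ l * (κ u)⁻¹ ∈ H) : InvJR pb H Γ κ (addEdge pb JR v l u) := by
  unfold addEdge
  cases hok : okL pb.NL l
  · simp only [cond_false]; exact inv
  · simp only [cond_true, strict_eq]
    have hvu := h hok
    cases h0 : Nat.beq (fget pb.wd JR.1 (v * pb.NL + l)) 0
    · simp only [cond_false]
      obtain ⟨t0, ht0⟩ := Nat.exists_eq_add_one_of_ne_zero (Nat.ne_of_beq_eq_false h0)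
      have h1 := inv.hJ v l t0 hok ht0
      refine ⟨inv.hJ, ?_⟩
      apply union_sound _ inv.hR
      rw [ht0, Nat.add_sub_cancel]
      have := H.mul_mem (H.inv_mem h1) hvu
      convert this using 1; group
    · simp only [cond_true]
      refine ⟨?_, inv.hR⟩
      intro v' l' t' hok' hv'
      rw [fget_fset] at hv'
      split_ifs at hv' with hc
      · obtain ⟨e1, e2⟩ := idx_inj pb.NL v l v' l' ((okL_iff _ _).mp hok).2 ((okL_iff _ _).mp hok').2 hc.1
        have : t' = u := by omega
        rw [e1, e2, this]; exact hvu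
      · exact inv.hJ v' l' t' hok' hv'

theorem addPair_sound
    (hginv : ∀ l, okL pb.NL l = true → okL pb.NL (invL l) = true ∧ Γ (invL l) = (Γ l)⁻¹)
    (inv : InvJR pb H Γ κ JR) (f g b : ℕ)
    (h : okL pb.NL g = true → κ f * Γ g * (κ b)⁻¹ ∈ H) : InvJR pb H Γ κ (addPair pb JR f g b) := by
  unfold addPair
  apply addEdge_sound (addEdge_sound inv f g b h)
  intro hok
  have hg : okL pb.NL g = true := by
    have := (hginv _ hok).1
    rwa [invL_invL] at this
  have := H.inv_mem (h hg)
  rw [(hginv g hg).2]
  convert this using 1; group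

theorem scanW_sound
    (hginv : ∀ l, okL pb.NL l = true → okL pb.NL (invL l) = true ∧ Γ (invL l) = (Γ l)⁻¹)
    (inv : InvJR pb H Γ κ JR) (W : List ℕ) (v p : ℕ)
    (hW : κ v * (W.map Γ).prod * (κ v)⁻¹ ∈ H) (JR' : ℕ × ℕ) (h : scanW pb JR W v p = some JR') :
    InvJR pb H Γ κ JR' := by
  unfold scanW at h
  cases hd : W.drop p with
  | nil => rw [hd] at h; simp at h
  | cons g post =>
    rw [hd] at h
    simp only [strict_eq] at h
    cases hf : Nat.beq (follow pb JR (W.take p) v) 0
    · cases hb : Nat.beq (follow pb JR (post.reverse.map invL) v) 0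
      · rw [hf, hb] at h
        simp only [Bool.or_self, cond_false, Option.some.injEq] at h
        subst h
        obtain ⟨f, hf'⟩ := Nat.exists_eq_add_one_of_ne_zero (Nat.ne_of_beq_eq_false hf)
        obtain ⟨b, hb'⟩ := Nat.exists_eq_add_one_of_ne_zero (Nat.ne_of_beq_eq_false hb)
        rw [hf', hb', Nat.add_sub_cancel, Nat.add_sub_cancel]
        obtain ⟨p1, _⟩ := follow_sound inv _ v f hf'
        obtain ⟨p2, ok2⟩ := follow_sound inv _ v b hb'
        apply addPair_sound hginv inv
        intro _
        have hinv : ((post.reverse.map invL).map Γ).prod = ((post.map Γ).prod)⁻¹ := by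
          apply prod_inv_rev
          intro l hl
          have h1 : okL pb.NL (invL l) = true :=
            ok2 (invL l) (List.mem_map.mpr ⟨l, List.mem_reverse.mpr hl, rfl⟩)
          have h2 := (hginv _ h1).2
          rw [invL_invL] at h2
          rw [h2, inv_inv]
        have hsplit : W = W.take p ++ g :: post := by rw [← hd, List.take_append_drop]
        rw [hinv] at p2
        have hWp : (W.map Γ).prod = ((W.take p).map Γ).prod * (Γ g * (post.map Γ).prod) := by
          conv_lhs => rw [hsplit]
          simp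
        rw [hWp] at hW
        have := H.mul_mem (H.mul_mem (H.inv_mem p1) hW) p2
        convert this using 1; group
      · rw [hf, hb] at h; simp at h
    · rw [hf] at h; simp at h

/-- invariant of the replay. -/
structure InvB (pb : ParB) (H : Subgroup G) (Γ : ℕ → G) (st : StB) : Prop where
  jr : InvJR pb H Γ (kap Γ pb.defs) st.JR
  hrem : ∃ pre, pb.defs = pre ++ st.rem ∧ pre.length + 1 = st.nxt

theorem stepB_sound
    (hginv : ∀ l, okL pb.NL l = true → okL pb.NL (invL l) = true ∧ Γ (invL l) = (Γ l)⁻¹)
    (hAR : ∀ c ∈ pb.AR, ∀ r ∈ c, (r.map Γ).prod = 1) (hAS : ∀ r ∈ pb.AS, (r.map Γ).prod ∈ H)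
    (st : StB) (inv : InvB pb H Γ st) (e : StepB) (st' : StB) (h : stepB pb st e = some st') :
    InvB pb H Γ st' := by
  cases e with
  | d =>
    simp only [stepB] at h
    obtain ⟨pre, hpre, hlen⟩ := inv.hrem
    cases hrem : st.rem with
    | nil => rw [hrem] at h; simp at h
    | cons vl rest =>
      obtain ⟨v, l⟩ := vl
      rw [hrem] at h
      simp only at h
      obtain ⟨hc, rfl⟩ := cond_some_eq' h
      rw [Bool.and_eq_true] at hc
      have hv : v < st.nxt := blt_true hc.1
      have hok := hc.2
      have hok' := (hginv l hok).1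
      rw [hrem] at hpre
      have hd : pb.defs[pre.length]? = some (v, l) := by
        rw [hpre]; simp
      have hk : kap Γ pb.defs st.nxt = kap Γ pb.defs v * Γ l := by
        rw [← hlen]; exact kap_succ Γ pb.defs pre.length v l hd (by omega)
      refine ⟨⟨?_, inv.jr.hR⟩, ⟨pre ++ [(v, l)], by rw [hpre]; simp, by simp; omega⟩⟩
      intro v' l' t' hok2 hv'
      simp only at hv'
      rw [fget_fset, fget_fset] at hv'
      split_ifs at hv' with hc1 hc2
      · obtain ⟨e1, e2⟩ := idx_inj pb.NL st.nxt (invL l) v' l' ((okL_iff _ _).mp hok').2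
          ((okL_iff _ _).mp hok2).2 hc1.1
        have : t' = v := by omega
        rw [e1, e2, this, hk, (hginv l hok).2]
        simp
      · obtain ⟨e1, e2⟩ := idx_inj pb.NL v l v' l' ((okL_iff _ _).mp hok).2
          ((okL_iff _ _).mp hok2).2 hc2.1
        have : t' = st.nxt := by omega
        rw [e1, e2, this, hk]
        simp
      · exact inv.jr.hJ v' l' t' hok2 hv'
  | r jo ji r v p =>
    simp only [stepB] at h
    cases hs : scanW pb st.JR (rotW ((pb.AR.getD jo []).getD ji []) r) v p with
    | none => rw [hs] at h; simp at h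
    | some JR' =>
      rw [hs] at h
      simp only [Option.some.injEq] at h
      subst h
      refine ⟨?_, inv.hrem⟩
      apply scanW_sound hginv inv.jr _ v p _ JR' hs
      have h1 : ((((pb.AR.getD jo []).getD ji []).map Γ).prod : G) = 1 := by
        rcases getD_mem_or pb.AR jo with hc | hc
        · rcases getD_mem_or (pb.AR.getD jo []) ji with hc2 | hc2
          · exact hAR _ hc _ hc2
          · rw [hc2]; rfl
        · rw [hc]; rfl
      rw [prod_rotW Γ _ r h1]; simp
  | s j p =>
    simp only [stepB] at h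
    cases hs : scanW pb st.JR (pb.AS.getD j []) 0 p with
    | none => rw [hs] at h; simp at h
    | some JR' =>
      rw [hs] at h
      simp only [Option.some.injEq] at h
      subst h
      refine ⟨?_, inv.hrem⟩
      apply scanW_sound hginv inv.jr _ 0 p _ JR' hs
      rw [kap_zero]
      have h1 : (((pb.AS.getD j []).map Γ).prod : G) ∈ H := by
        rcases getD_mem_or pb.AS j with hc | hc
        · exact hAS _ hc
        · rw [hc]; exact H.one_mem
      simpa using h1
  | i v l =>
    simp only [stepB] at h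
    cases hok : okL pb.NL l
    · rw [hok] at h; simp at h
    · rw [hok] at h
      simp only [cond_true, strict_eq] at h
      cases h0 : Nat.beq (fget pb.wd st.JR.1 (v * pb.NL + l)) 0
      · rw [h0] at h
        simp only [cond_false, Option.some.injEq] at h
        subst h
        obtain ⟨t0, ht0⟩ := Nat.exists_eq_add_one_of_ne_zero (Nat.ne_of_beq_eq_false h0)
        have h1 := inv.jr.hJ v l t0 hok ht0
        have h2 := chase_sound pb.wd st.JR.2 inv.jr.hR pb.fuel v
        have h3 := chase_sound pb.wd st.JR.2 inv.jr.hR pb.fuel t0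
        refine ⟨?_, inv.hrem⟩
        apply addPair_sound hginv inv.jr
        intro _
        rw [ht0, Nat.add_sub_cancel]
        have := H.mul_mem (H.mul_mem (H.inv_mem h2) h1) h3
        convert this using 1; group
      · rw [h0] at h; simp at h

theorem runB_sound
    (hginv : ∀ l, okL pb.NL l = true → okL pb.NL (invL l) = true ∧ Γ (invL l) = (Γ l)⁻¹)
    (hAR : ∀ c ∈ pb.AR, ∀ r ∈ c, (r.map Γ).prod = 1) (hAS : ∀ r ∈ pb.AS, (r.map Γ).prod ∈ H) :
    ∀ (steps : List StepB) (st : StB), InvB pb H Γ st → ∀ st', runB pb st steps = some st' →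
      InvB pb H Γ st'
  | [], st, inv, st', h => by
    simp only [runB, Option.some.injEq] at h
    subst h; exact inv
  | e :: es, st, inv, st', h => by
    simp only [runB] at h
    cases hs : stepB pb st e with
    | none => rw [hs] at h; simp at h
    | some st1 =>
      rw [hs] at h
      exact runB_sound hginv hAR hAS es st1 (stepB_sound hginv hAR hAS st inv e st1 hs) st' h

/-- soundness of phase B: every class generator lies in `H`. -/
theorem checkB_sound (H : Subgroup G) (Γ : ℕ → G) (pb : ParB) (nclass : ℕ)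
    (hNL : pb.NL = 2 * nclass)
    (hginv : ∀ l, 2 ≤ l → l < 2 * nclass → Γ (invL l) = (Γ l)⁻¹)
    (hAR : ∀ c ∈ pb.AR, ∀ r ∈ c, (r.map Γ).prod = 1) (hAS : ∀ r ∈ pb.AS, (r.map Γ).prod ∈ H)
    (steps : List StepB) (h : checkB pb steps = true) :
    ∀ l, 2 ≤ l → l < 2 * nclass → Γ l ∈ H := by
  have hginv' : ∀ l, okL pb.NL l = true → okL pb.NL (invL l) = true ∧ Γ (invL l) = (Γ l)⁻¹ := by
    intro l hl
    rw [okL_iff, hNL] at hl
    refine ⟨?_, hginv l hl.1 hl.2⟩
    rw [okL_iff, hNL]
    exact invL_bounds' l nclass hl.1 hl.2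
  unfold checkB at h
  cases hr : runB pb ⟨(0, 0), 1, pb.defs⟩ steps with
  | none => rw [hr] at h; simp at h
  | some st =>
    rw [hr] at h
    simp only at h
    have inv0 : InvB pb H Γ ⟨(0, 0), 1, pb.defs⟩ := by
      refine ⟨⟨?_, ?_⟩, ⟨[], by simp, by simp⟩⟩
      · intro v l t _ ht
        rw [fget_zero] at ht; omega
      · intro v r ht
        rw [fget_zero] at ht; omega
    have inv := runB_sound hginv' hAR hAS steps _ inv0 st hr
    intro l h2 hl
    unfold finalB at h
    have h1 := (allB_iff _ _).mp h l (by rw [hNL]; exact hl)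
    have h3 : Nat.blt l 2 = false := by
      cases hb : Nat.blt l 2
      · rfl
      · have := blt_true hb; omega
    rw [h3, Bool.false_or] at h1
    have h4 : look pb st.JR 0 l = 0 + 1 := Nat.eq_of_beq_eq_true h1
    have h5 := (look_sound inv.jr 0 l 0 h4).2
    rw [kap_zero] at h5
    simpa using h5

end Cfsg.Agent.Lib.Helper13.CE
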