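import Cfsg.Agent.Lib.Helper13.CosetASound
import Cfsg.Agent.Lib.Helper13.CosetTCSound
import Cfsg.Prelude.Def_SporCoxeter

set_option autoImplicit false

/-!
Assembly of the coset-enumeration certificates for groups presented on a Coxeter graph
(`Cfsg.Spor.CoxPresented`): index of a subgroup generated by words, and its orbits on the cosets.
-/

namespace Cfsg.Agent.Lib.Helper13.CE

open Cfsg.Spor

variable {α : Type}

/-- a complete certificate gives the bijection between cosets and points. -/
theorem Act.cert_equiv {G : Type*} [Group G] {n k : ℕ} [NeZero n] (X : Act α G n k) (pr : Par α)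
    (H : Subgroup G) (lk : Link X pr H) (hgen : Subgroup.closure (Set.range X.s) = ⊤)
    (nreg : ℕ) (tree : List α) (stepsA : List (StepA α)) (pb : ParB) (stepsB : List StepB)
    (nclass : ℕ) (hA : checkA pr nreg tree stepsA pb.AR.flatten pb.AS nclass = true)
    (hNL : pb.NL = 2 * nclass) (hB : checkB pb stepsB = true) :
    ∃ f : G ⧸ H ≃ Fin n, ∀ g : G, f (QuotientGroup.mk g) = X.φ g 0 := by
  obtain ⟨w, Γ, hw0, hreach, hginv, hAR, hAS, hcov⟩ :=
    checkA_sound lk nreg tree stepsA _ _ nclass hA
  have hΓ := checkB_sound H Γ pb nclass hNL hginv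
    (fun c hc r hr => hAR r (List.mem_flatten.mpr ⟨c, hc, hr⟩)) hAS stepsB hB
  apply X.exists_equiv H w hw0 hreach lk.fix hgen
  intro x c
  rcases hcov x c with h | ⟨l, h1, h2, h3⟩
  · rw [h]; exact H.one_mem
  · rw [h3]; exact hΓ l h1 h2

/-- the word `(x y)^m`. -/
def cw (x y : α) (m : ℕ) : List α := (List.replicate m [x, y]).flatten

theorem prod_cw {M : Type*} [Monoid M] (f : α → M) (x y : α) (m : ℕ) :
    ((cw x y m).map f).prod = (f x * f y) ^ m := by
  unfold cw
  induction m with
  | zero => simp
  | succ m ih =>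
    rw [List.replicate_succ, List.flatten_cons, List.map_append, List.prod_append, ih, pow_succ']
    simp

def pairsLT : List α → List (α × α)
  | [] => []
  | x :: xs => xs.map (fun y => (x, y)) ++ pairsLT xs

theorem pairsLT_total (l : List α) (x y : α) (hx : x ∈ l) (hy : y ∈ l) (hxy : x ≠ y) :
    (x, y) ∈ pairsLT l ∨ (y, x) ∈ pairsLT l := by
  induction l with
  | nil => simp at hx
  | cons a l ih =>
    simp only [pairsLT, List.mem_append, List.mem_map, Prod.mk.injEq]
    rcases List.mem_cons.mp hx with rfl | hx'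
    · rcases List.mem_cons.mp hy with rfl | hy'
      · exact absurd rfl hxy
      · left; left; exact ⟨y, hy', rfl, rfl⟩
    · rcases List.mem_cons.mp hy with rfl | hy'
      · right; left; exact ⟨x, hx', rfl, rfl⟩
      · rcases ih hx' hy' with h | h
        · left; right; exact h
        · right; right; exact h

/-- the relators used by the certificates: squares, Coxeter words of the pairs, further words. -/
def relsGen [DecidableEq α] (edges : List (α × ℕ × α)) (letters : List α)
    (extraW : List (List α)) : List (List α) :=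
  letters.map (fun x => [x, x]) ++
    ((pairsLT letters).map (fun p => cw p.1 p.2 (coxLabel edges p.1 p.2)) ++ extraW)

theorem coxLabel_comm [DecidableEq α] (edges : List (α × ℕ × α)) (x y : α) :
    coxLabel edges x y = coxLabel edges y x := by
  unfold coxLabel
  by_cases h : x = y
  · subst h; rfl
  · have h' : ¬ y = x := fun e => h e.symm
    rw [if_neg h, if_neg h']
    have : (fun e : α × ℕ × α => decide ((e.1 = x ∧ e.2.2 = y) ∨ (e.1 = y ∧ e.2.2 = x))) =
        (fun e : α × ℕ × α => decide ((e.1 = y ∧ e.2.2 = x) ∨ (e.1 = x ∧ e.2.2 = y))) := by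
      funext e
      simp only [or_comm]
    rw [this]

theorem pow_mul_comm_eq_one {M : Type*} [Group M] (a b : M) (m : ℕ) (h : (a * b) ^ m = 1) :
    (b * a) ^ m = 1 := by
  have e : b * a = a⁻¹ * (a * b) * (a⁻¹)⁻¹ := by group
  rw [e, conj_pow, h]; group

theorem forall2_left {β γ : Type*} {P : β → γ → Prop} {l1 : List β} {l2 : List γ}
    (h : List.Forall₂ P l1 l2) : ∀ a ∈ l1, ∃ b ∈ l2, P a b := by
  induction h with
  | nil => intro a ha; simp at ha
  | cons hab _ ih =>
    intro a ha
    rcases List.mem_cons.mp ha with rfl | ha'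
    · exact ⟨_, List.mem_cons_self, hab⟩
    · obtain ⟨b, hb, hP⟩ := ih a ha'
      exact ⟨b, List.mem_cons_of_mem _ hb, hP⟩

theorem forall2_right {β γ : Type*} {P : β → γ → Prop} {l1 : List β} {l2 : List γ}
    (h : List.Forall₂ P l1 l2) : ∀ b ∈ l2, ∃ a ∈ l1, P a b := by
  induction h with
  | nil => intro a ha; simp at ha
  | cons hab _ ih =>
    intro b hb
    rcases List.mem_cons.mp hb with rfl | hb'
    · exact ⟨_, List.mem_cons_self, hab⟩
    · obtain ⟨a, ha, hP⟩ := ih b hb'
      exact ⟨a, List.mem_cons_of_mem _ ha, hP⟩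

/-- the static checks of a certificate. -/
def staticOK (pr : Par α) (n k : ℕ) : Bool :=
  pr.letters.all (fun x => nvalid (pr.nets x) && rangeOK pr.nets n x) &&
  (Nat.ble n (2 ^ k) && (pr.rels.all (fun W => relOK pr.nets k W) &&
  (pr.subs.all (fun W => Nat.beq (wapply pr.nets W 1) 1) &&
  (Nat.beq pr.full (2 ^ n - 1) && (Nat.beq pr.n n && Nat.ble n pr.N)))))

/-- the action of a Coxeter-presented group on the points. -/
def coxAct [DecidableEq α] (edges : List (α × ℕ × α)) (extra : List (FreeGroup α)) (n k : ℕ)
    (nets : α → List (ℕ × ℕ)) (hok : NetOK nets n k) (hnodes : ∀ x, x ∈ coxNodes edges)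
    (hsig : ∀ r ∈ coxRelators edges ∪ {r | r ∈ extra}, FreeGroup.lift (sig hok) r = 1) :
    Act α (PresentedGroup (coxRelators edges ∪ {r | r ∈ extra})) n k where
  nets := nets
  ok := hok
  s := PresentedGroup.of
  hs := by
    intro x
    have hmem : (FreeGroup.of x * FreeGroup.of x) ^ coxLabel edges x x ∈
        coxRelators edges ∪ {r | r ∈ extra} :=
      Or.inl ⟨x, hnodes x, x, hnodes x, rfl⟩
    have h1 := PresentedGroup.one_of_mem hmem
    have h2 : coxLabel edges x x = 1 := by unfold coxLabel; rw [if_pos rfl]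
    rw [h2, pow_one, map_mul] at h1
    exact h1
  φ := PresentedGroup.toGroup hsig
  hφ := by
    intro x j
    rw [PresentedGroup.toGroup.of, sig_val]

theorem coxAct_ev [DecidableEq α] (edges : List (α × ℕ × α)) (extra : List (FreeGroup α)) (n k : ℕ)
    (nets : α → List (ℕ × ℕ)) (hok : NetOK nets n k) (hnodes : ∀ x, x ∈ coxNodes edges)
    (hsig : ∀ r ∈ coxRelators edges ∪ {r | r ∈ extra}, FreeGroup.lift (sig hok) r = 1)
    (W : List α) :
    (coxAct edges extra n k nets hok hnodes hsig).ev W =
      PresentedGroup.mk (coxRelators edges ∪ {r | r ∈ extra}) ((W.map FreeGroup.of).prod) := by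
  induction W with
  | nil => simp
  | cons x W ih =>
    rw [Act.ev_cons, ih, List.map_cons, List.prod_cons, map_mul]; rfl

theorem lift_of_eq_mk (rels : Set (FreeGroup α)) (r : FreeGroup α) :
    FreeGroup.lift (fun x => (PresentedGroup.of x : PresentedGroup rels)) r =
      PresentedGroup.mk rels r := by
  have : FreeGroup.lift (fun x => (PresentedGroup.of x : PresentedGroup rels)) =
      PresentedGroup.mk rels := by
    apply FreeGroup.ext_hom
    intro a
    rw [FreeGroup.lift_apply_of]; rfl
  rw [this]

theorem cox_main [DecidableEq α] (edges : List (α × ℕ × α)) (extra : List (FreeGroup α))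
    (n k : ℕ) [NeZero n] (pr : Par α) (extraW : List (List α)) (S : Set (FreeGroup α))
    (hnodes : ∀ x, x ∈ coxNodes edges)
    (hletters : ∀ x, x ∈ pr.letters)
    (hidx : Function.Injective pr.idx)
    (hextra : List.Forall₂ (fun r W => ∀ (K : Type) [Group K] (s : α → K),
        (∀ x, s x * s x = 1) → FreeGroup.lift s r = (W.map s).prod) extra extraW)
    (hS1 : ∀ r ∈ S, ∃ W ∈ pr.subs, r = (W.map FreeGroup.of).prod)
    (hS2 : ∀ W ∈ pr.subs, (W.map FreeGroup.of).prod ∈ S)
    (hrels : pr.rels = relsGen edges pr.letters extraW)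
    (hstat : staticOK pr n k = true)
    (nreg : ℕ) (tree : List α) (stepsA : List (StepA α)) (pb : ParB) (stepsB : List StepB)
    (nclass : ℕ) (hA : checkA pr nreg tree stepsA pb.AR.flatten pb.AS nclass = true)
    (hNL : pb.NL = 2 * nclass) (hB : checkB pb stepsB = true) :
    ∃ (X : Act α (PresentedGroup (coxRelators edges ∪ {r | r ∈ extra})) n k)
      (f : PresentedGroup (coxRelators edges ∪ {r | r ∈ extra}) ⧸
        ((Subgroup.closure S).map (PresentedGroup.mk (coxRelators edges ∪ {r | r ∈ extra}))) ≃
          Fin n),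
      X.nets = pr.nets ∧ (∀ g, f (QuotientGroup.mk g) = X.φ g 0) ∧
      (Subgroup.closure S).map (PresentedGroup.mk (coxRelators edges ∪ {r | r ∈ extra})) =
        Subgroup.closure {g | ∃ W ∈ pr.subs, g = X.ev W} := by
  simp only [staticOK, Bool.and_eq_true, List.all_eq_true] at hstat
  obtain ⟨hnet, hle, hrelok, hfixok, hfull, hn, hN⟩ := hstat
  have mem_sq : ∀ x, [x, x] ∈ pr.rels := by
    intro x
    rw [hrels]; unfold relsGen
    exact List.mem_append_left _ (List.mem_map.mpr ⟨x, hletters x, rfl⟩)
  have mem_pair : ∀ x y, (x, y) ∈ pairsLT pr.letters → cw x y (coxLabel edges x y) ∈ pr.rels := by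
    intro x y hxy
    rw [hrels]; unfold relsGen
    exact List.mem_append_right _ (List.mem_append_left _ (List.mem_map.mpr ⟨(x, y), hxy, rfl⟩))
  have mem_extra : ∀ W ∈ extraW, W ∈ pr.rels := by
    intro W hW
    rw [hrels]; unfold relsGen
    exact List.mem_append_right _ (List.mem_append_right _ hW)
  have hok : NetOK pr.nets n k :=
    { valid := fun x => (hnet x (hletters x)).1
      range := fun x => (hnet x (hletters x)).2
      le := Nat.le_of_ble_eq_true hle
      sq := fun x => hrelok _ (mem_sq x) }
  have hsig : ∀ r ∈ coxRelators edges ∪ {r | r ∈ extra}, FreeGroup.lift (sig hok) r = 1 := by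
    intro r hr
    rcases hr with ⟨x, _, y, _, rfl⟩ | hr
    · rw [map_pow, map_mul, FreeGroup.lift_apply_of, FreeGroup.lift_apply_of]
      by_cases hxy : x = y
      · subst hxy
        have h2 : coxLabel edges x x = 1 := by unfold coxLabel; rw [if_pos rfl]
        rw [h2, pow_one]; exact sig_mul_self hok x
      · rcases pairsLT_total pr.letters x y (hletters x) (hletters y) hxy with h | h
        · have := prod_sig_eq_one hok _ (hrelok _ (mem_pair x y h))
          rw [prod_cw] at this; exact this
        · have := prod_sig_eq_one hok _ (hrelok _ (mem_pair y x h))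
          rw [prod_cw, coxLabel_comm edges y x] at this
          exact pow_mul_comm_eq_one _ _ _ this
    · obtain ⟨W, hW, hP⟩ := forall2_left hextra r hr
      rw [hP (Equiv.Perm (Fin n)) (sig hok) (sig_mul_self hok)]
      exact prod_sig_eq_one hok W (hrelok W (mem_extra W hW))
  let X := coxAct edges extra n k pr.nets hok hnodes hsig
  have hev : ∀ W : List α, X.ev W =
      PresentedGroup.mk (coxRelators edges ∪ {r | r ∈ extra}) ((W.map FreeGroup.of).prod) :=
    coxAct_ev edges extra n k pr.nets hok hnodes hsig
  have hfix1 : ∀ W ∈ pr.subs, X.φ (X.ev W) 0 = 0 := by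
    intro W hW
    have h1 := X.testBit_wapply' W 1 (0 : Fin n)
    have h2 : wapply X.nets W 1 = 1 := Nat.eq_of_beq_eq_true (hfixok W hW)
    rw [h2] at h1
    have h3 : (1 : ℕ).testBit ((0 : Fin n) : ℕ) = true := by simp
    rw [h3] at h1
    exact Fin.ext (by simpa using (Nat.testBit_one_eq_true_iff_self_eq_zero.mp h1.symm))
  have hHeq : (Subgroup.closure S).map (PresentedGroup.mk (coxRelators edges ∪ {r | r ∈ extra})) =
      Subgroup.closure {g | ∃ W ∈ pr.subs, g = X.ev W} := by
    rw [MonoidHom.map_closure]
    congr 1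
    ext g
    constructor
    · rintro ⟨r, hr, rfl⟩
      obtain ⟨W, hW, rfl⟩ := hS1 r hr
      exact ⟨W, hW, (hev W).symm⟩
    · rintro ⟨W, hW, rfl⟩
      exact ⟨_, hS2 W hW, (hev W).symm⟩
  have hfix : ∀ h ∈ (Subgroup.closure S).map
      (PresentedGroup.mk (coxRelators edges ∪ {r | r ∈ extra})), X.φ h 0 = 0 := by
    intro h hh
    rw [hHeq] at hh
    induction hh using Subgroup.closure_induction with
    | mem y hy =>
      obtain ⟨W, hW, rfl⟩ := hy
      exact hfix1 W hW
    | one => simp
    | mul a b _ _ iha ihb => rw [map_mul, Equiv.Perm.coe_mul, Function.comp_apply, ihb, iha]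
    | inv a _ iha =>
      rw [map_inv]
      have := congrArg (fun c => (X.φ a)⁻¹ c) iha
      simpa using this.symm
  have lk : Link X pr ((Subgroup.closure S).map
      (PresentedGroup.mk (coxRelators edges ∪ {r | r ∈ extra}))) :=
    { nets := rfl
      n_eq := Nat.eq_of_beq_eq_true hn
      full := Nat.eq_of_beq_eq_true hfull
      hN := Nat.le_of_ble_eq_true hN
      idx := hidx
      letters := hletters
      rel := by
        intro W hW
        rw [hrels] at hW
        unfold relsGen at hW
        rcases List.mem_append.mp hW with h | h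
        · obtain ⟨x, _, rfl⟩ := List.mem_map.mp h
          rw [Act.ev_cons, Act.ev_cons, Act.ev_nil, mul_one]; exact X.hs x
        · rcases List.mem_append.mp h with h | h
          · obtain ⟨⟨x, y⟩, _, rfl⟩ := List.mem_map.mp h
            rw [hev, prod_cw]
            exact PresentedGroup.one_of_mem (Or.inl ⟨x, hnodes x, y, hnodes y, rfl⟩)
          · obtain ⟨r, hr, hP⟩ := forall2_right hextra W h
            have h1 := hP _ X.s X.hs
            have h2 : FreeGroup.lift X.s r =
                PresentedGroup.mk (coxRelators edges ∪ {r | r ∈ extra}) r :=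
              lift_of_eq_mk _ r
            show (W.map X.s).prod = 1
            rw [← h1, h2]
            exact PresentedGroup.one_of_mem (Or.inr hr)
      sub := by
        intro W hW
        rw [hev]
        exact Subgroup.mem_map_of_mem _ (Subgroup.subset_closure (hS2 W hW))
      fix := hfix }
  have hgen : Subgroup.closure (Set.range X.s) = ⊤ :=
    PresentedGroup.closure_range_of (coxRelators edges ∪ {r | r ∈ extra})
  obtain ⟨f, hf⟩ := X.cert_equiv pr _ lk hgen nreg tree stepsA pb stepsB nclass hA hNL hB
  exact ⟨X, f, rfl, hf, hHeq⟩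

end Cfsg.Agent.Lib.Helper13.CE
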