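import Cfsg.Agent.Lib.Helper13.CosetBits

set_option autoImplicit false

/-!
Words of networks, the relator check on bit planes, and the permutations of `Fin n` they define.
-/

namespace Cfsg.Agent.Lib.Helper13.CE

variable {α : Type} (nets : α → List (ℕ × ℕ))

/-- apply the networks of the letters of a word, in order. -/
def wapply : List α → ℕ → ℕ
  | [], x => x
  | l :: ls, x => strict (napply (nets l) x) (fun y => wapply ls y)

def wpos : List α → ℕ → ℕ
  | [], j => j
  | l :: ls, j => npos (nets l) (wpos ls j)

theorem testBit_wapply (hv : ∀ l, nvalid (nets l) = true) (W : List α) (x j : ℕ) :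
    (wapply nets W x).testBit j = x.testBit (wpos nets W j) := by
  induction W generalizing x with
  | nil => rfl
  | cons l ls ih =>
    simp only [wapply, wpos, strict_eq]
    rw [ih, testBit_napply _ (hv l)]

/-- `p k` for all `k < n`. -/
def allB : ℕ → (ℕ → Bool) → Bool
  | 0, _ => true
  | k+1, p => p k && allB k p

theorem allB_iff (n : ℕ) (p : ℕ → Bool) : allB n p = true ↔ ∀ i < n, p i = true := by
  induction n with
  | zero => simp [allB]
  | succ k ih =>
    simp only [allB, Bool.and_eq_true, ih]
    constructor
    · rintro ⟨h1, h2⟩ i hi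
      rcases Nat.lt_succ_iff_lt_or_eq.mp hi with h | h
      · exact h2 i h
      · rw [h]; exact h1
    · intro h; exact ⟨h k (Nat.lt_succ_self k), fun i hi => h i (Nat.lt_succ_of_lt hi)⟩

/-- the network of `x` preserves the set of the first `n` bits. -/
def rangeOK (n : ℕ) (x : α) : Bool := Nat.beq (napply (nets x) (2 ^ n - 1)) (2 ^ n - 1)

/-- the word `W` acts trivially on the `k` bit planes of `2^k` points. -/
def relOK (k : ℕ) (W : List α) : Bool :=
  allB k (fun b => Nat.beq (wapply nets W (planeD k b)) (planeD k b))

/-- the networks are valid, preserve `[0, n)`, and are involutions on it. -/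
structure NetOK (n k : ℕ) : Prop where
  valid : ∀ x, nvalid (nets x) = true
  range : ∀ x, rangeOK nets n x = true
  le : n ≤ 2 ^ k
  sq : ∀ x, relOK nets k [x, x] = true

variable {nets} {n k : ℕ}

theorem npos_lt (h : NetOK nets n k) (x : α) (j : ℕ) (hj : j < n) : npos (nets x) j < n := by
  have h1 := Nat.eq_of_beq_eq_true (h.range x)
  have h2 := testBit_napply (nets x) (h.valid x) (2 ^ n - 1) j
  rw [h1, Nat.testBit_two_pow_sub_one, Nat.testBit_two_pow_sub_one] at h2
  simpa [hj] using h2.symm

theorem wpos_lt (h : NetOK nets n k) (W : List α) (j : ℕ) (hj : j < n) : wpos nets W j < n := by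
  induction W with
  | nil => exact hj
  | cons l ls ih => exact npos_lt h l _ ih

theorem wpos_eq_self (h : NetOK nets n k) (W : List α) (hW : relOK nets k W = true) (j : ℕ)
    (hj : j < n) : wpos nets W j = j := by
  have hlt := wpos_lt h W j hj
  have h1 : wpos nets W j < 2 ^ k := lt_of_lt_of_le hlt h.le
  have h2 : j < 2 ^ k := lt_of_lt_of_le hj h.le
  apply Nat.eq_of_testBit_eq
  intro b
  by_cases hb : b < k
  · have h3 := (allB_iff k _).mp hW b hb
    have h4 := Nat.eq_of_beq_eq_true h3
    have h5 := testBit_wapply nets h.valid W (planeD k b) j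
    rw [h4, testBit_planeD k b j hb h2, testBit_planeD k b _ hb h1] at h5
    exact h5.symm
  · have hk : 2 ^ k ≤ 2 ^ b := Nat.pow_le_pow_right (by norm_num) (by omega)
    rw [Nat.testBit_lt_two_pow (lt_of_lt_of_le h1 hk), Nat.testBit_lt_two_pow (lt_of_lt_of_le h2 hk)]

theorem npos_npos (h : NetOK nets n k) (x : α) (j : ℕ) (hj : j < n) :
    npos (nets x) (npos (nets x) j) = j := by
  have := wpos_eq_self h [x, x] (h.sq x) j hj
  simpa [wpos] using this

/-- the permutation of `Fin n` defined by the network of `x`. -/
def sig (h : NetOK nets n k) (x : α) : Equiv.Perm (Fin n) where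
  toFun j := ⟨npos (nets x) j, npos_lt h x j j.2⟩
  invFun j := ⟨npos (nets x) j, npos_lt h x j j.2⟩
  left_inv j := Fin.ext (npos_npos h x j j.2)
  right_inv j := Fin.ext (npos_npos h x j j.2)

theorem sig_val (h : NetOK nets n k) (x : α) (j : Fin n) : ((sig h x j : Fin n) : ℕ) = npos (nets x) j := rfl

theorem sig_mul_self (h : NetOK nets n k) (x : α) : sig h x * sig h x = 1 := by
  ext j
  simp only [Equiv.Perm.coe_mul, Function.comp_apply, sig_val, Equiv.Perm.coe_one, id_eq]
  exact npos_npos h x j j.2

theorem prod_sig_val (h : NetOK nets n k) (W : List α) (j : Fin n) :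
    ((((W.map (sig h)).prod) j : Fin n) : ℕ) = wpos nets W j := by
  induction W with
  | nil => simp [wpos]
  | cons l ls ih =>
    simp only [List.map_cons, List.prod_cons, Equiv.Perm.coe_mul, Function.comp_apply, sig_val, wpos]
    rw [ih]

theorem prod_sig_eq_one (h : NetOK nets n k) (W : List α) (hW : relOK nets k W = true) :
    (W.map (sig h)).prod = 1 := by
  ext j
  rw [prod_sig_val, wpos_eq_self h W hW j j.2]; simp

end Cfsg.Agent.Lib.Helper13.CE
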