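import Cfsg.Agent.Lib.Helper13.CosetBase

set_option autoImplicit false

/-!
Primitivity of the action of a coset enumeration certificate of any rank: for every orbit of the
point stabiliser, the stabiliser together with an element moving the base point into the orbit
is transitive.
-/

namespace Cfsg.Agent.Lib.Helper13.CE

open scoped Pointwise

variable {α : Type} {G : Type*} [Group G] {n k : ℕ}

/-- certificate for one orbit of the point stabiliser: the range `[lo, lo + m)` is an orbit, the
word `g` moves the point `0` into it, and the stabiliser together with `g` is transitive. The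
entries are `(lo, m, steps of the orbit, g, steps of the transitivity)`. -/
def primOK (nets : α → List (ℕ × ℕ)) (n : ℕ) (subs : List (List α))
    (o : ℕ × ℕ × List ℕ × List α × List ℕ) : Bool :=
  orbOK nets n subs o.2.2.1 o.1 o.2.1 &&
  ((Nat.ble o.1 (wpos nets o.2.2.2.1 0) && Nat.blt (wpos nets o.2.2.2.1 0) (o.1 + o.2.1)) &&
   Nat.beq (orbBFS nets (o.2.2.2.1 :: subs) o.2.2.2.2 (Nat.shiftLeft 1 0)) (rangeSet 0 n))

/-- the ranges are consecutive and end at `n`. -/
def rngCover (n : ℕ) : ℕ → List (ℕ × ℕ × List ℕ × List α × List ℕ) → Bool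
  | lo, [] => Nat.beq lo n
  | lo, o :: rest => Nat.beq o.1 lo && rngCover n (lo + o.2.1) rest

theorem rngCover_sound (n : ℕ) : ∀ (lo : ℕ) (l : List (ℕ × ℕ × List ℕ × List α × List ℕ)),
    rngCover n lo l = true → ∀ c : ℕ, lo ≤ c → c < n →
      ∃ o ∈ l, o.1 ≤ c ∧ c < o.1 + o.2.1
  | lo, [], h, c, hc, hcn => by
    have := Nat.eq_of_beq_eq_true h
    omega
  | lo, o :: rest, h, c, hc, hcn => by
    simp only [rngCover, Bool.and_eq_true] at h
    have h1 : o.1 = lo := Nat.eq_of_beq_eq_true h.1
    by_cases hlt : c < lo + o.2.1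
    · exact ⟨o, List.mem_cons_self, by omega, by omega⟩
    · obtain ⟨o', ho', h2⟩ := rngCover_sound n (lo + o.2.1) rest h.2 c (by omega) hcn
      exact ⟨o', List.mem_cons_of_mem _ ho', h2⟩

theorem Act.isPreprimitive_of_orbs [NeZero n] (X : Act α G n k) (H : Subgroup G)
    (f : G ⧸ H ≃ Fin n) (hf : ∀ g : G, f (QuotientGroup.mk g) = X.φ g 0)
    (subs : List (List α)) (hH : H = Subgroup.closure {g | ∃ W ∈ subs, g = X.ev W})
    (orbs : List (ℕ × ℕ × List ℕ × List α × List ℕ))
    (hcov : rngCover n 1 orbs = true)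
    (hok : orbs.all (primOK X.nets n subs) = true) :
    @MulAction.IsPreprimitive G (Fin n) (X.mulAction).toSMul := by
  letI := X.mulAction
  have hsm : ∀ (g : G) (c : Fin n), g • c = X.φ g c := fun _ _ => rfl
  haveI : MulAction.IsPretransitive G (Fin n) := X.isPretransitive H f hf
  apply MulAction.IsPreprimitive.of_isTrivialBlock_base (0 : Fin n)
  intro B h0 hB
  have hstab : ∀ g : G, X.φ g 0 ∈ B → g • B = B := fun g hg =>
    (MulAction.isBlock_iff_smul_eq_of_mem.mp hB) h0 (by rw [hsm]; exact hg)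
  have hHB : ∀ h ∈ H, ∀ c ∈ B, X.φ h c ∈ B := by
    intro h hh c hc
    have h2 : h • B = B := hstab h (by rw [(X.mem_iff_φ_zero H f hf h).mp hh]; exact h0)
    rw [← h2]
    exact ⟨c, hc, rfl⟩
  have hz : ((0 : Fin n) : ℕ) = 0 := by simp
  by_cases hsub : ∀ c ∈ B, c = 0
  · left
    intro a ha b hb
    rw [hsub a ha, hsub b hb]
  · right
    simp only [not_forall] at hsub
    obtain ⟨c, hcB, hc0⟩ := hsub
    have hc1 : 1 ≤ (c : ℕ) := by
      by_contra h
      apply hc0
      apply Fin.ext
      rw [hz]; omega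
    obtain ⟨o, ho, hlo, hhi⟩ := rngCover_sound n 1 orbs hcov c hc1 c.2
    have hp := List.all_eq_true.mp hok o ho
    simp only [primOK, Bool.and_eq_true] at hp
    obtain ⟨horb, ⟨hg1, hg2⟩, hall⟩ := hp
    have hgB : X.φ (X.ev o.2.2.2.1) 0 ∈ B := by
      obtain ⟨h, hh, he⟩ := X.trans_on_range H f hf subs hH o.2.2.1 o.1 o.2.1 horb c
        (X.φ (X.ev o.2.2.2.1) 0) ⟨hlo, hhi⟩
        ⟨by rw [X.φ_ev_val, hz]; exact Nat.le_of_ble_eq_true hg1,
         by rw [X.φ_ev_val, hz]; simpa [Nat.blt] using hg2⟩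
      rw [← he]; exact hHB h hh c hcB
    have hK : ∀ W ∈ o.2.2.2.1 :: subs, X.ev W ∈ MulAction.stabilizer G B := by
      intro W hW
      rw [MulAction.mem_stabilizer_iff]
      rcases List.mem_cons.mp hW with rfl | hW
      · exact hstab _ hgB
      · apply hstab
        have hWH : X.ev W ∈ H := by rw [hH]; exact Subgroup.subset_closure ⟨W, hW, rfl⟩
        rw [(X.mem_iff_φ_zero H f hf _).mp hWH]; exact h0
    have hbfs := X.orbBFS_sound (MulAction.stabilizer G B) (o.2.2.2.1 :: subs) hK 0
      o.2.2.2.2 (Nat.shiftLeft 1 0) (by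
      intro c hc
      rw [shl_eq, Nat.one_shiftLeft, Nat.testBit_two_pow] at hc
      have hc' : (c : ℕ) = 0 := by
        have := hc; simp at this; exact this.symm
      exact ⟨1, (MulAction.stabilizer G B).one_mem, by
        rw [map_one]; exact Fin.ext (by simp [hc'])⟩)
    ext c
    simp only [Set.mem_univ, iff_true]
    have hbit : (orbBFS X.nets (o.2.2.2.1 :: subs) o.2.2.2.2 (Nat.shiftLeft 1 0)).testBit c
        = true := by
      rw [Nat.eq_of_beq_eq_true hall, testBit_rangeSet]
      simp [c.2]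
    obtain ⟨h, hh, he⟩ := hbfs c hbit
    rw [← he]
    have h2 : h • B = B := MulAction.mem_stabilizer_iff.mp hh
    rw [← h2]
    exact ⟨0, h0, rfl⟩

end Cfsg.Agent.Lib.Helper13.CE
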