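import Cfsg.Agent.Lib.Helper13.CosetA

set_option autoImplicit false

/-!
Phase B of the `≤` certificate: a small Todd–Coxeter replay over "sheets" (cosets of `H` in the
point stabiliser), with tables stored as bit fields of natural numbers.  It shows that every
class generator lies in `H`.
-/

namespace Cfsg.Agent.Lib.Helper13.CE

/-! ### bit fields -/

def fget (wd T i : ℕ) : ℕ := Nat.land (Nat.shiftRight T (wd * i)) (2 ^ wd - 1)

def fset (wd T i v : ℕ) : ℕ :=
  cond (Nat.blt v (2 ^ wd)) (Nat.xor T (Nat.shiftLeft (Nat.xor (fget wd T i) v) (wd * i))) T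

theorem testBit_fget (wd T i b : ℕ) :
    (fget wd T i).testBit b = (decide (b < wd) && T.testBit (wd * i + b)) := by
  unfold fget
  rw [land_eq, shr_eq, Nat.testBit_and, Nat.testBit_shiftRight, Nat.testBit_two_pow_sub_one,
    Bool.and_comm]

theorem fget_lt (wd T i : ℕ) : fget wd T i < 2 ^ wd := by
  unfold fget
  rw [land_eq]
  have h : 0 < 2 ^ wd := by positivity
  exact lt_of_le_of_lt Nat.and_le_right (by omega)

theorem blt_false {a b : ℕ} (h : Nat.blt a b = false) : ¬ a < b := by
  intro hlt
  have : Nat.blt a b = true := by simpa [Nat.blt] using hlt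
  rw [this] at h; exact Bool.noConfusion h

theorem blt_true {a b : ℕ} (h : Nat.blt a b = true) : a < b := by simpa [Nat.blt] using h

theorem fget_fset (wd T i v j : ℕ) :
    fget wd (fset wd T i v) j = if j = i ∧ v < 2 ^ wd then v else fget wd T j := by
  unfold fset
  cases hv : Nat.blt v (2 ^ wd)
  · have : ¬ v < 2 ^ wd := blt_false hv
    simp [this]
  · have hlt : v < 2 ^ wd := by simpa [Nat.blt] using hv
    simp only [cond_true]
    by_cases hji : j = i
    · subst hji
      simp only [true_and, hlt, if_true]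
      apply Nat.eq_of_testBit_eq
      intro b
      rw [testBit_fget, xor_eq, shl_eq, xor_eq, Nat.testBit_xor, Nat.testBit_shiftLeft,
        Nat.testBit_xor, testBit_fget]
      by_cases hb : b < wd
      · have e : wd * j + b - wd * j = b := by omega
        simp only [hb, decide_true, Bool.true_and, e, ge_iff_le, Nat.le_add_right]
        cases T.testBit (wd * j + b) <;> cases v.testBit b <;> rfl
      · have h2 : v.testBit b = false :=
          Nat.testBit_lt_two_pow (lt_of_lt_of_le hlt (Nat.pow_le_pow_right (by norm_num) (by omega)))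
        simp [hb, h2]
    · simp only [hji, false_and, if_false]
      apply Nat.eq_of_testBit_eq
      intro b
      rw [testBit_fget, testBit_fget, xor_eq, shl_eq, xor_eq, Nat.testBit_xor,
        Nat.testBit_shiftLeft, Nat.testBit_xor]
      by_cases hb : b < wd
      · simp only [hb, decide_true, Bool.true_and]
        rcases Nat.lt_or_gt_of_ne hji with h | h
        · have h1 : wd * (j + 1) ≤ wd * i := Nat.mul_le_mul_left wd h
          have h2 : ¬ (wd * j + b ≥ wd * i) := by rw [Nat.mul_succ] at h1; omega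
          simp [h2]
        · have h1 : wd * (i + 1) ≤ wd * j := Nat.mul_le_mul_left wd h
          have h4 : wd ≤ wd * j + b - wd * i := by rw [Nat.mul_succ] at h1; omega
          have hp : 2 ^ wd ≤ 2 ^ (wd * j + b - wd * i) := Nat.pow_le_pow_right (by norm_num) h4
          have h5 : (fget wd T i).testBit (wd * j + b - wd * i) = false :=
            Nat.testBit_lt_two_pow (lt_of_lt_of_le (fget_lt wd T i) hp)
          have h6 : v.testBit (wd * j + b - wd * i) = false :=
            Nat.testBit_lt_two_pow (lt_of_lt_of_le hlt hp)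
          simp [h5, h6]
      · simp [hb]

/-! ### the checker -/

structure ParB where
  wd : ℕ
  NL : ℕ
  fuel : ℕ
  AR : List (List (List ℕ))
  AS : List (List ℕ)
  defs : List (ℕ × ℕ)

def okL (NL l : ℕ) : Bool := Nat.ble 2 l && Nat.blt l NL

theorem okL_iff (NL l : ℕ) : okL NL l = true ↔ 2 ≤ l ∧ l < NL := by
  unfold okL
  rw [Bool.and_eq_true]
  constructor
  · rintro ⟨h1, h2⟩; exact ⟨Nat.le_of_ble_eq_true h1, by simpa [Nat.blt] using h2⟩
  · rintro ⟨h1, h2⟩; exact ⟨Nat.ble_eq_true_of_le h1, by simpa [Nat.blt] using h2⟩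

def chase (wd R : ℕ) : ℕ → ℕ → ℕ
  | 0, v => v
  | f+1, v => strict (fget wd R v) (fun t => cond (Nat.beq t 0) v (chase wd R f (t - 1)))

def look (pb : ParB) (JR : ℕ × ℕ) (v l : ℕ) : ℕ :=
  cond (okL pb.NL l)
    (strict (fget pb.wd JR.1 (v * pb.NL + l)) (fun t =>
      cond (Nat.beq t 0) 0 (chase pb.wd JR.2 pb.fuel (t - 1) + 1)))
    0

def follow (pb : ParB) (JR : ℕ × ℕ) : List ℕ → ℕ → ℕ
  | [], v => v + 1
  | l :: ls, v => strict (look pb JR v l) (fun t => cond (Nat.beq t 0) 0 (follow pb JR ls (t - 1)))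

def union (pb : ParB) (R a b : ℕ) : ℕ :=
  strict (chase pb.wd R pb.fuel a) (fun a' => strict (chase pb.wd R pb.fuel b) (fun b' =>
    cond (Nat.beq a' b') R
      (cond (Nat.blt a' b')
        (cond (Nat.beq (fget pb.wd R b') 0) (fset pb.wd R b' (a' + 1)) R)
        (cond (Nat.beq (fget pb.wd R a') 0) (fset pb.wd R a' (b' + 1)) R))))

def addEdge (pb : ParB) (JR : ℕ × ℕ) (v l u : ℕ) : ℕ × ℕ :=
  cond (okL pb.NL l)
    (strict (fget pb.wd JR.1 (v * pb.NL + l)) (fun t =>
      cond (Nat.beq t 0) (fset pb.wd JR.1 (v * pb.NL + l) (u + 1), JR.2)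
        (JR.1, union pb JR.2 (t - 1) u)))
    JR

def addPair (pb : ParB) (JR : ℕ × ℕ) (f g b : ℕ) : ℕ × ℕ :=
  addEdge pb (addEdge pb JR f g b) b (invL g) f

def scanW (pb : ParB) (JR : ℕ × ℕ) (W : List ℕ) (v p : ℕ) : Option (ℕ × ℕ) :=
  match W.drop p with
  | [] => none
  | g :: post =>
    strict (follow pb JR (W.take p) v) (fun f =>
      strict (follow pb JR (post.reverse.map invL) v) (fun b =>
        cond (Nat.beq f 0 || Nat.beq b 0) none (some (addPair pb JR (f - 1) g (b - 1)))))

structure StB where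
  JR : ℕ × ℕ
  nxt : ℕ
  rem : List (ℕ × ℕ)

inductive StepB where
  | d
  | r (jo ji r v p : ℕ)
  | s (j p : ℕ)
  | i (v l : ℕ)

def stepB (pb : ParB) (st : StB) : StepB → Option StB
  | .d =>
    match st.rem with
    | [] => none
    | (v, l) :: rest =>
      cond (Nat.blt v st.nxt && okL pb.NL l)
        (some ⟨(fset pb.wd (fset pb.wd st.JR.1 (v * pb.NL + l) (st.nxt + 1))
            (st.nxt * pb.NL + invL l) (v + 1), st.JR.2), st.nxt + 1, rest⟩)
        none
  | .r jo ji r v p =>
    match scanW pb st.JR (rotW ((pb.AR.getD jo []).getD ji []) r) v p with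
    | none => none
    | some JR' => some ⟨JR', st.nxt, st.rem⟩
  | .s j p =>
    match scanW pb st.JR (pb.AS.getD j []) 0 p with
    | none => none
    | some JR' => some ⟨JR', st.nxt, st.rem⟩
  | .i v l =>
    cond (okL pb.NL l)
      (strict (fget pb.wd st.JR.1 (v * pb.NL + l)) (fun t =>
        cond (Nat.beq t 0) none
          (strict (chase pb.wd st.JR.2 pb.fuel v) (fun rho =>
            strict (chase pb.wd st.JR.2 pb.fuel (t - 1)) (fun u =>
              some ⟨addPair pb st.JR rho l u, st.nxt, st.rem⟩)))))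
      none

def runB (pb : ParB) : StB → List StepB → Option StB
  | st, [] => some st
  | st, e :: es =>
    match stepB pb st e with
    | none => none
    | some st' => runB pb st' es

def finalB (pb : ParB) (JR : ℕ × ℕ) : Bool :=
  allB pb.NL (fun l => Nat.blt l 2 || Nat.beq (look pb JR 0 l) 1)

def checkB (pb : ParB) (steps : List StepB) : Bool :=
  match runB pb ⟨(0, 0), 1, pb.defs⟩ steps with
  | none => false
  | some st => finalB pb st.JR

end Cfsg.Agent.Lib.Helper13.CE
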