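import Cfsg.Agent.Lib.Helper13.CosetY

set_option autoImplicit false

/-!
The relators of a Coxeter-graph presentation hold for a family of elements of a group as soon as
the words of the certificate (squares, Coxeter words and the words of the further relators) have
trivial product.
-/

namespace Cfsg.Agent.Lib.Helper13.CE

open Cfsg.Spor

theorem lift_eq_one_of_relsGen {α : Type} [DecidableEq α] (edges : List (α × ℕ × α))
    (extra : List (FreeGroup α)) (letters : List α) (extraW : List (List α))
    (hletters : ∀ x, x ∈ letters)
    (hextra : List.Forall₂ (fun r W => ∀ (K : Type) [Group K] (s : α → K),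
        (∀ x, s x * s x = 1) → FreeGroup.lift s r = (W.map s).prod) extra extraW)
    {K : Type} [Group K] (s : α → K)
    (hW : ∀ W ∈ relsGen edges letters extraW, (W.map s).prod = 1) :
    ∀ r ∈ coxRelators edges ∪ {r | r ∈ extra}, FreeGroup.lift s r = 1 := by
  have hsq : ∀ x, s x * s x = 1 := by
    intro x
    have := hW [x, x] (by
      unfold relsGen
      exact List.mem_append_left _ (List.mem_map.mpr ⟨x, hletters x, rfl⟩))
    simpa using this
  intro r hr
  rcases hr with ⟨x, _, y, _, rfl⟩ | hr
  · rw [map_pow, map_mul, FreeGroup.lift_apply_of, FreeGroup.lift_apply_of]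
    by_cases hxy : x = y
    · subst hxy
      have h2 : coxLabel edges x x = 1 := by unfold coxLabel; rw [if_pos rfl]
      rw [h2, pow_one]; exact hsq x
    · rcases pairsLT_total letters x y (hletters x) (hletters y) hxy with h | h
      · have := hW _ (by
          unfold relsGen
          exact List.mem_append_right _ (List.mem_append_left _
            (List.mem_map.mpr ⟨(x, y), h, rfl⟩)))
        rw [prod_cw] at this; exact this
      · have := hW _ (by
          unfold relsGen
          exact List.mem_append_right _ (List.mem_append_left _
            (List.mem_map.mpr ⟨(y, x), h, rfl⟩)))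
        rw [prod_cw, coxLabel_comm edges y x] at this
        exact pow_mul_comm_eq_one _ _ _ this
  · obtain ⟨W, hWm, hP⟩ := forall2_left hextra r hr
    rw [hP K s hsq]
    exact hW W (by
      unfold relsGen
      exact List.mem_append_right _ (List.mem_append_right _ hWm))

end Cfsg.Agent.Lib.Helper13.CE
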