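import Cfsg.Agent.Lib.Helper13.CosetCoxChain
import Cfsg.Agent.Lib.Helper13.CosetChunk2

set_option autoImplicit false

/-!
Chains of Coxeter-graph presented groups: the certificate theorem with the value of words exposed,
homomorphisms between presented groups of sub-diagrams, order bounds, and faithfulness of the action
on the points from a stabiliser chain.
-/

namespace Cfsg.Agent.Lib.Helper13.CE

open Cfsg.Spor

variable {α : Type}

theorem cox_main2 [DecidableEq α] (edges : List (α × ℕ × α)) (extra : List (FreeGroup α))
    (n k : ℕ) [NeZero n] (pr : Par α) (extraW : List (List α))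
    (hnodes : ∀ x, x ∈ coxNodes edges)
    (hletters : ∀ x, x ∈ pr.letters)
    (hidx : Function.Injective pr.idx)
    (hextra : List.Forall₂ (fun r W => ∀ (K : Type) [Group K] (s : α → K),
        (∀ x, s x * s x = 1) → FreeGroup.lift s r = (W.map s).prod) extra extraW)
    (hrels : pr.rels = relsGen edges pr.letters extraW)
    (hstat : staticOK pr n k = true)
    (nreg : ℕ) (tree : List α) (stepsA : List (StepA α)) (pb : ParB) (stepsB : List StepB)
    (nclass : ℕ) (hA : checkA pr nreg tree stepsA pb.AR.flatten pb.AS nclass = true)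
    (hNL : pb.NL = 2 * nclass) (hB : checkB pb stepsB = true) :
    ∃ (X : Act α (PresentedGroup (coxRelators edges ∪ {r | r ∈ extra})) n k)
      (f : PresentedGroup (coxRelators edges ∪ {r | r ∈ extra}) ⧸
        Subgroup.closure {g | ∃ W ∈ pr.subs, g = PresentedGroup.mk
          (coxRelators edges ∪ {r | r ∈ extra}) ((W.map FreeGroup.of).prod)} ≃ Fin n),
      X.nets = pr.nets ∧
      (∀ W : List α, X.ev W = PresentedGroup.mk (coxRelators edges ∪ {r | r ∈ extra})
        ((W.map FreeGroup.of).prod)) ∧
      (∀ g, f (QuotientGroup.mk g) = X.φ g 0) := by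
  simp only [staticOK, Bool.and_eq_true, List.all_eq_true] at hstat
  obtain ⟨hnet, hle, hrelok, hfixok, hfull, hn, hN⟩ := hstat
  have mem_sq : ∀ x, [x, x] ∈ pr.rels := by
    intro x
    rw [hrels]; unfold relsGen
    exact List.mem_append_left _ (List.mem_map.mpr ⟨x, hletters x, rfl⟩)
  have mem_pair : ∀ x y, (x, y) ∈ pairsLT pr.letters → cw x y (coxLabel edges x y) ∈ pr.rels := by
    intro x y hxy
    rw [hrels]; unfold relsGen
    exact List.mem_append_right _ (List.mem_append_left _ (List.mem_map.mpr ⟨(x, y), hxy, rfl⟩))
  have mem_extra : ∀ W ∈ extraW, W ∈ pr.rels := by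
    intro W hW
    rw [hrels]; unfold relsGen
    exact List.mem_append_right _ (List.mem_append_right _ hW)
  have hok : NetOK pr.nets n k :=
    { valid := fun x => (hnet x (hletters x)).1
      range := fun x => (hnet x (hletters x)).2
      le := Nat.le_of_ble_eq_true hle
      sq := fun x => hrelok _ (mem_sq x) }
  have hsig : ∀ r ∈ coxRelators edges ∪ {r | r ∈ extra}, FreeGroup.lift (sig hok) r = 1 := by
    intro r hr
    rcases hr with ⟨x, _, y, _, rfl⟩ | hr
    · rw [map_pow, map_mul, FreeGroup.lift_apply_of, FreeGroup.lift_apply_of]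
      by_cases hxy : x = y
      · subst hxy
        have h2 : coxLabel edges x x = 1 := by unfold coxLabel; rw [if_pos rfl]
        rw [h2, pow_one]; exact sig_mul_self hok x
      · rcases pairsLT_total pr.letters x y (hletters x) (hletters y) hxy with h | h
        · have := prod_sig_eq_one hok _ (hrelok _ (mem_pair x y h))
          rw [prod_cw] at this; exact this
        · have := prod_sig_eq_one hok _ (hrelok _ (mem_pair y x h))
          rw [prod_cw, coxLabel_comm edges y x] at this
          exact pow_mul_comm_eq_one _ _ _ this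
    · obtain ⟨W, hW, hP⟩ := forall2_left hextra r hr
      rw [hP (Equiv.Perm (Fin n)) (sig hok) (sig_mul_self hok)]
      exact prod_sig_eq_one hok W (hrelok W (mem_extra W hW))
  let X := coxAct edges extra n k pr.nets hok hnodes hsig
  have hev : ∀ W : List α, X.ev W =
      PresentedGroup.mk (coxRelators edges ∪ {r | r ∈ extra}) ((W.map FreeGroup.of).prod) :=
    coxAct_ev edges extra n k pr.nets hok hnodes hsig
  have hfix1 : ∀ W ∈ pr.subs, X.φ (X.ev W) 0 = 0 := by
    intro W hW
    have h1 := X.testBit_wapply' W 1 (0 : Fin n)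
    have h2 : wapply X.nets W 1 = 1 := Nat.eq_of_beq_eq_true (hfixok W hW)
    rw [h2] at h1
    have h3 : (1 : ℕ).testBit ((0 : Fin n) : ℕ) = true := by simp
    rw [h3] at h1
    exact Fin.ext (by simpa using (Nat.testBit_one_eq_true_iff_self_eq_zero.mp h1.symm))
  have hfix : ∀ h ∈ Subgroup.closure {g | ∃ W ∈ pr.subs, g = PresentedGroup.mk
      (coxRelators edges ∪ {r | r ∈ extra}) ((W.map FreeGroup.of).prod)}, X.φ h 0 = 0 := by
    intro h hh
    induction hh using Subgroup.closure_induction with
    | mem y hy =>
      obtain ⟨W, hW, rfl⟩ := hy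
      rw [← hev W]
      exact hfix1 W hW
    | one => simp
    | mul a b _ _ iha ihb => rw [map_mul, Equiv.Perm.coe_mul, Function.comp_apply, ihb, iha]
    | inv a _ iha =>
      rw [map_inv]
      have := congrArg (fun c => (X.φ a)⁻¹ c) iha
      simpa using this.symm
  have lk : Link X pr (Subgroup.closure {g | ∃ W ∈ pr.subs, g = PresentedGroup.mk
      (coxRelators edges ∪ {r | r ∈ extra}) ((W.map FreeGroup.of).prod)}) :=
    { nets := rfl
      n_eq := Nat.eq_of_beq_eq_true hn
      full := Nat.eq_of_beq_eq_true hfull
      hN := Nat.le_of_ble_eq_true hN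
      idx := hidx
      letters := hletters
      rel := by
        intro W hW
        rw [hrels] at hW
        unfold relsGen at hW
        rcases List.mem_append.mp hW with h | h
        · obtain ⟨x, _, rfl⟩ := List.mem_map.mp h
          rw [Act.ev_cons, Act.ev_cons, Act.ev_nil, mul_one]; exact X.hs x
        · rcases List.mem_append.mp h with h | h
          · obtain ⟨⟨x, y⟩, _, rfl⟩ := List.mem_map.mp h
            rw [hev, prod_cw]
            exact PresentedGroup.one_of_mem (Or.inl ⟨x, hnodes x, y, hnodes y, rfl⟩)
          · obtain ⟨r, hr, hP⟩ := forall2_right hextra W h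
            have h1 := hP _ X.s X.hs
            have h2 : FreeGroup.lift X.s r =
                PresentedGroup.mk (coxRelators edges ∪ {r | r ∈ extra}) r :=
              lift_of_eq_mk _ r
            show (W.map X.s).prod = 1
            rw [← h1, h2]
            exact PresentedGroup.one_of_mem (Or.inr hr)
      sub := by
        intro W hW
        rw [hev]
        exact Subgroup.subset_closure ⟨W, hW, rfl⟩
      fix := hfix }
  have hgen : Subgroup.closure (Set.range X.s) = ⊤ :=
    PresentedGroup.closure_range_of (coxRelators edges ∪ {r | r ∈ extra})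
  obtain ⟨f, hf⟩ := X.cert_equiv pr _ lk hgen nreg tree stepsA pb stepsB nclass hA hNL hB
  exact ⟨X, f, rfl, hev, hf⟩


/-! ### order bounds along homomorphisms -/

/-- from an index certificate over a subgroup inside the image of a finite group: finiteness and
the bound `|G| ≤ n |G'|`. -/
theorem card_le_mul_of_range {G G' : Type*} [Group G] [Group G'] [Finite G'] (ι : G' →* G)
    (H : Subgroup G) (hH : H ≤ ι.range) (n : ℕ) (f : G ⧸ H ≃ Fin n) :
    Finite G ∧ Nat.card G ≤ n * Nat.card G' := by
  haveI : Finite ι.range := Finite.of_surjective _ ι.rangeRestrict_surjective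
  haveI : Finite H := Finite.of_injective _ (Subgroup.inclusion_injective hH)
  haveI : Finite (G ⧸ H) := Finite.of_equiv _ f.symm
  haveI : Finite G := Finite.of_subgroup_quotient H
  refine ⟨inferInstance, ?_⟩
  have h1 := Subgroup.card_eq_card_quotient_mul_card_subgroup H
  have h2 : Nat.card (G ⧸ H) = n := by rw [Nat.card_congr f, Nat.card_fin]
  have h3 : Nat.card H ≤ Nat.card ι.range :=
    Nat.card_le_card_of_injective _ (Subgroup.inclusion_injective hH)
  have h4 : Nat.card ι.range ≤ Nat.card G' :=
    Nat.card_le_card_of_surjective _ ι.rangeRestrict_surjective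
  rw [h1, h2]
  exact Nat.mul_le_mul_left _ (le_trans h3 h4)

/-! ### homomorphisms between presented groups of sub-diagrams -/

theorem lift_of_comp_eq_mk_map {β : Type} (rels : Set (FreeGroup α)) (e : β → α)
    (r : FreeGroup β) :
    FreeGroup.lift (fun x => (PresentedGroup.of (e x) : PresentedGroup rels)) r =
      PresentedGroup.mk rels (FreeGroup.map e r) := by
  have : FreeGroup.lift (fun x => (PresentedGroup.of (e x) : PresentedGroup rels)) =
      (PresentedGroup.mk rels).comp (FreeGroup.map e) := by
    apply FreeGroup.ext_hom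
    intro a
    rw [FreeGroup.lift_apply_of, MonoidHom.comp_apply, FreeGroup.map.of]; rfl
  rw [this, MonoidHom.comp_apply]

/-- the homomorphism of Coxeter-graph presented groups induced by a map of generators which
respects the nodes and labels and sends the further relators to trivial elements. -/
def presHom {β : Type} [DecidableEq α] [DecidableEq β] (edges : List (α × ℕ × α))
    (extra : List (FreeGroup α)) (edges' : List (β × ℕ × β)) (extra' : List (FreeGroup β))
    (e : β → α) (hnodes : ∀ x ∈ coxNodes edges', e x ∈ coxNodes edges)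
    (hlab : ∀ x ∈ coxNodes edges', ∀ y ∈ coxNodes edges',
      coxLabel edges' x y = coxLabel edges (e x) (e y))
    (hextra : ∀ r ∈ extra', PresentedGroup.mk (coxRelators edges ∪ {r | r ∈ extra})
      (FreeGroup.map e r) = 1) :
    PresentedGroup (coxRelators edges' ∪ {r | r ∈ extra'}) →*
      PresentedGroup (coxRelators edges ∪ {r | r ∈ extra}) :=
  PresentedGroup.toGroup (f := fun x => PresentedGroup.of (e x)) (by
    intro r hr
    rcases hr with ⟨x, hx, y, hy, rfl⟩ | hr
    · rw [map_pow, map_mul, FreeGroup.lift_apply_of, FreeGroup.lift_apply_of, hlab x hx y hy]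
      have h := PresentedGroup.one_of_mem (rels := coxRelators edges ∪ {r | r ∈ extra})
        (x := (FreeGroup.of (e x) * FreeGroup.of (e y)) ^ coxLabel edges (e x) (e y))
        (Or.inl ⟨e x, hnodes x hx, e y, hnodes y hy, rfl⟩)
      rw [map_pow, map_mul] at h
      exact h
    · rw [lift_of_comp_eq_mk_map]
      exact hextra r hr)

theorem presHom_of {β : Type} [DecidableEq α] [DecidableEq β] (edges : List (α × ℕ × α))
    (extra : List (FreeGroup α)) (edges' : List (β × ℕ × β)) (extra' : List (FreeGroup β))
    (e : β → α) (hnodes : ∀ x ∈ coxNodes edges', e x ∈ coxNodes edges)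
    (hlab : ∀ x ∈ coxNodes edges', ∀ y ∈ coxNodes edges',
      coxLabel edges' x y = coxLabel edges (e x) (e y))
    (hextra : ∀ r ∈ extra', PresentedGroup.mk (coxRelators edges ∪ {r | r ∈ extra})
      (FreeGroup.map e r) = 1) (x : β) :
    presHom edges extra edges' extra' e hnodes hlab hextra (PresentedGroup.of x) =
      PresentedGroup.of (e x) :=
  PresentedGroup.toGroup.of _

theorem presHom_mk_words {β : Type} [DecidableEq α] [DecidableEq β] (edges : List (α × ℕ × α))
    (extra : List (FreeGroup α)) (edges' : List (β × ℕ × β)) (extra' : List (FreeGroup β))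
    (e : β → α) (hnodes : ∀ x ∈ coxNodes edges', e x ∈ coxNodes edges)
    (hlab : ∀ x ∈ coxNodes edges', ∀ y ∈ coxNodes edges',
      coxLabel edges' x y = coxLabel edges (e x) (e y))
    (hextra : ∀ r ∈ extra', PresentedGroup.mk (coxRelators edges ∪ {r | r ∈ extra})
      (FreeGroup.map e r) = 1) (W : List β) :
    presHom edges extra edges' extra' e hnodes hlab hextra
        (PresentedGroup.mk _ ((W.map FreeGroup.of).prod)) =
      PresentedGroup.mk _ (((W.map e).map FreeGroup.of).prod) := by
  induction W with
  | nil => simp
  | cons x W ih =>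
    rw [List.map_cons, List.prod_cons, map_mul, map_mul, ih, List.map_cons, List.map_cons,
      List.prod_cons, map_mul]
    congr 1

/-- the closure of the one-letter words of a prefix of the generators lies in the image. -/
theorem closure_subs_le_range {β : Type} [DecidableEq α] [DecidableEq β]
    (edges : List (α × ℕ × α)) (extra : List (FreeGroup α)) {G' : Type*} [Group G']
    (ι : G' →* PresentedGroup (coxRelators edges ∪ {r | r ∈ extra}))
    (subs : List (List α))
    (h : ∀ W ∈ subs, ∃ x, W = [x] ∧ (PresentedGroup.of x :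
      PresentedGroup (coxRelators edges ∪ {r | r ∈ extra})) ∈ ι.range) :
    Subgroup.closure {g | ∃ W ∈ subs, g = PresentedGroup.mk
      (coxRelators edges ∪ {r | r ∈ extra}) ((W.map FreeGroup.of).prod)} ≤ ι.range := by
  rw [Subgroup.closure_le]
  rintro g ⟨W, hW, rfl⟩
  obtain ⟨x, rfl, hx⟩ := h W hW
  rw [List.map_singleton, List.prod_singleton]
  exact hx

/-- the homomorphism from a Coxeter group (Mathlib) to a Coxeter-graph presented group. -/
def coxToPres {B : Type} [DecidableEq α] (M : CoxeterMatrix B) (edges : List (α × ℕ × α))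
    (extra : List (FreeGroup α)) (e : B → α) (hnodes : ∀ i, e i ∈ coxNodes edges)
    (hlab : ∀ i j, M i j = coxLabel edges (e i) (e j)) :
    M.Group →* PresentedGroup (coxRelators edges ∪ {r | r ∈ extra}) :=
  M.toCoxeterSystem.lift ⟨fun i => PresentedGroup.of (e i), fun i j => by
    rw [hlab]
    have h := PresentedGroup.one_of_mem (rels := coxRelators edges ∪ {r | r ∈ extra})
      (x := (FreeGroup.of (e i) * FreeGroup.of (e j)) ^ coxLabel edges (e i) (e j))
      (Or.inl ⟨e i, hnodes i, e j, hnodes j, rfl⟩)
    rw [map_pow, map_mul] at h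
    exact h⟩

theorem coxToPres_simple {B : Type} [DecidableEq α] (M : CoxeterMatrix B)
    (edges : List (α × ℕ × α)) (extra : List (FreeGroup α)) (e : B → α)
    (hnodes : ∀ i, e i ∈ coxNodes edges) (hlab : ∀ i j, M i j = coxLabel edges (e i) (e j))
    (i : B) : coxToPres M edges extra e hnodes hlab (M.simple i) = PresentedGroup.of (e i) := by
  have h := M.toCoxeterSystem.lift_apply_simple
    (f := fun i => (PresentedGroup.of (e i) : PresentedGroup (coxRelators edges ∪ {r | r ∈ extra})))
    (fun i j => by
      rw [hlab]
      have h := PresentedGroup.one_of_mem (rels := coxRelators edges ∪ {r | r ∈ extra})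
        (x := (FreeGroup.of (e i) * FreeGroup.of (e j)) ^ coxLabel edges (e i) (e j))
        (Or.inl ⟨e i, hnodes i, e j, hnodes j, rfl⟩)
      rw [map_pow, map_mul] at h
      exact h) i
  rw [CoxeterMatrix.toCoxeterSystem_simple] at h
  exact h

/-! ### the kernel of the action -/

/-- from an upper bound on the order of the group and a stabiliser chain in the action: a bound
on the order of the kernel of the action. -/
theorem Act.card_ker_le {G : Type*} [Group G] [Finite G] {n k : ℕ} (X : Act α G n k)
    (gens : List α) (j : ℕ) (lv : List (ℕ × List ℕ × ℕ))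
    (hchain : chainOK X.nets n gens j lv = true) (N c : ℕ) (hN : Nat.card G ≤ N)
    (hprod : N ≤ c * (lv.map (fun l => l.2.2)).prod) (hpos : 0 < (lv.map (fun l => l.2.2)).prod) :
    Nat.card X.φ.ker ≤ c := by
  have h1 : (lv.map (fun l => l.2.2)).prod ≤ Nat.card (X.toRange.sub (gens.take j)) :=
    X.toRange.chain_sound gens j lv hchain
  have h2 : Nat.card (X.toRange.sub (gens.take j)) ≤ Nat.card X.φ.range :=
    Nat.card_le_card_of_injective _ Subtype.val_injective
  have h3 : Nat.card G = Nat.card X.φ.ker * Nat.card X.φ.range := by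
    rw [Subgroup.card_eq_card_quotient_mul_card_subgroup X.φ.ker,
      Nat.card_congr (QuotientGroup.quotientKerEquivRange X.φ).toEquiv, mul_comm]
  by_contra hc
  have hc' : c + 1 ≤ Nat.card X.φ.ker := by omega
  have h4 : (c + 1) * (lv.map (fun l => l.2.2)).prod ≤ Nat.card G := by
    rw [h3]
    exact Nat.mul_le_mul hc' (le_trans h1 h2)
  have h5 : (c + 1) * (lv.map (fun l => l.2.2)).prod =
      c * (lv.map (fun l => l.2.2)).prod + (lv.map (fun l => l.2.2)).prod := by ring
  omega

/-- with a kernel of order at most two, an element of the kernel with trivial sign is trivial as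
soon as the kernel contains an element with non-trivial sign. -/
theorem eq_one_of_ker_le_two {G A : Type*} [Group G] [Finite G] [Group A] (φ : G →* A)
    (hker : Nat.card φ.ker ≤ 2) (sg : G →* ℤˣ) (u ζ : G) (hu : φ u = 1) (hζ : φ ζ = 1)
    (hsu : sg u = 1) (hsζ : sg ζ ≠ 1) : u = 1 := by
  by_contra hne
  have hζ1 : ζ ≠ 1 := by
    rintro rfl; exact hsζ (map_one sg)
  have hζu : ζ ≠ u := by
    rintro rfl; exact hsζ hsu
  classical
  haveI : Fintype φ.ker := Fintype.ofFinite _
  have h3 : 2 < (Finset.univ : Finset φ.ker).card :=
    Finset.two_lt_card_iff.mpr ⟨⟨1, φ.ker.one_mem⟩, ⟨u, hu⟩, ⟨ζ, hζ⟩, Finset.mem_univ _,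
      Finset.mem_univ _, Finset.mem_univ _,
      fun h => hne (congrArg Subtype.val h).symm, fun h => hζ1 (congrArg Subtype.val h).symm,
      fun h => hζu (congrArg Subtype.val h).symm⟩
  rw [Finset.card_univ, ← Nat.card_eq_fintype_card] at h3
  omega

/-- the sign of a product of generators, for a homomorphism sending every generator to `-1`. -/
theorem sign_mk_words {rels : Set (FreeGroup α)} (sg : PresentedGroup rels →* ℤˣ)
    (hsg : ∀ x, sg (PresentedGroup.of x) = -1) (W : List α) :
    sg (PresentedGroup.mk rels ((W.map FreeGroup.of).prod)) = (-1) ^ W.length := by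
  induction W with
  | nil => simp
  | cons x W ih =>
    rw [List.map_cons, List.prod_cons, map_mul, map_mul, ih, List.length_cons, pow_succ']
    congr 1
    exact hsg x


end Cfsg.Agent.Lib.Helper13.CE
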