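import Cfsg.Agent.Lib.Helper13.CosetCox
set_option autoImplicit false
set_option maxRecDepth 100000

open Cfsg.Agent.Lib.Helper13.CE

namespace Cfsg.Agent.Lib.Helper13.CoxE6

def netL : List (List (ℕ × ℕ)) := [[(0x500404, 1), (0x130202, 2), (0xa0000, 4), (0x800000, 8), (0x8000, 16), (0x800000, 8), (0x80000, 4), (0x20000, 2), (0x500404, 1)],
  [(0x4044050, 1), (0x2032000, 2), (0x40000, 4), (0x400000, 8), (0x4000, 16), (0x400000, 8), (0x40000, 4), (0x10000, 2), (0x4044000, 1)],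
  [(0x1000104, 1), (0x2112000, 2), (0x8040000, 4), (0xc00000, 8), (0x4000, 16), (0x400000, 8), (0x8040000, 4), (0x2010000, 2), (0x1000000, 1)],
  [(0x1141110, 1), (0x210020, 2), (0x80208, 4), (0x20, 8), (0x200, 4), (0x200020, 2), (0x140110, 1)],
  [(0x1401000, 1), (0x302030, 2), (0x2080800, 4), (0x200000, 8), (0x2000000, 4), (0x202000, 2), (0x1401000, 1)],
  [(0x5400400, 1), (0x2000100, 2), (0x3060000, 4), (0x380001, 8), (0x3e, 16), (0x380000, 8), (0x3060000, 4), (0x2000100, 2), (0x5400400, 1)]]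
def nets (i : Fin 6) : List (ℕ × ℕ) := netL.getD i.val []
def idx (i : Fin 6) : ℕ := i.val
def lettersW : List (Fin 6) := [0, 1, 2, 3, 4, 5]
def relsW : List (List (Fin 6)) := [[0, 0],
  [1, 1],
  [2, 2],
  [3, 3],
  [4, 4],
  [5, 5],
  [0, 1, 0, 1],
  [0, 2, 0, 2, 0, 2],
  [0, 3, 0, 3],
  [0, 4, 0, 4],
  [0, 5, 0, 5],
  [1, 2, 1, 2],
  [1, 3, 1, 3, 1, 3],
  [1, 4, 1, 4],
  [1, 5, 1, 5],
  [2, 3, 2, 3, 2, 3],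
  [2, 4, 2, 4],
  [2, 5, 2, 5],
  [3, 4, 3, 4, 3, 4],
  [3, 5, 3, 5],
  [4, 5, 4, 5, 4, 5]]
def subsW : List (List (Fin 6)) := [[0], [1], [2], [3], [4]]
def par : Par (Fin 6) := { nets := nets, idx := idx, letters := lettersW, rels := relsW, subs := subsW, n := 27, N := 32, P := 5, full := 2 ^ 27 - 1 }
def tree : List (Fin 6) := [5, 4, 3, 1, 2, 3, 4, 5, 0, 2, 3, 4, 1, 3, 2, 0]
def stepsA_0 : List (StepA (Fin 6)) := [.z 8 0, .z 9 0, .z 10 0, .z 11 1, .z 13 0, .z 16 0, .z 17 0, .z 19 0, .z 6 0, .z 14 0, .nc 0 0, .pc 10 3 1 2, .pc 9 3 1 3, .pc 8 3 1 2, .pc 6 3 1 3, .pc 7 4 2 3, .pc 7 4 2 2, .pc 15 4 2 3, .pc 18 4 2 2, .pc 13 2 1 3, .pc 20 2 2 3, .pc 20 2 2 2, .pc 19 2 1 3, .pc 17 2 1 2, .pc 10 2 1 3, .nc 0 3, .pc 7 0 2 4, .pc 8 3 1 4, .pc 10 3 1 4, .pc 9 3 1 5, .pc 17 3 1 5, .pc 6 3 1 5, .pc 10 3 1 5, .pc 6 3 1 4, .pc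 7 0 2 4, .pc 8 3 1 5, .pc 15 0 2 5, .pc 7 4 2 4, .pc 12 1 2 4, .pc 13 1 1 5, .pc 14 1 1 4, .nc 1 1, .pc 6 2 1 6, .pc 14 3 1 6, .pc 11 3 1 7, .pc 14 3 1 7, .pc 13 1 1 7, .pc 12 4 2 6, .pc 14 3 1 6, .pc 13 1 1 6, .pc 12 4 2 7, .pc 18 4 2 7, .pc 15 1 2 7, .pc 13 1 1 7, .pc 16 2 1 6, .pc 16 1 1 6, .pc 9 2 1 7, .pc 17 1 1 7, .nc 1 8, .pc 11 3 1 8, .pc 12 0 2 8, .pc 6 2 1 9, .pc 18 0 2 9, .pc 16 0 1 8, .pc 20 4 2 8, .pc 9 0 1 9, .pc 20 4 2 9, .pc 20 4 2 8, .pc 19 0 1 8, .pc 19 0 1 9, .pc 14 0 1 9, .pc 14 0 1 8, .pc 17 0 1 8, .pc 17 0 1 9, .pc 19 0 1 8, .pc 20 1 2 9, .nc 2 4, .pc 11 2 1 10, .pc 15 0 2 10, .pc 16 3 1 10, .pc 17 3 1 10, .pc 11 2 1 11, .pc 8 0 1 11, .pc 19 3 1 11, .pc 15 4 2 10, .pc 19 3 1 10, .pc 18 0 2 10, .pc 8 2 1 11, .pc 18 0 2 11, .pc 13 0 1 11, .pc 13 0 1 10, .pc 16 0 1 10, .pc 16 0 1 11, .pc 18 1 2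 10, .pc 19 1 1 11, .xs 0 [2], .xs 1 [5], .xs 2 [6], .xs 3 [10], .xs 4 [8]]
def stepsA : List (StepA (Fin 6)) := stepsA_0
def AR_0 : List (List ℕ) := []
def ARc : List (List (List ℕ)) := [AR_0]
def AR : List (List ℕ) := ARc.flatten
def AS_0 : List (List ℕ) := [[2], [5], [6], [10], [8]]
def AS : List (List ℕ) := AS_0
def defsB_0 : List (ℕ × ℕ) := []
def defsB : List (ℕ × ℕ) := defsB_0
def stepsB_0 : List (StepB) := [.s 0 0, .s 1 0, .s 2 0, .s 3 0, .s 4 0]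
def stepsB : List (StepB) := stepsB_0
def parB : ParB := { wd := 2, NL := 12, fuel := 64, AR := ARc, AS := AS, defs := defsB }

end Cfsg.Agent.Lib.Helper13.CoxE6
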