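import Cfsg.Agent.Lib.Helper13.CoxE8A
import Cfsg.Agent.Lib.Helper13.CoxE7A
import Cfsg.Agent.Lib.Helper13.CoxE6A
import Cfsg.Agent.Lib.Helper13.CoxD5A

set_option autoImplicit false

/-!
The orders of the Coxeter groups of type `E₆`, `E₇`, `E₈` (Mathlib's presented groups), and a
faithful permutation representation of each of them on the 240 cosets of `W(E₇)` in `W(E₈)`.
-/

namespace Cfsg.Agent.Lib.Helper13.CE

set_option backward.isDefEq.respectTransparency false in
/-- The Coxeter matrix of type D₅ (the first five nodes of Mathlib's `E₈`). -/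
def coxD5 : CoxeterMatrix (Fin 5) where
  M := !![1, 2, 3, 2, 2;
          2, 1, 2, 3, 2;
          3, 2, 1, 3, 2;
          2, 3, 3, 1, 3;
          2, 2, 2, 3, 1]

set_option backward.isDefEq.respectTransparency false in
theorem he56 : ∀ (i j : Fin 5), coxD5 i j =
    CoxeterMatrix.E₆ (Fin.castLE (by norm_num) i) (Fin.castLE (by norm_num) j) := by decide

set_option backward.isDefEq.respectTransparency false in
theorem he67 : ∀ (i j : Fin 6), CoxeterMatrix.E₆ i j =
    CoxeterMatrix.E₇ (Fin.castLE (by norm_num) i) (Fin.castLE (by norm_num) j) := by decide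

set_option backward.isDefEq.respectTransparency false in
theorem he78 : ∀ (i j : Fin 7), CoxeterMatrix.E₇ i j =
    CoxeterMatrix.E₈ (Fin.castLE (by norm_num) i) (Fin.castLE (by norm_num) j) := by decide

set_option backward.isDefEq.respectTransparency false in
theorem he68 : ∀ (i j : Fin 6), CoxeterMatrix.E₆ i j =
    CoxeterMatrix.E₈ (Fin.castLE (by norm_num) i) (Fin.castLE (by norm_num) j) := by decide

theorem card_coxD5 : Nat.card coxD5.Group = 1920 := by
  obtain ⟨X, f, -, -, -⟩ := coxmat_main coxD5 1920 11 CoxD5.par (by decide)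
    Fin.val_injective (by decide) CoxD5.hstat 5 CoxD5.tree CoxD5.stepsA CoxD5.parB CoxD5.stepsB 1
    CoxD5.hA rfl CoxD5.hB
  exact card_of_equiv_bot _ (closure_subs_nil _) f

instance finite_coxD5 : Finite coxD5.Group :=
  Nat.finite_of_card_ne_zero (by rw [card_coxD5]; norm_num)

theorem e6_le : Finite CoxeterMatrix.E₆.Group ∧ Nat.card CoxeterMatrix.E₆.Group ≤ 51840 := by
  obtain ⟨X, f, -, -, -⟩ := coxmat_main CoxeterMatrix.E₆ 27 5 CoxE6.par (by decide)
    Fin.val_injective (by decide) CoxE6.hstat 6 CoxE6.tree CoxE6.stepsA CoxE6.parB CoxE6.stepsB 6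
    CoxE6.hA rfl CoxE6.hB
  have h := card_le_mul_of_sub CoxeterMatrix.E₆ coxD5 (Fin.castLE (by norm_num)) he56
    CoxE6.par.subs (by decide) 27 f
  rw [card_coxD5] at h
  exact h

instance finite_E6 : Finite CoxeterMatrix.E₆.Group := e6_le.1

theorem e7_le : Finite CoxeterMatrix.E₇.Group ∧ Nat.card CoxeterMatrix.E₇.Group ≤ 2903040 := by
  obtain ⟨X, f, -, -, -⟩ := coxmat_main CoxeterMatrix.E₇ 56 6 CoxE7.par (by decide)
    Fin.val_injective (by decide) CoxE7.hstat 7 CoxE7.tree CoxE7.stepsA CoxE7.parB CoxE7.stepsB 7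
    CoxE7.hA rfl CoxE7.hB
  have h := card_le_mul_of_sub CoxeterMatrix.E₇ CoxeterMatrix.E₆ (Fin.castLE (by norm_num))
    he67 CoxE7.par.subs (by decide) 56 f
  refine ⟨h.1, le_trans h.2 ?_⟩
  have := e6_le.2
  omega

instance finite_E7 : Finite CoxeterMatrix.E₇.Group := e7_le.1

/-- the action of `W(E₈)` on 240 points given by the certificate. -/
theorem e8_act : ∃ (X : Act (Fin 8) CoxeterMatrix.E₈.Group 240 8)
    (f : CoxeterMatrix.E₈.Group ⧸ Subgroup.closure
      {g | ∃ W ∈ CoxE8.par.subs, g = (W.map CoxeterMatrix.E₈.simple).prod} ≃ Fin 240),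
    X.nets = CoxE8.par.nets ∧ X.s = CoxeterMatrix.E₈.simple ∧
      (∀ g, f (QuotientGroup.mk g) = X.φ g 0) :=
  coxmat_main CoxeterMatrix.E₈ 240 8 CoxE8.par (by decide)
    Fin.val_injective (by decide) CoxE8.hstat 8 CoxE8.tree CoxE8.stepsA CoxE8.parB CoxE8.stepsB 8
    CoxE8.hA rfl CoxE8.hB

theorem e8_le : Finite CoxeterMatrix.E₈.Group ∧ Nat.card CoxeterMatrix.E₈.Group ≤ 696729600 := by
  obtain ⟨X, f, -, -, -⟩ := e8_act
  have h := card_le_mul_of_sub CoxeterMatrix.E₈ CoxeterMatrix.E₇ (Fin.castLE (by norm_num))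
    he78 CoxE8.par.subs (by decide) 240 f
  refine ⟨h.1, le_trans h.2 ?_⟩
  have := e7_le.2
  omega

instance finite_E8 : Finite CoxeterMatrix.E₈.Group := e8_le.1

theorem hchain7 : chainOK CoxE8.nets 240 CoxE8.gens8 7 CoxE8.levels.tail = true := by
  decide +kernel

theorem hchain6 : chainOK CoxE8.nets 240 CoxE8.gens8 6 CoxE8.levels.tail.tail = true := by
  decide +kernel

/-- a Coxeter group of a sub-diagram of `E₈` whose order is at most the order of the group
generated by the corresponding reflections in the action embeds, and has exactly that order. -/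
theorem sub_embeds {n k : ℕ} {B B' : Type} (M : CoxeterMatrix B) (M' : CoxeterMatrix B')
    [Finite M'.Group] (e : B' → B) (he : ∀ i j, M' i j = M (e i) (e j))
    (X : Act B M.Group n k) (hs : X.s = M.simple) (gens : List B) (j : ℕ)
    (hg : ∀ x ∈ gens.take j, ∃ i, x = e i) (lv : List (ℕ × List ℕ × ℕ))
    (hchain : chainOK X.nets n gens j lv = true) (N : ℕ) (hN : Nat.card M'.Group ≤ N)
    (hprod : N ≤ (lv.map (fun l => l.2.2)).prod) :
    Function.Injective (X.φ.comp (coxHom M M' e he)) ∧ Nat.card M'.Group = N := by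
  let θ : M'.Group →* X.φ.range := X.φ.rangeRestrict.comp (coxHom M M' e he)
  have hK : X.toRange.sub (gens.take j) ≤ θ.range := by
    unfold Act.sub
    rw [Subgroup.closure_le]
    rintro y ⟨x, hx, rfl⟩
    obtain ⟨i, rfl⟩ := hg x hx
    refine ⟨M'.simple i, ?_⟩
    apply Subtype.ext
    show X.φ (coxHom M M' e he (M'.simple i)) = X.φ (X.s (e i))
    rw [coxHom_simple, hs]
  have h1 : (lv.map (fun l => l.2.2)).prod ≤ Nat.card (X.toRange.sub (gens.take j)) :=
    X.toRange.chain_sound gens j lv hchain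
  have h2 := inj_of_card θ _ hK (le_trans hN (le_trans hprod h1))
  refine ⟨?_, ?_⟩
  · intro a a' h
    apply h2.1
    exact Subtype.ext h
  · have := h2.2
    omega

/-- the orders of `W(E₆)`, `W(E₇)`, `W(E₈)`, and faithful actions of all three on 240 points. -/
theorem e8_faithful : ∃ (X : Act (Fin 8) CoxeterMatrix.E₈.Group 240 8),
    X.nets = CoxE8.par.nets ∧ X.s = CoxeterMatrix.E₈.simple ∧
    (Function.Injective (X.φ.comp (coxHom CoxeterMatrix.E₈ CoxeterMatrix.E₈ id (fun _ _ => rfl))) ∧
      Nat.card CoxeterMatrix.E₈.Group = 696729600) ∧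
    (Function.Injective (X.φ.comp (coxHom CoxeterMatrix.E₈ CoxeterMatrix.E₇
      (Fin.castLE (by norm_num)) he78)) ∧ Nat.card CoxeterMatrix.E₇.Group = 2903040) ∧
    (Function.Injective (X.φ.comp (coxHom CoxeterMatrix.E₈ CoxeterMatrix.E₆
      (Fin.castLE (by norm_num)) he68)) ∧ Nat.card CoxeterMatrix.E₆.Group = 51840) := by
  obtain ⟨X, f, hnets, hs, -⟩ := e8_act
  refine ⟨X, hnets, hs, ?_, ?_, ?_⟩
  · exact sub_embeds CoxeterMatrix.E₈ CoxeterMatrix.E₈ id (fun _ _ => rfl) X hs CoxE8.gens8 8
      (fun x _ => ⟨x, rfl⟩) CoxE8.levels (by rw [hnets]; exact CoxE8.hchain) 696729600 e8_le.2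
      (by decide +kernel)
  · exact sub_embeds CoxeterMatrix.E₈ CoxeterMatrix.E₇ (Fin.castLE (by norm_num)) he78 X hs
      CoxE8.gens8 7 (by decide) CoxE8.levels.tail (by rw [hnets]; exact hchain7) 2903040 e7_le.2
      (by decide +kernel)
  · exact sub_embeds CoxeterMatrix.E₈ CoxeterMatrix.E₆ (Fin.castLE (by norm_num)) he68 X hs
      CoxE8.gens8 6 (by decide) CoxE8.levels.tail.tail (by rw [hnets]; exact hchain6) 51840
      e6_le.2 (by decide +kernel)

theorem card_E6 : Nat.card CoxeterMatrix.E₆.Group = 51840 := by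
  obtain ⟨X, -, -, -, -, h⟩ := e8_faithful
  exact h.2

theorem card_E7 : Nat.card CoxeterMatrix.E₇.Group = 2903040 := by
  obtain ⟨X, -, -, -, h, -⟩ := e8_faithful
  exact h.2

theorem card_E8 : Nat.card CoxeterMatrix.E₈.Group = 696729600 := by
  obtain ⟨X, -, -, h, -, -⟩ := e8_faithful
  exact h.2

/-! ### orders of elements given by words -/

/-- the order of a product of simple reflections, in a faithful action. -/
theorem orderOf_cox_direct {B : Type} {n k : ℕ} (M : CoxeterMatrix B) (X : Act B M.Group n k)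
    (hs : X.s = M.simple) (hinj : Function.Injective X.φ) (W : List B) (h : ℕ) (hh : 0 < h)
    (h1 : relOK X.nets k ((List.replicate h W).flatten) = true) (j : Fin n)
    (h2 : ∀ m < h, 0 < m → (wpos X.nets W)^[m] j ≠ j) :
    orderOf (W.map M.simple).prod = h := by
  rw [← orderOf_injective X.φ hinj]
  have : (W.map M.simple).prod = X.ev W := by unfold Act.ev; rw [hs]
  rw [this]
  exact X.orderOf_φ_ev W h hh h1 j h2

/-- the order of a product of simple reflections of a sub-diagram, in a faithful action of the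
group of the sub-diagram through the group of the big diagram. -/
theorem orderOf_cox_sub {B B' : Type} {n k : ℕ} (M : CoxeterMatrix B) (M' : CoxeterMatrix B')
    (e : B' → B) (he : ∀ i j, M' i j = M (e i) (e j)) (X : Act B M.Group n k)
    (hs : X.s = M.simple) (hinj : Function.Injective (X.φ.comp (coxHom M M' e he)))
    (L : List B') (W : List B) (hW : L.map e = W) (h : ℕ) (hh : 0 < h)
    (h1 : relOK X.nets k ((List.replicate h W).flatten) = true) (j : Fin n)
    (h2 : ∀ m < h, 0 < m → (wpos X.nets W)^[m] j ≠ j) :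
    orderOf (L.map M'.simple).prod = h := by
  rw [← orderOf_injective _ hinj]
  have : (X.φ.comp (coxHom M M' e he)) (L.map M'.simple).prod = X.φ (X.ev W) := by
    subst hW
    rw [MonoidHom.comp_apply]
    congr 1
    rw [map_list_prod, List.map_map]
    unfold Act.ev
    rw [List.map_map, hs]
    congr 1
  rw [this]
  exact X.orderOf_φ_ev W h hh h1 j h2

end Cfsg.Agent.Lib.Helper13.CE
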