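import Mathlib

set_option autoImplicit false

/-!
Matrices of size seven over the integers modulo eleven given by tables of natural numbers: the
product of tables and of words of tables.
-/

namespace Cfsg.Agent.Lib.Helper13.F11M

/-- the entry of a table. -/
def ent (A : List (List ℕ)) (i j : ℕ) : ℕ := (A.getD i []).getD j 0

/-- the matrix of a table. -/
def matZ (A : List (List ℕ)) : Matrix (Fin 7) (Fin 7) (ZMod 11) :=
  fun i j => ((ent A i j : ℕ) : ZMod 11)

/-- the product of two tables. -/
def mulL (A B : List (List ℕ)) : List (List ℕ) :=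
  (List.range 7).map (fun i => (List.range 7).map (fun j =>
    (ent A i 0 * ent B 0 j + ent A i 1 * ent B 1 j + ent A i 2 * ent B 2 j
      + ent A i 3 * ent B 3 j + ent A i 4 * ent B 4 j + ent A i 5 * ent B 5 j
      + ent A i 6 * ent B 6 j) % 11))

theorem ent_mulL (A B : List (List ℕ)) (i j : Fin 7) :
    ent (mulL A B) i j =
      (ent A i 0 * ent B 0 j + ent A i 1 * ent B 1 j + ent A i 2 * ent B 2 j
      + ent A i 3 * ent B 3 j + ent A i 4 * ent B 4 j + ent A i 5 * ent B 5 j
      + ent A i 6 * ent B 6 j) % 11 := by
  fin_cases i <;> fin_cases j <;> rfl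

theorem matZ_mulL (A B : List (List ℕ)) : matZ (mulL A B) = matZ A * matZ B := by
  ext i j
  simp only [matZ, Matrix.mul_apply, Fin.sum_univ_seven]
  rw [ent_mulL, ZMod.natCast_mod]
  push_cast
  rfl

/-- the identity table. -/
def idL : List (List ℕ) :=
  (List.range 7).map (fun i => (List.range 7).map (fun j => if i = j then 1 else 0))

theorem matZ_idL : matZ idL = 1 := by
  ext i j
  fin_cases i <;> fin_cases j <;> decide

/-- the product of the tables of a word. -/
def prodL {α : Type} (tabs : α → List (List ℕ)) : List α → List (List ℕ)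
  | [] => idL
  | l :: W => mulL (tabs l) (prodL tabs W)

theorem matZ_prodL {α : Type} (tabs : α → List (List ℕ)) (W : List α) :
    matZ (prodL tabs W) = (W.map (fun l => matZ (tabs l))).prod := by
  induction W with
  | nil => simp [prodL, matZ_idL]
  | cons l W ih => rw [prodL, matZ_mulL, ih, List.map_cons, List.prod_cons]

theorem matZ_ne (A B : List (List ℕ)) (i j : Fin 7) (h : ent A i j % 11 ≠ ent B i j % 11) :
    matZ A ≠ matZ B := by
  intro e
  apply h
  have h1 := congrFun (congrFun e i) j
  unfold matZ at h1
  exact (ZMod.natCast_eq_natCast_iff' _ _ 11).mp h1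

end Cfsg.Agent.Lib.Helper13.F11M
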