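import Cfsg.Agent.Lib.Helper13.Fi22x14080Data
import Cfsg.Agent.Lib.Helper13.CosetCoxChain
import Cfsg.Agent.Lib.Helper13.Fi22x3510Data
set_option autoImplicit false
set_option maxRecDepth 100000

open Cfsg.Agent.Lib.Helper13.CE

namespace Cfsg.Agent.Lib.Helper13.Fi22S

def gens : List Cfsg.Spor.Fi22.Gen := [.f, .d, .g, .h, .i, .e, .c, .b, .a]
def levels : List (ℕ × List ℕ × ℕ) := [(0, [8, 7, 6, 1, 3, 4, 5, 0, 1, 2, 3, 5, 6, 7, 8, 0, 1, 3, 4, 5, 6, 7, 8, 0, 1, 2, 3, 4, 5, 6, 7, 8, 0, 1, 3, 4, 5, 6, 7, 0, 1, 2, 3, 4, 5, 6, 7, 0, 1, 2, 3, 5, 6, 0], 14080),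
  (1, [7, 6, 1, 3, 4, 5, 0, 1, 2, 3, 5, 6, 7, 0, 1, 3, 4, 5, 6, 7, 0, 1, 2, 3, 4, 5, 6, 7, 0, 1, 2, 3, 4, 5, 6, 0, 1, 2, 5], 3159),
  (2, [6, 1, 3, 4, 5, 0, 1, 2, 3, 5, 6, 0, 1, 3, 4, 5, 6, 0, 1, 2, 3, 4, 5, 6, 0, 1, 5, 6], 288),
  (150, [5, 0, 1, 2, 3, 4, 5, 0, 1, 3, 5, 1], 35),
  (9, [4, 3, 1], 4),
  (6, [3, 1], 3),
  (10, [2, 0], 3),
  (3, [1], 2),
  (5, [0], 2)]
def Tw : List Cfsg.Spor.Fi22.Gen := [.a]
def conjW : Cfsg.Spor.Fi22.Gen → List Cfsg.Spor.Fi22.Gen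
  | .a => []
  | .b => [.a, .b]
  | .c => [.b, .c, .a, .b]
  | .d => [.c, .d, .b, .c, .a, .b]
  | .e => [.d, .e, .c, .d, .b, .c, .a, .b]
  | .f => [.e, .f, .d, .e, .c, .d, .b, .c, .a, .b]
  | .g => [.f, .g, .e, .f, .d, .e, .c, .d, .b, .c, .a, .b]
  | .h => [.d, .h, .c, .d, .b, .c, .a, .b]
  | .i => [.h, .i, .d, .h, .c, .d, .b, .c, .a, .b]
def W0 : List Cfsg.Spor.Fi22.Gen := [.a, .b, .c, .d, .e, .f, .h, .a, .b, .c, .d, .e, .f, .h, .a, .b, .c, .d, .e, .f, .h, .a, .b, .c, .d, .e, .f, .h, .a, .b, .c, .d, .e, .f, .h, .a, .b, .c, .d, .e, .f, .h, .a, .b, .c, .d, .e, .f, .h, .a, .b, .c, .d, .e, .f, .h, .a, .b, .c, .d, .e, .f, .h]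
def Smask : ℕ := 0x3ffffffffffffffffffffffffffffffffffffffffffffffffffffffffffffffffffffffffffffffffffffffffffffffffffffffffffffffffffffffffffffffffffffffffffffffffffffffffffffffffffffffffffffffffffffffffffffffeb3fffffffffffffffffffffffbffffffffffefffffffffffffffffffffffffffffffffffff7fffffc77ffffffefffe8fff4fffd39fffffbfffffffffffffffffdfffffbfffffffffffffffffffffffffffffffffffffff7ffdf9cebfe9fffd1ffa7fb9fdf33fffff7fffffffffffffffffff3fffffffffffffffffffffffffffffeff9dd6cfe3ff4f73f5db95ffffeffffffffffffffc7ffffffffffffffffffffffe7e69b8ffc7b3af9a54fffe7fffffffffcfffffffffffffffffede24c3ffc6bcd137ff5fffffff7ffffbffffffffd70487fefccd0afebffffffffdfffff9800fdf94279ffffffbfff0003dfa067fff8fe006f05fcf1c0cb8f3233646c7357ffffffdfffffffffffff7ffffffffffffffffff7fffffffffffffffffdfffffffffffffffe7ffffffffffffff6ffffffffdffffffffebffffffffffdfffff9ffffffffffdfff4fffffbffd7f3ffbbde73753652240001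
def qpt : ℕ := 1

end Cfsg.Agent.Lib.Helper13.Fi22S
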