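import Cfsg.Agent.Lib.Helper13.Fi23SChk0
import Cfsg.Agent.Lib.Helper13.Fi23SChk1
import Cfsg.Agent.Lib.Helper13.Fi23SChk2
import Cfsg.Agent.Lib.Helper13.Fi23SChk3
import Cfsg.Agent.Lib.Helper13.Fi23SChk4
import Cfsg.Agent.Lib.Helper13.Fi23SChk5
import Cfsg.Agent.Lib.Helper13.Fi23SChk6
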