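import Mathlib
set_option autoImplicit false

/-!
Data for the centraliser of a transvection of `SL(5, 2)`: seven involutions generating it,
relator words that they satisfy, and transversal words for a chain of stabilisers of the vectors
`e₁`, `e₁ + e₂`, `e₁ + e₃`, `e₁ + e₄` (orbit lengths 16, 14, 12, 8).
-/

namespace Cfsg.Agent.Lib.Helper13.HCT

/-- the seven matrices. -/
def mraw : Fin 7 → Matrix (Fin 5) (Fin 5) (ZMod 2) :=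
  ![!![1, 0, 0, 0, 1; 0, 1, 0, 0, 0; 0, 1, 1, 0, 0; 0, 0, 0, 1, 0; 0, 0, 0, 0, 1],
    !![1, 1, 0, 0, 0; 0, 1, 0, 0, 0; 0, 1, 0, 0, 1; 0, 1, 1, 1, 1; 0, 1, 1, 0, 0],
    !![1, 1, 0, 0, 0; 0, 1, 0, 0, 0; 0, 0, 1, 0, 1; 0, 0, 0, 1, 0; 0, 0, 0, 0, 1],
    !![1, 0, 0, 0, 0; 0, 1, 0, 0, 0; 0, 0, 1, 0, 0; 0, 1, 0, 1, 0; 0, 0, 0, 0, 1],
    !![1, 0, 0, 1, 1; 0, 1, 0, 0, 0; 0, 0, 1, 0, 0; 0, 0, 0, 1, 0; 0, 0, 0, 0, 1],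
    !![1, 1, 0, 0, 1; 0, 1, 0, 0, 0; 0, 0, 1, 0, 1; 0, 0, 0, 1, 1; 0, 0, 0, 0, 1],
    !![1, 1, 0, 0, 0; 0, 1, 0, 0, 0; 0, 1, 1, 1, 0; 0, 0, 0, 1, 0; 0, 0, 0, 0, 1]]

/-- the relator words: a word `[i₁, …, iₖ]` stands for the product `m i₁ * ⋯ * m iₖ`. -/
def relW : List (List (Fin 7)) :=
  [[0, 0],
   [1, 1],
   [2, 2],
   [3, 3],
   [4, 4],
   [5, 5],
   [6, 6],
   [0, 1, 0, 1, 0, 1, 0, 1],
   [0, 2, 0, 2],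
   [0, 3, 0, 3],
   [0, 4, 0, 4],
   [0, 5, 0, 5],
   [0, 6, 0, 6],
   [1, 2, 1, 2, 1, 2],
   [1, 3, 1, 3],
   [1, 4, 1, 4],
   [1, 5, 1, 5, 1, 5],
   [1, 6, 1, 6, 1, 6],
   [2, 3, 2, 3],
   [2, 4, 2, 4],
   [2, 5, 2, 5],
   [2, 6, 2, 6],
   [3, 4, 3, 4, 3, 4, 3, 4],
   [3, 5, 3, 5],
   [3, 6, 3, 6, 3, 6, 3, 6],
   [4, 5, 4, 5, 4, 5, 4, 5],
   [4, 6, 4, 6],
   [5, 6, 5, 6, 5, 6, 5, 6],
   [4, 5, 4, 3, 4, 5, 4, 3],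
   [4, 5, 4, 5, 6, 3, 6, 3, 0],
   [5, 1, 0, 1, 5, 3, 1, 0, 1, 0],
   [6, 1, 0, 1, 6, 4, 1, 0, 1, 0],
   [4, 6, 3, 5, 6, 4, 5, 3, 2, 0]]

/-- the base vectors of the chain. -/
def baseV : Fin 4 → Fin 5 → ZMod 2 :=
  ![![0, 1, 0, 0, 0], ![0, 1, 1, 0, 0], ![0, 1, 0, 1, 0], ![0, 1, 0, 0, 1]]

/-- transversal words of level 0: they fix the earlier base vectors and move base vector 0 to
16 different vectors. -/
def lv0 : List (List (Fin 7)) :=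
  [[],
   [2],
   [0],
   [6],
   [3],
   [3, 2],
   [3, 0],
   [3, 6],
   [3, 0, 1],
   [5, 1],
   [5, 0, 1],
   [3, 1],
   [0, 1],
   [1, 0, 1],
   [6, 1],
   [1]]

/-- transversal words of level 1: they fix the earlier base vectors and move base vector 1 to
14 different vectors. -/
def lv1 : List (List (Fin 7)) :=
  [[],
   [2, 1, 6, 2, 0, 1],
   [4, 3, 6, 1, 5, 2, 1],
   [3, 6, 1, 5, 2, 1],
   [1, 5, 3, 6, 0, 1],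
   [0, 1, 5, 2, 1, 0],
   [4, 5, 1, 6, 1],
   [5, 1, 6, 1],
   [5, 0, 1, 0],
   [6, 5, 1, 6],
   [2, 1, 6, 1],
   [0, 1, 6],
   [6, 1, 0],
   [2, 0, 1, 0]]

/-- transversal words of level 2: they fix the earlier base vectors and move base vector 2 to
12 different vectors. -/
def lv2 : List (List (Fin 7)) :=
  [[],
   [4],
   [6, 2, 0],
   [6, 4, 2, 0],
   [3, 1, 6, 3, 2, 1],
   [4, 3, 1, 6, 3, 2, 1],
   [3, 2, 1, 6, 3, 1, 2, 1],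
   [2, 1, 5, 6, 4, 5, 0, 1],
   [6, 5, 3, 0, 1, 6, 3, 2, 1],
   [5, 3, 2, 1, 6, 3, 2, 1],
   [1, 5, 1, 6, 4, 5, 0, 1],
   [5, 3, 1, 6, 3, 1, 2, 1]]

/-- transversal words of level 3: they fix the earlier base vectors and move base vector 3 to
8 different vectors. -/
def lv3 : List (List (Fin 7)) :=
  [[],
   [5, 4, 5, 4],
   [6, 5, 6, 5],
   [6, 5, 6, 4, 5, 4],
   [4, 5, 4, 2],
   [5, 2],
   [4, 5, 3, 4, 3],
   [6, 5, 6, 2]]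

end Cfsg.Agent.Lib.Helper13.HCT
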