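import Cfsg.Agent.Lib.Helper13.HeKA0
import Cfsg.Agent.Lib.Helper13.HeKA1
import Cfsg.Agent.Lib.Helper13.HeKA2
import Cfsg.Agent.Lib.Helper13.HeKA3
import Cfsg.Agent.Lib.Helper13.HeKA4
import Cfsg.Agent.Lib.Helper13.HeKA5
import Cfsg.Agent.Lib.Helper13.HeKA6
import Cfsg.Agent.Lib.Helper13.HeKA7
import Cfsg.Agent.Lib.Helper13.HeKA8
import Cfsg.Agent.Lib.Helper13.HeKA9
import Cfsg.Agent.Lib.Helper13.HeKA10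
import Cfsg.Agent.Lib.Helper13.HeKA11
import Cfsg.Agent.Lib.Helper13.HeKA12
import Cfsg.Agent.Lib.Helper13.HeKA13
import Cfsg.Agent.Lib.Helper13.HeKA14
import Cfsg.Agent.Lib.Helper13.HeKA15
import Cfsg.Agent.Lib.Helper13.HeKA16
import Cfsg.Agent.Lib.Helper13.HeKA17
import Cfsg.Agent.Lib.Helper13.HeKA18
import Cfsg.Agent.Lib.Helper13.HeKA19
import Cfsg.Agent.Lib.Helper13.HeKA20
import Cfsg.Agent.Lib.Helper13.HeKA21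
import Cfsg.Agent.Lib.Helper13.HeKA22
import Cfsg.Agent.Lib.Helper13.HeKA23
import Cfsg.Agent.Lib.Helper13.HeKA24
import Cfsg.Agent.Lib.Helper13.HeKA25
import Cfsg.Agent.Lib.Helper13.HeKA26
import Cfsg.Agent.Lib.Helper13.HeKA27
import Cfsg.Agent.Lib.Helper13.HeKA28
import Cfsg.Agent.Lib.Helper13.HeKA29
import Cfsg.Agent.Lib.Helper13.HeKA30
import Cfsg.Agent.Lib.Helper13.HeKA31
import Cfsg.Agent.Lib.Helper13.HeKA32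
import Cfsg.Agent.Lib.Helper13.HeKA33
import Cfsg.Agent.Lib.Helper13.HeKA34
import Cfsg.Agent.Lib.Helper13.HeKA35
import Cfsg.Agent.Lib.Helper13.HeKA36
import Cfsg.Agent.Lib.Helper13.HeKA37
import Cfsg.Agent.Lib.Helper13.HeKA38
import Cfsg.Agent.Lib.Helper13.HeKA39
import Cfsg.Agent.Lib.Helper13.HeKA40
import Cfsg.Agent.Lib.Helper13.HeKA41
import Cfsg.Agent.Lib.Helper13.HeKA42
import Cfsg.Agent.Lib.Helper13.HeKA43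
import Cfsg.Agent.Lib.Helper13.HeKA44
import Cfsg.Agent.Lib.Helper13.HeKA45
import Cfsg.Agent.Lib.Helper13.HeKA46
import Cfsg.Agent.Lib.Helper13.HeKA47
import Cfsg.Agent.Lib.Helper13.HeKA48
import Cfsg.Agent.Lib.Helper13.HeKA49
import Cfsg.Agent.Lib.Helper13.HeKA50
import Cfsg.Agent.Lib.Helper13.HeKA51
import Cfsg.Agent.Lib.Helper13.HeKA52
import Cfsg.Agent.Lib.Helper13.HeKA53
import Cfsg.Agent.Lib.Helper13.HeKA54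
import Cfsg.Agent.Lib.Helper13.HeKA55
import Cfsg.Agent.Lib.Helper13.HeKA56
import Cfsg.Agent.Lib.Helper13.HeKA57
import Cfsg.Agent.Lib.Helper13.HeKA58
import Cfsg.Agent.Lib.Helper13.HeKA59
import Cfsg.Agent.Lib.Helper13.HeKA60
import Cfsg.Agent.Lib.Helper13.HeKA61
import Cfsg.Agent.Lib.Helper13.HeKA62
import Cfsg.Agent.Lib.Helper13.HeKA63
import Cfsg.Agent.Lib.Helper13.HeKA64
import Cfsg.Agent.Lib.Helper13.HeKA65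
import Cfsg.Agent.Lib.Helper13.HeKA66
import Cfsg.Agent.Lib.Helper13.HeKA67
set_option autoImplicit false
set_option maxRecDepth 100000

open Cfsg.Agent.Lib.Helper13.CE

namespace Cfsg.Agent.Lib.Helper13.HeK

theorem hT : treeOK HeJ.par 7 HeJ.tree Zs0 = true := by decide +kernel
theorem hcov : coverOK HeJ.par ⟨Zs1, Ls40, 9939, HeJ.parB.AR.flatten.reverse, HeJ.parB.AS.reverse⟩ = true := by decide +kernel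
theorem hrun : runA HeJ.par ⟨Zs0, List.replicate 7 0, 1, [], []⟩ stepsA = some ⟨Zs1, Ls40, 9939, HeJ.parB.AR.flatten.reverse, HeJ.parB.AS.reverse⟩ :=
  (runA_chunk_cons2 HeJ.par Zs0 (List.replicate 7 0) 1 sA0 _ Zs1 Ls1 65 _ _ _ hC0
    (runA_chunk_cons2 HeJ.par Zs1 Ls1 65 sA1 _ Zs1 Ls2 124 _ _ _ hC1
    (runA_chunk_cons2 HeJ.par Zs1 Ls2 124 sA2 _ Zs1 Ls3 212 _ _ _ hC2
    (runA_chunk_cons2 HeJ.par Zs1 Ls3 212 sA3 _ Zs1 Ls4 355 _ _ _ hC3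
    (runA_chunk_cons2 HeJ.par Zs1 Ls4 355 sA4 _ Zs1 Ls5 542 _ _ _ hC4
    (runA_chunk_cons2 HeJ.par Zs1 Ls5 542 sA5 _ Zs1 Ls6 684 _ _ _ hC5
    (runA_chunk_cons2 HeJ.par Zs1 Ls6 684 sA6 _ Zs1 Ls7 930 _ _ _ hC6
    (runA_chunk_cons2 HeJ.par Zs1 Ls7 930 sA7 _ Zs1 Ls8 1218 _ _ _ hC7
    (runA_chunk_cons2 HeJ.par Zs1 Ls8 1218 sA8 _ Zs1 Ls9 1415 _ _ _ hC8
    (runA_chunk_cons2 HeJ.par Zs1 Ls9 1415 sA9 _ Zs1 Ls10 1541 _ _ _ hC9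
    (runA_chunk_cons2 HeJ.par Zs1 Ls10 1541 sA10 _ Zs1 Ls11 1779 _ _ _ hC10
    (runA_chunk_cons2 HeJ.par Zs1 Ls11 1779 sA11 _ Zs1 Ls12 1939 _ _ _ hC11
    (runA_chunk_cons2 HeJ.par Zs1 Ls12 1939 sA12 _ Zs1 Ls13 2004 _ _ _ hC12
    (runA_chunk_cons2 HeJ.par Zs1 Ls13 2004 sA13 _ Zs1 Ls14 2147 _ _ _ hC13
    (runA_chunk_cons2 HeJ.par Zs1 Ls14 2147 sA14 _ Zs1 Ls15 2372 _ _ _ hC14
    (runA_chunk_cons2 HeJ.par Zs1 Ls15 2372 sA15 _ Zs1 Ls16 2814 _ _ _ hC15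
    (runA_chunk_cons2 HeJ.par Zs1 Ls16 2814 sA16 _ Zs1 Ls17 3346 _ _ _ hC16
    (runA_chunk_cons2 HeJ.par Zs1 Ls17 3346 sA17 _ Zs1 Ls18 3788 _ _ _ hC17
    (runA_chunk_cons2 HeJ.par Zs1 Ls18 3788 sA18 _ Zs1 Ls19 4077 _ _ _ hC18
    (runA_chunk_cons2 HeJ.par Zs1 Ls19 4077 sA19 _ Zs1 Ls20 4383 _ _ _ hC19
    (runA_chunk_cons2 HeJ.par Zs1 Ls20 4383 sA20 _ Zs1 Ls21 4606 _ _ _ hC20
    (runA_chunk_cons2 HeJ.par Zs1 Ls21 4606 sA21 _ Zs1 Ls22 4827 _ _ _ hC21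
    (runA_chunk_cons2 HeJ.par Zs1 Ls22 4827 sA22 _ Zs1 Ls23 5012 _ _ _ hC22
    (runA_chunk_cons2 HeJ.par Zs1 Ls23 5012 sA23 _ Zs1 Ls24 5234 _ _ _ hC23
    (runA_chunk_cons2 HeJ.par Zs1 Ls24 5234 sA24 _ Zs1 Ls25 5578 _ _ _ hC24
    (runA_chunk_cons2 HeJ.par Zs1 Ls25 5578 sA25 _ Zs1 Ls26 6075 _ _ _ hC25
    (runA_chunk_cons2 HeJ.par Zs1 Ls26 6075 sA26 _ Zs1 Ls27 6163 _ _ _ hC26
    (runA_chunk_cons2 HeJ.par Zs1 Ls27 6163 sA27 _ Zs1 Ls28 6377 _ _ _ hC27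
    (runA_chunk_cons2 HeJ.par Zs1 Ls28 6377 sA28 _ Zs1 Ls29 6616 _ _ _ hC28
    (runA_chunk_cons2 HeJ.par Zs1 Ls29 6616 sA29 _ Zs1 Ls30 6748 _ _ _ hC29
    (runA_chunk_cons2 HeJ.par Zs1 Ls30 6748 sA30 _ Zs1 Ls31 6876 _ _ _ hC30
    (runA_chunk_cons2 HeJ.par Zs1 Ls31 6876 sA31 _ Zs1 Ls32 7108 _ _ _ hC31
    (runA_chunk_cons2 HeJ.par Zs1 Ls32 7108 sA32 _ Zs1 Ls33 7316 _ _ _ hC32
    (runA_chunk_cons2 HeJ.par Zs1 Ls33 7316 sA33 _ Zs1 Ls34 7452 _ _ _ hC33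
    (runA_chunk_cons2 HeJ.par Zs1 Ls34 7452 sA34 _ Zs1 Ls35 7800 _ _ _ hC34
    (runA_chunk_cons2 HeJ.par Zs1 Ls35 7800 sA35 _ Zs1 Ls36 8272 _ _ _ hC35
    (runA_chunk_cons2 HeJ.par Zs1 Ls36 8272 sA36 _ Zs1 Ls37 8989 _ _ _ hC36
    (runA_chunk_cons2 HeJ.par Zs1 Ls37 8989 sA37 _ Zs1 Ls38 9288 _ _ _ hC37
    (runA_chunk_cons2 HeJ.par Zs1 Ls38 9288 sA38 _ Zs1 Ls39 9697 _ _ _ hC38
    (runA_chunk_cons2 HeJ.par Zs1 Ls39 9697 sA39 _ Zs1 Ls40 9939 _ _ _ hC39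
    (runA_chunk_cons2 HeJ.par Zs1 Ls40 9939 sA40 _ Zs1 Ls40 9939 _ _ _ hC40
    (runA_chunk_cons2 HeJ.par Zs1 Ls40 9939 sA41 _ Zs1 Ls40 9939 _ _ _ hC41
    (runA_chunk_cons2 HeJ.par Zs1 Ls40 9939 sA42 _ Zs1 Ls40 9939 _ _ _ hC42
    (runA_chunk_cons2 HeJ.par Zs1 Ls40 9939 sA43 _ Zs1 Ls40 9939 _ _ _ hC43
    (runA_chunk_cons2 HeJ.par Zs1 Ls40 9939 sA44 _ Zs1 Ls40 9939 _ _ _ hC44
    (runA_chunk_cons2 HeJ.par Zs1 Ls40 9939 sA45 _ Zs1 Ls40 9939 _ _ _ hC45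
    (runA_chunk_cons2 HeJ.par Zs1 Ls40 9939 sA46 _ Zs1 Ls40 9939 _ _ _ hC46
    (runA_chunk_cons2 HeJ.par Zs1 Ls40 9939 sA47 _ Zs1 Ls40 9939 _ _ _ hC47
    (runA_chunk_cons2 HeJ.par Zs1 Ls40 9939 sA48 _ Zs1 Ls40 9939 _ _ _ hC48
    (runA_chunk_cons2 HeJ.par Zs1 Ls40 9939 sA49 _ Zs1 Ls40 9939 _ _ _ hC49
    (runA_chunk_cons2 HeJ.par Zs1 Ls40 9939 sA50 _ Zs1 Ls40 9939 _ _ _ hC50
    (runA_chunk_cons2 HeJ.par Zs1 Ls40 9939 sA51 _ Zs1 Ls40 9939 _ _ _ hC51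
    (runA_chunk_cons2 HeJ.par Zs1 Ls40 9939 sA52 _ Zs1 Ls40 9939 _ _ _ hC52
    (runA_chunk_cons2 HeJ.par Zs1 Ls40 9939 sA53 _ Zs1 Ls40 9939 _ _ _ hC53
    (runA_chunk_cons2 HeJ.par Zs1 Ls40 9939 sA54 _ Zs1 Ls40 9939 _ _ _ hC54
    (runA_chunk_cons2 HeJ.par Zs1 Ls40 9939 sA55 _ Zs1 Ls40 9939 _ _ _ hC55
    (runA_chunk_cons2 HeJ.par Zs1 Ls40 9939 sA56 _ Zs1 Ls40 9939 _ _ _ hC56
    (runA_chunk_cons2 HeJ.par Zs1 Ls40 9939 sA57 _ Zs1 Ls40 9939 _ _ _ hC57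
    (runA_chunk_cons2 HeJ.par Zs1 Ls40 9939 sA58 _ Zs1 Ls40 9939 _ _ _ hC58
    (runA_chunk_cons2 HeJ.par Zs1 Ls40 9939 sA59 _ Zs1 Ls40 9939 _ _ _ hC59
    (runA_chunk_cons2 HeJ.par Zs1 Ls40 9939 sA60 _ Zs1 Ls40 9939 _ _ _ hC60
    (runA_chunk_cons2 HeJ.par Zs1 Ls40 9939 sA61 _ Zs1 Ls40 9939 _ _ _ hC61
    (runA_chunk_cons2 HeJ.par Zs1 Ls40 9939 sA62 _ Zs1 Ls40 9939 _ _ _ hC62
    (runA_chunk_cons2 HeJ.par Zs1 Ls40 9939 sA63 _ Zs1 Ls40 9939 _ _ _ hC63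
    (runA_chunk_cons2 HeJ.par Zs1 Ls40 9939 sA64 _ Zs1 Ls40 9939 _ _ _ hC64
    (runA_chunk_cons2 HeJ.par Zs1 Ls40 9939 sA65 _ Zs1 Ls40 9939 _ _ _ hC65
    (runA_chunk_cons2 HeJ.par Zs1 Ls40 9939 sA66 _ Zs1 Ls40 9939 _ _ _ hC66
    (runA_of_chunkOK HeJ.par Zs1 Ls40 9939 sA67 Zs1 Ls40 9939 _ _ hC67)))))))))))))))))))))))))))))))))))))))))))))))))))))))))))))))))))).trans
    (some_StA_eq _ _ _ _ _ _ rfl rfl rfl (by decide +kernel) (by decide +kernel))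
theorem hA : checkA HeJ.par 7 HeJ.tree stepsA HeJ.parB.AR.flatten HeJ.parB.AS 9939 = true :=
  checkA_of_parts HeJ.par 7 HeJ.tree stepsA _ _ 9939 Zs0 Zs1 Ls40 hT hrun hcov

end Cfsg.Agent.Lib.Helper13.HeK
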