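import Cfsg.Agent.Lib.Helper13.CosetY
set_option autoImplicit false
set_option maxRecDepth 100000

open Cfsg.Agent.Lib.Helper13.CE

namespace Cfsg.Agent.Lib.Helper13.HeQ0

def netL : List (List (ℕ × ℕ)) := [[(0x50505, 1), (0x12120, 2), (0xf0c, 4), (0x30030, 8), (0x300, 16), (0x30000, 8), (0x300, 4), (0x21210, 2), (0x5050, 1)],
  [(0x11110, 1), (0x20001, 2), (0xf0a, 4), (0x50050, 8), (0x500, 16), (0x50000, 8), (0x500, 4), (0x11110, 1)],
  [(0x44445, 1), (0x30303, 2), (0xf06, 4), (0x90090, 8), (0x900, 16), (0x90000, 8), (0x900, 4), (0x3030, 2), (0x11110, 1)]]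
def nets (i : Fin 3) : List (ℕ × ℕ) := netL.getD i.val []
def idx (i : Fin 3) : ℕ := i.val
def lettersW : List (Fin 3) := [0, 1, 2]
def relsW : List (List (Fin 3)) := [[0, 0],
  [1, 1],
  [2, 2],
  [0, 1, 0, 1, 0, 1, 0, 1, 0, 1, 0, 1, 0, 1, 0, 1, 0, 1, 0, 1],
  [0, 2, 0, 2],
  [1, 2, 1, 2],
  [2, 1, 0, 1, 0, 1, 0, 1, 0, 1, 0]]
def extraW : List (List (Fin 3)) := [[2, 1, 0, 1, 0, 1, 0, 1, 0, 1, 0]]
def subsW : List (List (Fin 3)) := []
def par : Par (Fin 3) := { nets := nets, idx := idx, letters := lettersW, rels := relsW, subs := subsW, n := 20, N := 32, P := 2, full := 2 ^ 20 - 1 }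
def tree : List (Fin 3) := [0, 1, 2, 0, 1, 0]
def sA0_0 : List (StepA (Fin 3)) := [.z 4 0, .z 4 1, .z 5 0, .z 5 1, .z 6 4, .z 4 0]
def sA0 : List (StepA (Fin 3)) := sA0_0
def sA1_0 : List (StepA (Fin 3)) := []
def sA1 : List (StepA (Fin 3)) := sA1_0
def stepsA : List (StepA (Fin 3)) := sA0 ++ (sA1)
def Zs0 : List ℕ := [0xfffd7, 0x2bd57, 0x2bf]
def Zs1 : List ℕ := [0xfffff, 0xfffff, 0xfffff]
def AR_0 : List (List ℕ) := []
def ARc : List (List (List ℕ)) := [AR_0]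
def AR : List (List ℕ) := ARc.flatten
def AS_0 : List (List ℕ) := []
def AS : List (List ℕ) := AS_0
def defsB_0 : List (ℕ × ℕ) := []
def defsB : List (ℕ × ℕ) := defsB_0
def stepsB_0 : List (StepB) := []
def stepsB : List (StepB) := stepsB_0
def parB : ParB := { wd := 2, NL := 2, fuel := 64, AR := ARc, AS := AS, defs := defsB }

end Cfsg.Agent.Lib.Helper13.HeQ0
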