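import Cfsg.Agent.Lib.Helper13.CosetY
set_option autoImplicit false
set_option maxRecDepth 100000

open Cfsg.Agent.Lib.Helper13.CE

namespace Cfsg.Agent.Lib.Helper13.HeQ1J

def netL : List (List (ℕ × ℕ)) := [[(0x1, 1)],
  [],
  [(0x1, 1)],
  [],
  [],
  []]
def nets (i : Fin 6) : List (ℕ × ℕ) := netL.getD i.val []
def idx (i : Fin 6) : ℕ := i.val
def lettersW : List (Fin 6) := [0, 1, 2, 3, 4, 5]
def relsW : List (List (Fin 6)) := [[0, 0],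
  [1, 1],
  [2, 2],
  [3, 3],
  [4, 4],
  [5, 5],
  [0, 1, 0, 1, 0, 1, 0, 1, 0, 1, 0, 1, 0, 1, 0, 1, 0, 1, 0, 1],
  [0, 2, 0, 2],
  [0, 3, 0, 3],
  [0, 4, 0, 4],
  [0, 5, 0, 5],
  [1, 2, 1, 2],
  [1, 3, 1, 3, 1, 3],
  [1, 4, 1, 4, 1, 4],
  [1, 5, 1, 5, 1, 5],
  [2, 3, 2, 3],
  [2, 4, 2, 4],
  [2, 5, 2, 5],
  [3, 4, 3, 4],
  [3, 5, 3, 5],
  [4, 5, 4, 5, 4, 5, 4, 5],
  [3, 5, 4, 5, 4],
  [2, 1, 0, 1, 0, 1, 0, 1, 0, 1, 0],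
  [0, 1, 4, 5, 0, 1, 4, 5, 0, 1, 4, 5, 0, 1, 4, 5]]
def extraW : List (List (Fin 6)) := [[3, 5, 4, 5, 4],
  [2, 1, 0, 1, 0, 1, 0, 1, 0, 1, 0],
  [0, 1, 4, 5, 0, 1, 4, 5, 0, 1, 4, 5, 0, 1, 4, 5]]
def subsW : List (List (Fin 6)) := [[1], [3], [4], [5], [0, 1, 0], [2, 0]]
def par : Par (Fin 6) := { nets := nets, idx := idx, letters := lettersW, rels := relsW, subs := subsW, n := 2, N := 2, P := 5, full := 2 ^ 2 - 1 }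
def tree : List (Fin 6) := [0]
def sA0_0 : List (StepA (Fin 6)) := [.nc 1 0, .nc 1 1, .nc 2 0, .nc 3 0, .pc 8 2 1 8, .nc 4 0, .pc 9 2 1 10, .nc 5 0, .pc 10 2 1 12]
def sA0 : List (StepA (Fin 6)) := sA0_0
def sA1_0 : List (StepA (Fin 6)) := [.xs 0 [2], .xs 1 [8], .xs 2 [10], .xs 3 [12], .xs 4 [0, 4, 0], .xs 5 [6, 0]]
def sA1 : List (StepA (Fin 6)) := sA1_0
def stepsA : List (StepA (Fin 6)) := sA0 ++ (sA1)
def Zs0 : List ℕ := [0x3, 0x0, 0x0, 0x0, 0x0, 0x0]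
def Ls1 : List ℕ := [0x0, 0x93, 0xfb, 0x30b, 0x33b, 0x3cb]
def AR_0 : List (List ℕ) := []
def ARc : List (List (List ℕ)) := [AR_0]
def AR : List (List ℕ) := ARc.flatten
def AS_0 : List (List ℕ) := [[2], [8], [10], [12], [4], [6]]
def AS : List (List ℕ) := AS_0
def defsB_0 : List (ℕ × ℕ) := []
def defsB : List (ℕ × ℕ) := defsB_0
def stepsB_0 : List (StepB) := [.s 0 0, .s 1 0, .s 2 0, .s 3 0, .s 4 0, .s 5 0]
def stepsB : List (StepB) := stepsB_0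
def parB : ParB := { wd := 2, NL := 14, fuel := 64, AR := ARc, AS := AS, defs := defsB }

end Cfsg.Agent.Lib.Helper13.HeQ1J
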