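import Cfsg.Agent.Lib.Helper13.J1xData
import Cfsg.Agent.Lib.Helper13.J1CData
set_option autoImplicit false
set_option maxRecDepth 100000

/-!
Three involutions of the presented group of order 175560, as words in its generators, which
centralise the first generator and satisfy the relators of the Coxeter group of type `H₃`; 120
words in them and 1463 conjugates of the first generator with pairwise different actions on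
three points.
-/

open Cfsg.Agent.Lib.Helper13.CE

namespace Cfsg.Agent.Lib.Helper13.J1Cn

/-- the words. -/
def iwL : List (List (Fin 4)) := [[2, 0, 1, 2, 3, 2, 1, 0, 2], [1, 2, 0, 1, 0, 2, 1], [0, 3, 0, 1, 0, 3]]

/-- the word of a generator. -/
def iw (x : Fin 3) : List (Fin 4) := iwL.getD x.val []

/-- the preimage of a set of points under a word. -/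
def S0 : ℕ := 57056941368364660647744921758324961363964757749797479465047900074789777051397051

def wcode (W : List (Fin 4)) : ℕ := wapply J1x.nets W S0 &&& (2 ^ 266 - 1)

/-- a list of numbers is strictly increasing. -/
def incr : List ℕ → Bool
  | [] => true
  | [_] => true
  | a :: b :: l => Nat.blt a b && incr (b :: l)

/-- words for the 120 elements. -/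
def cwL : List (List (Fin 3)) := [[2, 1, 0, 1, 2],
  [0, 2, 1, 0],
  [0, 1, 0, 2, 1, 0, 1],
  [0, 1, 0, 1, 0, 2, 1, 0, 1, 0],
  [1, 0, 2, 1, 0, 1, 2],
  [1, 2, 1, 0, 1, 2],
  [1, 0, 2, 1, 0, 1, 0, 2],
  [0, 1, 0, 2, 1, 0, 1, 0],
  [0, 1, 0, 1, 0, 2, 1, 0, 1],
  [0, 1, 0, 1, 0, 2, 1, 0, 1, 0, 2, 1, 0, 1],
  [1, 2],
  [2, 1, 0, 1, 0, 2],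
  [0, 2, 1, 0, 1, 0],
  [2, 1, 0, 1, 0, 2, 1, 0, 1, 2],
  [1, 0, 2, 1, 0, 1, 0, 2, 1, 0, 1, 2],
  [0, 1, 2, 1, 0, 1],
  [1, 0, 1, 2, 1, 0, 1],
  [1, 0],
  [1, 0, 2, 1],
  [0, 1, 0, 1, 2, 1],
  [0, 1, 0, 1, 0, 2, 1, 0, 1, 2],
  [0, 2, 1, 0, 1],
  [1, 0, 1, 2, 1, 0, 1, 0, 2, 1],
  [1, 0, 2, 1, 0, 1, 0, 2, 1, 0],
  [2, 1, 0, 1],
  [1, 0, 1, 0, 2, 1, 0, 1, 0, 2, 1, 0],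
  [0, 1, 0, 1, 2, 1, 0, 1, 2],
  [0, 1, 0, 2, 1, 0],
  [1, 0, 1, 0, 2, 1, 0, 1, 2],
  [1, 0, 1, 0, 2],
  [0, 1, 0, 1, 2, 1, 0, 1, 0],
  [0, 1, 2, 1, 0, 1, 0, 2],
  [2],
  [1, 0, 1],
  [1, 0, 1, 2, 1, 0, 1, 0, 2],
  [0, 1, 0, 1, 2, 1, 0, 1, 0, 2, 1, 0, 1],
  [1, 0, 2],
  [1, 0, 2, 1, 0, 1, 0, 2, 1],
  [0, 1],
  [1, 0, 1, 0, 2, 1, 0, 1, 0, 2, 1],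
  [1, 2, 1, 0],
  [1, 0, 1, 0, 2, 1, 0],
  [0, 1, 0],
  [0, 2, 1, 0, 1, 0, 2, 1],
  [0, 1, 0, 2, 1, 0, 1, 0, 2, 1, 0, 1],
  [1, 0, 1, 2, 1, 0, 1, 0, 2, 1, 0, 1, 2],
  [0, 2, 1, 0, 1, 0, 2, 1, 0, 1],
  [0, 1, 0, 1, 2, 1, 0, 1, 0, 2, 1],
  [0, 1, 2, 1, 0, 1, 0, 2, 1, 0, 1, 2],
  [0, 1, 0, 1, 0],
  [1, 0, 1, 0, 2, 1],
  [0, 1, 2, 1, 0, 1, 0, 2, 1],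
  [1, 0, 1, 2, 1, 0, 1, 2],
  [0],
  [2, 1],
  [0, 1, 0, 1, 2],
  [0, 1, 0, 1, 2, 1, 0, 1, 0, 2, 1, 0],
  [1, 0, 1, 2],
  [1, 2, 1, 0, 1, 0, 2, 1],
  [1, 0, 2, 1, 0, 1],
  [0, 1, 0, 1, 0, 2],
  [0, 1, 2, 1],
  [0, 1, 2, 1, 0, 1, 0, 2, 1, 0],
  [],
  [2, 1, 0, 1, 0, 2, 1, 0],
  [1, 0, 1, 0, 2, 1, 0, 1, 0, 2],
  [0, 1, 0, 2, 1, 0, 1, 0, 2, 1, 0],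
  [1, 0, 1, 0, 2, 1, 0, 1, 0, 2, 1, 0, 1, 2],
  [0, 1, 0, 1, 0, 2, 1],
  [0, 1, 2, 1, 0],
  [1, 0, 1, 2, 1],
  [0, 2, 1, 0, 1, 0, 2, 1, 0],
  [2, 1, 0, 1, 0],
  [0, 1, 2, 1, 0, 1, 0],
  [0, 1, 0, 1, 0, 2, 1, 0, 1, 0, 2, 1, 0, 1, 2],
  [0, 2, 1],
  [1, 0, 1, 2, 1, 0, 1, 0, 2, 1, 0],
  [1],
  [1, 2, 1, 0, 1, 0, 2],
  [1, 0, 2, 1, 0, 1, 0, 2, 1, 0, 1],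
  [0, 2, 1, 0, 1, 0, 2, 1, 0, 1, 2],
  [0, 1, 0, 1, 2, 1, 0, 1, 0, 2],
  [1, 0, 1, 0, 2, 1, 0, 1],
  [2, 1, 0, 1, 0, 2, 1],
  [0, 1, 0, 2, 1, 0, 1, 2],
  [1, 0, 2, 1, 0],
  [2, 1, 0],
  [0, 1, 0, 2, 1, 0, 1, 0, 2, 1],
  [0, 1, 0, 1, 2, 1, 0, 1, 0, 2, 1, 0, 1, 2],
  [0, 1, 0, 1, 2, 1, 0, 1],
  [0, 1, 2, 1, 0, 1, 2],
  [1, 0, 1, 0, 2, 1, 0, 1, 0],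
  [1, 0, 1, 2, 1, 0, 1, 0],
  [0, 1, 2, 1, 0, 1, 0, 2, 1, 0, 1],
  [0, 1, 0, 2, 1, 0, 1, 0, 2, 1, 0, 1, 2],
  [1, 2, 1],
  [0, 1, 0, 1, 0, 2, 1, 0, 1, 0, 2, 1, 0],
  [2, 1, 0, 1, 0, 2, 1, 0, 1],
  [1, 0, 1, 2, 1, 0],
  [0, 1, 0, 2, 1, 0, 1, 0, 2],
  [1, 2, 1, 0, 1, 0, 2, 1, 0],
  [0, 1, 0, 1, 0, 2, 1, 0, 1, 0, 2],
  [0, 1, 0, 2, 1],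
  [0, 1, 0, 1, 2, 1, 0],
  [1, 2, 1, 0, 1, 0],
  [1, 2, 1, 0, 1, 0, 2, 1, 0, 1],
  [1, 2, 1, 0, 1],
  [0, 1, 0, 1],
  [0, 2, 1, 0, 1, 0, 2],
  [1, 0, 1, 0],
  [1, 2, 1, 0, 1, 0, 2, 1, 0, 1, 2],
  [0, 1, 0, 1, 0, 2, 1, 0],
  [1, 0, 1, 0, 2, 1, 0, 1, 0, 2, 1, 0, 1],
  [0, 1, 2],
  [1, 0, 2, 1, 0, 1, 0],
  [1, 0, 1, 2, 1, 0, 1, 0, 2, 1, 0, 1],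
  [0, 2, 1, 0, 1, 2],
  [0, 1, 0, 1, 0, 2, 1, 0, 1, 0, 2, 1],
  [0, 1, 0, 2],
  [0, 2]]

/-- conjugating words for the 1463 conjugates. -/
def gwL : List (List (Fin 4)) := [[3, 0, 2, 1, 3, 2, 0],
  [2, 3, 0, 2],
  [1, 2, 3, 2, 3, 0, 1, 2],
  [1, 3, 0, 2, 3, 0, 2, 1],
  [1, 2, 3, 0, 2, 3],
  [3, 2, 3, 0, 1, 2],
  [3, 2, 0, 3, 0, 2, 3],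
  [1, 2, 3, 2, 3, 0, 1, 0, 1],
  [2, 3, 2, 0],
  [2, 1, 0, 1, 2, 1, 3],
  [1, 2, 0, 3, 0, 2, 0, 3, 0],
  [2, 1, 0, 2, 3, 2, 1, 0, 2],
  [1, 3, 2, 3, 2, 0, 3, 0, 1],
  [1, 2, 1, 3, 2, 1, 0],
  [1, 0, 2, 0, 1],
  [1, 2, 1, 3, 2, 1, 3],
  [1, 0, 1, 3, 2, 1, 0, 2, 3],
  [3, 2, 0, 1, 2, 3, 0, 2],
  [1, 0, 3, 0, 2, 0, 3, 0, 2],
  [1, 3, 0, 2, 3, 2, 0, 3],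
  [3, 2, 1, 0, 3],
  [1, 2, 3, 0, 2, 0, 1, 3],
  [1, 3, 2, 3, 2, 3, 2, 1],
  [1, 0, 2, 1, 0, 1, 2, 3],
  [2, 0, 1, 0, 3, 0, 2, 3],
  [2, 0, 1, 3, 2, 1, 0, 1, 0],
  [2, 1, 0, 1, 3, 0, 1, 0, 2],
  [1, 0, 2, 0, 1, 0, 2, 1],
  [1, 3, 0, 1, 2, 1, 3, 2, 0],
  [1, 2, 0, 3, 0, 2, 0, 3, 0, 1],
  [3, 2, 0, 1, 2, 3, 0, 1],
  [1, 2, 0, 3, 0, 2, 3],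
  [1, 0, 3, 2, 3, 2],
  [1, 0, 3, 2, 1],
  [2, 3, 0, 2, 0, 3, 2],
  [1, 0, 2, 0, 3, 2, 0, 1],
  [2, 3, 0, 2, 0, 1, 3, 0, 1],
  [3, 2, 1, 0, 2, 1, 3, 0, 2],
  [2, 3, 0, 2, 0, 1, 0, 3],
  [1, 2, 1, 3, 0, 2, 3, 2, 3],
  [2, 3, 0, 2, 1, 3, 2, 3],
  [1, 3, 0, 2],
  [3, 2, 3, 0, 1, 0, 3],
  [1, 0, 3, 0, 2, 0, 3, 0, 1, 2],
  [3, 2, 3, 2, 3, 2, 3, 0, 2],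
  [1, 3, 0],
  [1, 0, 2, 0, 1, 3, 0, 2, 3, 0, 2],
  [1, 2, 3, 2, 1, 3, 2, 1],
  [2, 0, 1, 0, 3, 0, 2, 0, 1],
  [3, 2, 3, 2, 3, 2, 3, 2, 3],
  [1, 0, 3, 2, 3, 2, 0, 1],
  [1, 3, 2, 1, 0, 2, 1, 0],
  [2, 3, 2, 1],
  [1, 2, 0, 3],
  [3, 2, 0, 3, 0, 2, 1, 0],
  [1, 2, 3, 2, 3, 2, 3, 2],
  [3, 2, 3, 2, 1, 0],
  [2, 1, 3, 0, 2, 0, 3, 2],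
  [2, 3, 0, 1, 0, 1, 2, 0],
  [2, 0, 1, 3, 0, 1, 0, 3],
  [1, 3, 0, 2, 3, 0],
  [3, 2, 3, 0, 2, 3, 0, 1],
  [1, 3, 0, 2, 1, 0, 2, 3],
  [1, 0, 3, 0, 2, 3, 2, 3],
  [2, 3, 0, 1, 0, 1, 3, 2, 1],
  [1, 2, 3, 2, 1, 0, 2, 3, 2, 1],
  [2, 1, 0, 1, 2, 3, 0],
  [2, 0, 1, 3, 0, 2, 0, 1],
  [1, 3, 0, 1, 2, 3, 2],
  [2, 0, 1, 0, 3, 0, 2, 3, 0],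
  [1, 0, 2, 1, 0, 3, 2, 3],
  [2, 3, 2, 0, 1, 0, 3, 0],
  [1, 2, 0, 3, 0, 2, 1, 3, 2],
  [1, 0, 2, 3, 2, 3, 2, 3, 0],
  [1, 2, 3, 2, 1, 3],
  [3, 0, 2, 1, 0, 2, 1, 0],
  [2, 0, 3, 2, 1, 0, 2, 1],
  [1, 3, 2, 1, 0, 1, 3],
  [1, 2, 3, 2, 3, 2, 3, 0],
  [2, 3],
  [2, 1, 0, 3, 0, 2, 1, 3, 2],
  [2, 0, 3, 2, 3, 2, 0, 1],
  [1, 0, 1, 2, 0, 1, 3, 0, 2],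
  [1, 0, 3, 2, 1, 3, 2, 0],
  [3, 0, 2, 3, 2, 1, 0, 1],
  [3, 2, 1, 0, 2, 3, 0, 1],
  [2, 1, 0, 2, 3],
  [2, 1, 3, 2, 3, 2, 1, 0],
  [3, 2, 3, 2, 3, 2, 0, 3],
  [1, 3, 2, 3, 2, 3, 0],
  [3, 2, 0, 1, 2, 0, 1, 0],
  [3, 0, 2, 1, 0, 2, 1, 0, 2],
  [1, 3, 0, 2, 0, 3, 0, 2, 0, 3],
  [1, 0, 2, 0, 1, 0, 3, 0],
  [1, 0, 1, 3],
  [1, 0, 2],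
  [3, 2, 3, 0, 1, 0, 1, 3],
  [1, 0, 3, 2, 1, 0, 1, 0],
  [1, 0, 2, 0, 1, 0, 1],
  [3, 2, 0, 1, 3, 0, 2, 3],
  [1, 0, 1, 3, 2, 1, 0, 1],
  [1, 2, 3, 0, 2, 0, 1, 2],
  [3, 2, 3, 0, 1, 0, 2],
  [1, 0, 3, 2, 0, 1, 0, 1, 0, 2],
  [2, 3, 2, 3, 0, 1, 0, 3],
  [3, 2, 3, 2, 0, 1, 0, 1],
  [1, 2, 0, 3, 0, 2, 3, 0, 1],
  [1, 0, 3, 0, 2],
  [2, 1, 3, 2, 3, 2, 0],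
  [2, 3, 0, 1, 0, 1, 3, 2, 3],
  [1, 2, 0, 3, 0, 1, 0, 1],
  [1, 0, 2, 0, 1, 3],
  [3, 2, 0, 1, 0, 3, 2],
  [2, 3, 0, 2, 0, 1, 2],
  [1, 3, 2, 0, 3, 0, 2],
  [2, 3, 0, 1, 0, 3, 2, 3, 2, 3],
  [1, 2, 3, 0, 1, 0, 2],
  [1, 2, 3, 2, 0, 3],
  [1, 0, 1, 3, 2, 3, 2, 0, 3],
  [3, 2, 0, 1, 3],
  [3, 2, 1, 0, 1, 3, 0],
  [1, 3, 0, 1, 2, 3, 2, 3, 2, 1],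
  [1, 0, 3, 0],
  [1, 3, 0, 2, 3, 0, 2, 0, 3],
  [1, 2, 0, 3, 0, 2, 0, 1, 3],
  [2, 0, 1, 3, 2, 1, 0, 2],
  [1, 0, 2, 1, 0, 1, 0, 2, 3, 2],
  [3, 2, 1, 3, 2, 1, 3, 2],
  [1, 2, 3, 0, 1, 0, 1, 2, 1],
  [1, 0, 3, 0, 2, 3, 2, 3, 2, 1],
  [1, 2, 0, 3, 0, 2, 0, 3],
  [2, 1, 0, 1, 2, 3, 2],
  [1, 0, 2, 0, 1, 0, 3, 0, 1],
  [1, 3, 2, 1, 0, 2, 1, 3],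
  [2, 1, 3, 0, 1, 0, 1, 2, 0],
  [3, 2, 3, 2, 3, 0, 2],
  [1, 0, 2, 3, 2, 0],
  [3, 2, 3, 2, 3, 0, 1, 2],
  [1, 0, 2, 1, 3, 2, 0],
  [1, 0, 3, 0, 2, 0, 3, 2],
  [3, 2, 3, 0, 2, 0],
  [3, 2, 1, 0, 1, 0, 3, 0],
  [3, 2, 0, 3, 0, 2, 3, 0],
  [2, 0, 3, 2, 1, 0, 1, 2, 1],
  [1, 2, 3, 2, 1, 0, 1, 2],
  [2, 0, 3, 2, 3, 2, 0],
  [1, 0, 1, 3, 2, 3],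
  [2, 0, 1, 0, 1, 2, 3, 2, 1],
  [1, 3, 2, 0, 3, 0],
  [1, 3, 2, 1, 3, 2, 1],
  [3, 2, 0, 1, 0, 2, 0],
  [2, 3, 0, 1, 2],
  [2, 0, 1, 0, 3, 0, 1, 2],
  [1, 2, 0, 3, 0, 1, 0, 3, 2],
  [2, 3, 0, 1, 2, 1, 0],
  [3, 2, 0, 1, 2, 3],
  [1, 3, 0, 1, 2, 1, 0, 2],
  [1, 0, 1, 3, 2, 3, 2, 3],
  [2, 1, 0, 1],
  [2, 3, 2, 1, 3, 2, 3, 0],
  [1, 2, 1, 3, 2, 1, 0, 1, 3],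
  [1, 0, 2, 1, 0, 1, 3],
  [2, 3, 0, 1, 0, 1, 2, 3],
  [1, 2, 3, 0, 2, 0, 3, 2, 0],
  [2, 1, 0, 2, 1, 3, 0, 2],
  [2, 1, 0, 3, 0, 1, 0],
  [1, 2, 1, 3, 2, 3, 2, 3, 2],
  [1, 2, 1, 3, 0, 2, 3, 0],
  [1],
  [2, 0, 3, 2, 1, 0, 2],
  [2, 0, 3, 2, 3, 0, 1, 2, 0],
  [1, 2, 1, 3, 2, 1, 0, 1, 3, 0],
  [3, 2, 3, 0, 2, 3],
  [1, 2, 1, 3, 2, 0],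
  [1, 0, 3, 0, 1, 2, 3, 2, 3],
  [1, 0, 3, 2],
  [2, 1, 0, 3, 0, 1, 2, 1, 3, 0],
  [1, 2, 3, 0, 2, 0, 1],
  [3, 2, 1, 3, 2, 1, 0, 1],
  [2, 1, 0, 3, 2, 3, 2, 3, 2],
  [1, 3, 2, 1, 0, 2, 3],
  [3, 2, 1, 3, 2, 3, 0],
  [2, 1, 3, 0, 2, 3, 2, 1, 0],
  [1, 3, 0, 2, 3, 2, 0],
  [2, 0, 1, 3, 0, 2, 0, 3, 2, 0],
  [1, 3, 0, 1, 2, 1, 0, 3],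
  [1, 2, 3, 2, 3, 2, 0, 3, 2],
  [1, 2, 0],
  [2, 1, 3, 2, 1, 3, 2, 3],
  [3, 2, 3, 0, 1, 0, 2, 1],
  [2, 3, 2, 3, 0, 1],
  [1, 0, 3, 2, 1, 3, 2, 3],
  [1, 3, 2, 3, 2, 3, 2, 3, 2],
  [2, 1, 3, 2, 3, 2, 0, 1, 2],
  [1, 3, 2, 1, 0, 1, 2, 3, 2],
  [1, 0, 1, 2, 1, 3, 2, 0],
  [1, 2, 1, 0, 1, 3, 0],
  [3, 0, 2, 3, 2, 0, 3, 0, 1],
  [1, 0, 3, 2, 1, 0, 2],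
  [3, 2, 0, 1, 0, 1, 0, 3],
  [3, 2, 1, 3, 2, 0, 3],
  [2, 3, 0, 2, 3, 0, 1, 0],
  [2, 3, 2, 0, 1, 0],
  [1, 3, 0, 1, 2, 1, 3, 2, 3],
  [3, 2, 1, 0, 2, 1, 0],
  [2, 1, 0, 1, 3, 0, 1, 2],
  [1, 0, 3, 2, 3, 2, 3, 0],
  [2, 3, 0, 1, 0, 3],
  [1, 3, 0, 2, 3, 0, 2, 3],
  [3, 0, 2, 3, 0, 2],
  [3, 2, 0, 3, 0, 1, 0, 2, 0, 3],
  [1, 0, 3, 0, 1, 0, 2, 1, 0],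
  [2, 1, 0, 2, 1, 3, 2],
  [2, 1, 0, 3, 0, 2, 0, 3, 2],
  [2, 3, 2, 0, 1],
  [3, 2, 0, 3, 2, 1],
  [3, 2, 3, 2, 0, 1, 3],
  [1, 3, 0, 1, 2, 3, 2, 3, 2, 0],
  [2, 0, 1, 3, 0, 1, 0],
  [2, 3, 0, 2, 0, 1, 2, 0],
  [1, 0, 1, 3, 2, 3, 2, 3, 0],
  [1, 3, 2, 1, 0, 1, 2, 0],
  [2, 1, 3, 2, 3, 2, 3, 2],
  [1, 0, 3, 2, 3, 2, 1],
  [2, 0, 1, 0, 1, 2, 0],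
  [1, 2, 0, 3, 0, 1, 0],
  [2, 1, 0, 3, 2, 3, 2, 1],
  [3, 2, 0, 3, 0, 1, 0, 2, 0],
  [3, 2, 1, 3, 2, 0, 1, 0, 2, 0],
  [1, 2, 3, 0, 1, 0, 1, 2, 0],
  [1, 3, 0, 2, 3, 0, 2],
  [3, 0, 2],
  [1, 2, 1, 3, 2, 3, 2, 1],
  [3, 2, 0, 3, 0, 1, 0, 2, 3, 0],
  [2, 1, 0, 1, 2, 0],
  [1, 0, 3, 2, 0, 1, 2, 3, 0],
  [1, 0, 2, 1, 3, 2, 1],
  [2, 0, 1, 0, 1],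
  [3, 2, 3, 0],
  [2, 1, 0, 3, 0, 2, 3, 2],
  [1, 3, 0, 2, 1, 3, 2, 3],
  [3, 2, 3, 2, 0, 1, 0, 3, 2, 3],
  [1, 3, 0, 1, 2, 3, 2, 1, 3],
  [2, 1, 0, 1, 3, 0, 1, 0],
  [3, 2, 1, 3, 2, 0],
  [2, 1, 0, 1, 2, 3, 0, 2],
  [2, 0, 1, 0, 1, 2, 3, 0, 2],
  [1, 0, 2, 0, 1, 3, 0, 2],
  [2, 0, 1, 0, 1, 0, 3],
  [1, 0, 2, 0, 1, 0, 3],
  [2, 0, 1, 0, 3, 0, 2, 0, 3, 0],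
  [1, 0, 3, 2, 1, 3, 0],
  [2, 3, 0, 2, 0, 1, 2, 0, 3],
  [3, 2, 0, 3, 0],
  [1, 2, 1, 0, 3, 0, 1],
  [1, 0, 3, 0, 2, 3, 2, 3, 2],
  [1, 0, 1, 2, 3],
  [3, 0, 2, 3, 2, 1, 3],
  [2, 0, 3, 2, 3, 0, 1],
  [1, 2, 1, 3, 2, 3, 2, 3, 0, 2, 3],
  [1, 2, 1, 3, 0, 2, 0],
  [1, 2, 1, 3, 2, 1, 3, 2, 1],
  [2, 3, 0, 2, 0, 3, 2, 1],
  [1, 2, 1, 3, 0, 2, 3, 0, 2, 1],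
  [1, 0, 2, 1, 0, 3],
  [3, 2, 3, 2, 3, 2, 3, 2, 0],
  [1, 0, 2, 1, 3, 2, 3, 2],
  [2, 1, 3, 2],
  [1, 2, 3, 2, 1, 0, 2, 3],
  [1, 2, 1, 0, 2, 3, 2, 1, 3],
  [2, 3, 0, 2, 0, 3],
  [1, 2, 0, 3, 0, 2, 1, 0],
  [1, 0, 3, 2, 1, 3, 2, 1, 0, 1],
  [1, 3, 2, 3, 2, 1, 0, 1, 2],
  [2, 1, 0, 1, 2, 1, 3, 0, 1],
  [2, 1, 3, 0, 2],
  [3, 2, 3, 2, 3, 0, 2, 0, 1],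
  [1, 0, 1, 3, 2, 3, 0, 1, 0, 3],
  [2, 1, 3, 0, 1, 0, 1],
  [2, 3, 2, 1, 3],
  [2, 0, 3, 2, 0, 3, 0, 2, 3],
  [2, 1, 0, 1, 2, 1, 3, 0, 2],
  [2, 3, 0, 2, 3, 2, 3, 2],
  [2, 1, 0, 2, 3, 2, 0, 1],
  [2, 1, 0, 3, 0, 2, 1, 0],
  [3, 2, 3, 0, 2],
  [2, 1, 0, 2, 3, 0, 2, 1],
  [3, 2, 3, 2, 3, 2, 0, 1, 2],
  [1, 2, 3, 0, 1, 0, 1, 2],
  [1, 2, 3, 2, 3, 0, 2, 0],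
  [1, 0, 3, 0, 2, 3, 0, 1, 2],
  [2, 0, 1, 0, 1, 0, 2, 0],
  [2, 1, 3, 0, 2, 0],
  [3, 2, 0, 3, 0, 2],
  [1, 2, 1, 0, 3],
  [3, 2, 0, 3, 0, 2, 3, 2, 0],
  [1, 0, 1, 2, 0, 3, 0],
  [1, 0, 3, 2, 0, 1, 0, 3],
  [1, 0, 2, 3, 2, 3, 2, 0, 3],
  [1, 3, 2, 3, 0, 1, 0, 2, 1],
  [1, 2, 0, 3, 0, 2, 0, 3, 2],
  [2, 3, 2, 0, 1, 2, 0, 3, 2],
  [1, 2, 3, 2, 1, 0, 1, 0, 3, 2],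
  [1, 3, 0, 1, 2, 1, 3, 0, 2],
  [2, 1, 0, 2, 3, 0, 2],
  [2, 0, 1, 0, 1, 0, 3, 2, 3],
  [2, 3, 0, 2, 1, 3, 2],
  [1, 0, 3, 2, 1, 3, 2, 3, 2],
  [2, 3, 2, 0, 3, 0, 2, 1],
  [3, 2, 0, 1, 0, 3, 2, 3, 0],
  [1, 0, 3, 2, 3],
  [1, 0, 3, 0, 1, 2, 3, 2, 1],
  [1, 0, 2, 3],
  [1, 3, 0, 1, 2, 1, 0],
  [1, 0, 1, 2, 3, 0, 1],
  [2, 0, 1],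
  [1, 0, 1, 2, 0, 1, 0],
  [2, 1, 0, 2, 1, 0, 1],
  [2, 0, 3, 2, 3, 0, 2],
  [3, 2, 0, 1, 0, 1, 0, 2],
  [2, 3, 0, 2, 0, 1, 3],
  [1, 0, 2, 3, 2, 3, 2, 0, 1],
  [1, 0, 2, 3, 2, 1, 0, 1, 2, 3],
  [1, 3, 2, 3, 2, 1, 0, 2, 1, 3],
  [1, 3, 2, 1, 3, 2, 1, 3],
  [2, 1, 3, 2, 3, 2, 0, 1],
  [1, 2, 3, 0, 2, 3, 2, 1],
  [2, 1, 0, 2, 3, 0, 1, 2],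
  [1, 0, 2, 0, 3, 2, 0, 3],
  [1, 0, 2, 1, 0, 3, 2, 1],
  [1, 2, 3, 2, 0, 3, 0],
  [1, 0, 2, 3, 2, 3, 0, 2],
  [3, 2, 1, 0, 1, 2, 0, 3],
  [2, 3, 0, 2, 1],
  [3, 2, 1, 3, 2, 0, 1, 2],
  [1, 0, 3, 0, 2, 0, 3, 0, 2, 0],
  [1, 2, 3, 0, 1, 0],
  [3, 2, 0, 1, 2, 0],
  [2, 1, 0, 1, 2],
  [1, 2, 1, 3, 0, 1, 0],
  [1, 2, 3, 2, 3, 0, 2, 0, 1],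
  [3, 2, 0, 3, 2, 1, 0, 2],
  [1, 3, 0, 1],
  [1, 3, 2, 3, 2, 0, 1, 0, 3],
  [1, 0, 3, 0, 1, 0, 2, 0, 1],
  [2, 1, 0, 2, 1, 0, 1, 2],
  [2, 3, 2, 0, 1, 2],
  [1, 2, 3, 0, 1, 0, 3, 2, 3, 0],
  [1, 3, 2, 1, 0, 2, 1, 0, 2],
  [1, 3, 2, 3, 2, 3],
  [1, 2, 1, 3, 0],
  [2, 3, 0, 2, 3, 2, 1, 0],
  [3, 2, 0, 1, 0, 1, 2, 1],
  [1, 0, 3, 2, 0, 3, 0, 2, 3],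
  [1, 0, 3],
  [1, 2, 3, 2, 3, 0],
  [2],
  [2, 1, 0, 1, 2, 1, 3, 0],
  [1, 0, 2, 3, 2, 3, 2, 1],
  [1, 2, 1, 0, 3, 0, 2, 0, 3],
  [1, 2, 3, 2, 1, 0, 2, 3, 2],
  [2, 3, 0, 2, 3, 0, 2, 1],
  [1, 2, 3, 2, 1, 0],
  [1, 2, 3, 2, 3, 2, 3, 0, 2],
  [1, 0, 3, 0, 2, 3, 0, 2],
  [2, 0, 3, 2, 0, 3, 0, 2],
  [3, 2, 1, 3],
  [1, 2, 3, 0, 2, 0, 3, 2],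
  [1, 3, 2, 0, 3, 0, 2, 3, 0],
  [2, 3, 2, 0, 1, 2, 0, 3],
  [3, 2, 3, 2, 3, 0, 1, 0, 2, 3],
  [2, 1, 0, 1, 0, 2, 3],
  [1, 2, 3, 2, 1, 3, 2],
  [2, 0, 1, 0, 1, 2, 0, 1, 3],
  [1, 0, 2, 0, 1, 3, 0, 2, 3, 0],
  [2, 3, 0, 1, 2, 1, 0, 3],
  [2, 3, 0, 2, 1, 3, 2, 1, 0, 2],
  [3, 2, 3, 2, 3, 0, 1],
  [1, 2, 3, 0, 2, 3, 2],
  [2, 0, 3, 0, 1, 0],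
  [1, 3, 2, 1, 0, 2, 1, 0, 2, 1],
  [2, 1, 0, 1, 0, 2, 3, 2, 3],
  [3, 2, 3, 2, 1, 3],
  [1, 2, 1, 0, 2, 3, 0, 2],
  [1, 0, 1, 2, 0, 1, 2],
  [1, 2, 1, 0, 3, 2, 3, 2, 1],
  [1, 2, 1],
  [1, 2, 1, 0, 3, 0, 2],
  [2, 1, 0, 3, 0, 2, 0, 3],
  [1, 3, 2, 1, 0, 2, 1, 0, 1],
  [3, 2, 3, 2, 3, 2, 0, 3, 2],
  [2, 3, 2, 0, 3, 2, 1],
  [2, 3, 0, 2, 0, 1, 0, 3, 0, 1],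
  [1, 2, 1, 3, 2, 1, 0, 1],
  [3, 2, 1, 0, 1, 0, 3, 2, 1],
  [1, 2, 3, 0, 2],
  [1, 2, 1, 3, 0, 2, 3, 0, 2],
  [2, 3, 2, 0, 1, 2, 0, 1],
  [3, 0, 2, 3, 0, 2, 3],
  [1, 0, 2, 0, 1, 3, 0],
  [1, 0, 3, 0, 2, 0, 3],
  [1, 2, 3, 2, 1, 0, 1, 2, 1],
  [2, 0, 1, 3, 0, 2, 0],
  [1, 0, 3, 2, 1, 3, 2, 1, 3],
  [3, 2, 1, 0, 1, 0, 2],
  [1, 2, 0, 3, 0, 1, 0, 1, 3, 2],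
  [1, 2, 3, 0, 1, 0, 3],
  [1, 0, 2, 1, 0, 1, 0],
  [1, 0, 2, 0, 1, 3, 0, 2, 1],
  [1, 2, 3, 2, 1, 0, 2, 1],
  [3, 2, 3, 2, 0, 3, 0, 1],
  [3, 2, 1, 0, 1, 0, 3],
  [1, 2, 1, 0, 2, 3, 2, 0, 1, 2],
  [2, 1, 3],
  [1, 2, 3, 0, 1, 0, 2, 3, 2],
  [1, 2, 3, 0, 2, 3, 2, 0],
  [1, 2, 1, 0, 3, 0, 1, 0, 2, 1],
  [1, 2],
  [2, 0, 1, 0, 1, 2, 3, 2, 1, 3],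
  [1, 0, 2, 3, 2, 0, 1, 2],
  [2, 1, 0, 2, 1, 0, 3],
  [2, 3, 0, 1, 0, 3, 2, 3, 2],
  [1, 3, 2, 1, 0],
  [1, 2, 1, 0, 2, 3, 2, 1, 0],
  [1, 0, 2, 3, 2, 1, 0, 1, 0, 2, 1],
  [1, 3, 2, 0, 3, 0, 2, 3],
  [1, 0, 1, 3, 2, 1, 0, 2, 1, 0],
  [3, 2, 3, 2, 0],
  [1, 3, 0, 2, 3, 0, 2, 0, 1, 3],
  [1, 0, 3, 0, 2, 0],
  [1, 0, 3, 2, 0, 1, 0, 1, 2, 0],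
  [2, 0, 1, 0, 3, 0, 2, 0, 1, 3],
  [2, 0, 3, 0, 1, 0, 1, 2],
  [1, 3, 2, 3, 2, 0, 3, 0],
  [3, 0, 2, 3, 2, 3, 0, 1],
  [2, 1, 0, 2, 1, 0, 3, 2, 3],
  [3, 2],
  [2, 1, 3, 2, 1, 3, 2],
  [1, 3, 0, 1, 2, 1, 0, 1, 3],
  [2, 0, 1, 0, 1, 0, 3, 2, 3, 2],
  [1, 2, 3, 2, 1, 0, 2, 1, 0],
  [1, 0, 3, 0, 1, 2, 1, 3],
  [1, 0, 1, 3, 2],
  [2, 3, 2, 1, 3, 2, 0, 3],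
  [1, 0, 3, 2, 0, 3, 0, 2, 1, 0],
  [1, 0, 3, 0, 1, 2, 3, 2, 0, 3],
  [1, 2, 1, 3, 0, 2, 3, 2],
  [1, 2, 0, 3, 0, 2, 1, 3],
  [1, 3, 2, 3],
  [2, 1, 0, 2, 1, 0, 3, 0],
  [2, 1, 3, 2, 3, 2, 3, 2, 0],
  [3, 2, 3, 2, 3, 2, 0],
  [2, 0, 3, 2, 1, 0],
  [2, 0, 3, 2, 0, 3],
  [1, 0, 2, 1, 0, 1],
  [1, 0, 1, 2, 0, 3, 0, 1],
  [1, 2, 3, 0],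
  [1, 2, 1, 3, 0, 1, 0, 1, 2],
  [2, 1, 3, 0, 2, 0, 3],
  [1, 2, 1, 0, 2, 3, 2, 1, 0, 3],
  [2, 3, 0, 2, 3, 0, 1],
  [1, 2, 1, 0, 3, 2],
  [3, 0, 2, 3, 2, 0, 3, 0],
  [2, 0, 1, 0, 1, 2, 3, 2, 3, 2],
  [1, 3, 0, 2, 0],
  [2, 3, 0, 2, 0, 1, 2, 0, 1],
  [2, 3, 2, 3, 2, 1],
  [2, 1, 0, 3, 2, 0, 1, 2],
  [3, 0, 2, 1, 3, 2, 1],
  [1, 0, 2, 0, 1, 0],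
  [2, 0, 1, 0, 3],
  [3, 2, 0, 3, 0, 2, 1, 3],
  [1, 2, 1, 0, 3, 2, 3, 2, 3],
  [1, 0, 3, 0, 2, 3, 0],
  [1, 2, 1, 0, 1, 3],
  [2, 0, 1, 3, 0, 1, 0, 1],
  [2, 3, 0, 2, 0, 3, 0, 1],
  [1, 0, 3, 0, 2, 3, 2, 1],
  [1, 2, 1, 3, 0, 2, 0, 1, 3, 0],
  [1, 0, 1, 2, 1, 3, 2, 3],
  [2, 1, 3, 0, 2, 3, 2, 3],
  [2, 1, 3, 2, 1, 0],
  [3, 2, 3, 2, 0, 3, 0, 2],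
  [2, 1, 0, 2, 1, 3, 0, 2, 3],
  [2, 3, 2, 0, 3, 2, 0],
  [2, 1, 0, 1, 2, 0, 3],
  [1, 3, 2, 1, 0, 1, 2, 1, 3],
  [1, 0, 3, 0, 2, 0, 3, 0],
  [1, 0, 2, 0, 1, 0, 3, 0, 1, 2],
  [3, 2, 3, 2, 0, 3, 0],
  [1, 0, 3, 2, 0, 3, 0],
  [1, 3, 0, 2, 1, 3, 2, 1, 3],
  [2, 0, 1, 3, 0, 1, 0, 1, 2, 0],
  [1, 2, 3, 2, 3, 2, 0, 3],
  [1, 0, 1, 3, 2, 3, 2, 1],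
  [1, 3, 2, 1, 3, 0, 1],
  [1, 0, 3, 2, 0, 1, 0, 2, 0],
  [3, 2, 3, 2, 0, 1],
  [1, 2, 0, 3, 0, 2, 0, 3, 2, 3],
  [2, 3, 2, 0, 1, 2, 0],
  [1, 0, 1, 3, 2, 1, 0, 2],
  [3, 2, 3, 2, 3, 0],
  [2, 1, 0, 2, 1, 0, 1, 2, 3],
  [1, 2, 0, 3, 0, 2, 1],
  [1, 3, 2, 3, 2, 0, 3, 0, 1, 2],
  [1, 2, 1, 3, 2, 3],
  [1, 2, 1, 0, 2, 3, 0, 2, 0],
  [1, 3, 2, 3, 2, 1, 3],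
  [1, 0, 2, 3, 2, 1, 0, 2, 1],
  [3, 2, 3, 0, 2, 0, 3],
  [2, 3, 0, 2, 0, 1, 0, 2, 0, 1],
  [1, 0, 3, 2, 0, 1],
  [2, 0, 1, 0, 1, 2, 3, 0, 1, 0],
  [3, 2, 1, 0, 2, 3, 0, 1, 0, 2],
  [2, 1, 3, 2, 3, 0, 1],
  [2, 0, 3, 2, 3, 0, 2, 0],
  [2, 3, 0, 1, 0, 3, 2, 0],
  [3, 2, 1, 0, 2, 1, 3, 2, 0],
  [2, 0, 3, 2, 1, 0, 1, 2, 3, 2],
  [2, 3, 0, 1],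
  [2, 3, 2, 3, 2, 1, 0, 3],
  [3, 2, 1, 0, 1, 0, 2, 3],
  [1, 2, 3, 2, 0, 1],
  [2, 3, 2, 0, 1, 3],
  [3, 2, 3, 2],
  [1, 0, 2, 1, 3, 2, 1, 3],
  [2, 1, 0, 3, 0, 1, 2, 1],
  [3, 0, 2, 1, 0, 2],
  [1, 0, 2, 1, 3, 2, 1, 0, 1],
  [1, 0, 2, 3, 2, 1],
  [3, 2, 0, 1, 3, 0, 2, 1, 0],
  [2, 1, 3, 0, 1],
  [1, 2, 3, 2, 1, 0, 1, 0],
  [2, 0, 3, 2, 3],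
  [2, 3, 0, 1, 0, 1, 2],
  [1, 2, 3, 0, 2, 3, 0, 1, 2],
  [3, 2, 1, 0, 1, 2, 0],
  [3, 0, 2, 3, 0, 2, 0],
  [1, 3, 2, 3, 2, 0, 3, 2],
  [1, 3, 2, 3, 0, 1, 0, 2],
  [1, 0, 1, 2, 3, 0],
  [3, 2, 0, 1, 0, 1, 3],
  [1, 0, 2, 1, 3, 2, 1, 0, 2],
  [2, 3, 2, 0, 1, 0, 3, 2],
  [2, 3, 2, 1, 3, 2, 0, 1],
  [2, 0, 3, 2, 0, 3, 0, 1, 2],
  [2, 3, 0, 2, 3, 2],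
  [2, 0, 1, 3, 2, 0],
  [2, 0, 1, 0, 3, 0, 2, 0, 3],
  [1, 2, 1, 3, 2],
  [1, 0, 2, 1, 0, 1, 0, 2, 3],
  [3, 0, 2, 3, 2, 1, 0, 3, 0],
  [1, 3, 2, 3, 2, 0, 1, 2],
  [2, 1, 3, 0, 2, 3, 2, 3, 2],
  [2, 1, 0, 3, 0, 2],
  [1, 2, 1, 3, 0, 2],
  [2, 0, 3, 2, 3, 0, 1, 2],
  [1, 2, 1, 0, 3, 0, 1, 2],
  [1, 0, 2, 0, 1, 3, 0, 2, 3],
  [1, 3, 0, 2, 0, 3, 2, 0, 1],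
  [3, 2, 0, 1, 0, 1, 2, 0],
  [1, 0, 3, 2, 1, 0, 1, 2],
  [1, 0, 3, 0, 1, 0],
  [3, 2, 1, 0, 1],
  [1, 0, 3, 0, 2, 3, 2],
  [2, 3, 2, 0, 1, 2, 0, 1, 0],
  [2, 3, 0, 2, 3, 2, 1, 0, 2, 3],
  [1, 0, 3, 0, 2, 3, 2, 1, 3, 2],
  [1, 0, 3, 0, 1, 2, 3, 2, 0, 1],
  [1, 3, 2, 3, 2, 3, 0, 1, 2],
  [2, 1, 0, 1, 3],
  [1, 3, 2, 1, 3, 2, 3, 2],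
  [3, 2, 1, 0, 1, 2],
  [2, 3, 0, 1, 0, 3, 2, 3],
  [1, 0, 1, 3, 2, 3, 2, 1, 0, 2],
  [1, 0, 1, 3, 2, 3, 0, 1],
  [1, 0, 3, 2, 1, 0, 1],
  [1, 2, 3, 0, 1, 0, 1],
  [3, 0, 2, 3, 2, 1, 3, 0],
  [1, 3, 0, 1, 2, 1, 3, 2, 1],
  [1, 2, 0, 3, 0, 2, 3, 2, 1],
  [1, 0, 2, 1, 0, 1, 2, 3, 0],
  [1, 0, 3, 0, 2, 1, 3],
  [1, 3, 0, 1, 2, 1, 3],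
  [1, 3, 0, 2, 0, 3, 2],
  [1, 2, 1, 0, 3, 2, 3, 2],
  [3, 0, 2, 3, 2, 1, 0],
  [2, 3, 2, 0, 1, 3, 0],
  [2, 0, 1, 0, 1, 2, 3, 2],
  [1, 0, 1, 2, 0, 1, 3],
  [2, 1, 3, 0, 2, 3, 2],
  [2, 3, 2, 1, 3, 2, 1],
  [1, 0, 1, 2, 0, 3, 0, 2, 3, 0],
  [1, 2, 1, 0, 2, 3, 2, 3, 2, 1],
  [2, 1, 3, 2, 3, 2, 0, 1, 3],
  [3, 2, 3, 2, 3, 2, 3, 2, 1],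
  [3, 2, 1, 0, 1, 3, 0, 1],
  [3, 0, 2, 1, 0, 2, 1, 0, 1, 0],
  [2, 1, 0, 3, 2, 3, 2, 1, 3],
  [2, 0, 3, 2],
  [2, 1, 3, 2, 1, 3, 2, 1],
  [1, 3, 2, 1, 0, 3, 0, 2],
  [3, 2, 3, 0, 1, 0],
  [2, 0, 3, 2, 0, 3, 2, 1, 0],
  [2, 0, 1, 0, 3, 0, 1, 0, 2],
  [1, 0, 1, 3, 2, 1, 0],
  [2, 0, 1, 0, 3, 0, 1, 2, 3],
  [3, 2, 3, 0, 2, 0, 3, 0, 1, 2],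
  [1, 3, 0, 1, 2, 0, 1, 0, 3],
  [1, 2, 0, 3, 0, 2],
  [1, 0, 1, 2, 0],
  [1, 0, 1, 2, 1, 3, 2],
  [3, 2, 3, 0, 2, 3, 0, 1, 2],
  [1, 2, 0, 3, 0, 1, 2],
  [3, 2, 0],
  [1, 0, 2, 1, 0, 1, 2],
  [1, 0, 1, 2],
  [3, 2, 0, 1, 3, 0],
  [1, 2, 1, 3],
  [3, 0, 2, 0],
  [2, 0, 3, 0],
  [1, 2, 3, 0, 2, 0],
  [2, 3, 2, 0, 3, 2],
  [1, 0, 3, 0, 2, 3, 2, 1, 3, 0],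
  [3, 2, 1, 0],
  [3, 2, 1, 0, 1, 0, 3, 0, 2],
  [1, 0, 3, 2, 0],
  [1, 2, 0, 3, 0, 2, 0, 1, 0],
  [1, 2, 0, 3, 0, 1, 0, 1, 3],
  [1, 0, 1, 3, 2, 3, 2, 1, 3],
  [2, 0, 1, 3, 2],
  [3, 0, 2, 1, 0, 2, 1],
  [1, 0, 1, 3, 2, 3, 2],
  [2, 1, 3, 2, 0],
  [3, 2, 3, 2, 3, 2, 3, 2],
  [1, 0, 1, 3, 2, 1, 0, 2, 1],
  [1, 3, 0, 2, 3, 0, 1, 0],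
  [1, 0, 3, 2, 0, 3],
  [2, 3, 0, 2, 1, 3],
  [1, 2, 1, 0, 2, 3, 2, 1],
  [2, 1, 0, 2, 3, 2, 3],
  [1, 3, 2, 1, 3, 0],
  [1, 3, 0, 1, 2, 0, 1],
  [1, 2, 3, 2, 3, 0, 1, 0],
  [2, 1, 0, 1, 0, 2, 3, 2],
  [1, 2, 3, 0, 1, 0, 2, 1],
  [3, 2, 1, 0, 3, 0, 2, 1, 0],
  [3, 2, 1, 0, 1, 2, 1],
  [1, 3, 0, 2, 3, 0, 1, 0, 2],
  [1, 0, 2, 1, 3, 2, 3, 2, 3, 2],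
  [3, 0, 2, 3, 0, 2, 0, 3, 2],
  [1, 0, 3, 2, 0, 1, 0, 1, 3],
  [3, 2, 1, 0, 2, 3],
  [1, 2, 1, 3, 2, 1, 0, 2, 1],
  [1, 2, 3, 2, 3],
  [2, 3, 2, 3, 0, 2, 0, 1],
  [3, 0, 2, 3, 2, 3],
  [1, 2, 1, 0, 3, 0],
  [2, 1, 0, 3, 0, 2, 3, 0],
  [1, 0, 3, 2, 0, 3, 0, 2],
  [2, 3, 0, 2, 1, 3, 2, 1],
  [2, 3, 0, 1, 0, 1, 2, 0, 1],
  [2, 3, 0, 2, 1, 3, 2, 0],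
  [2, 0, 3, 2, 0],
  [1, 2, 3, 2, 3, 2, 3, 2, 0],
  [1, 0, 2, 1, 3, 2, 1, 0],
  [2, 0, 1, 3, 2, 1],
  [2, 1, 0, 2, 1, 3, 2, 3, 2],
  [3, 2, 3, 2, 3, 0, 2, 0],
  [1, 2, 1, 3, 0, 2, 0, 1, 0],
  [1, 3, 2, 1, 0, 2, 1, 3, 2],
  [1, 3, 0, 2, 0, 3, 0],
  [2, 1, 0, 2, 1, 3, 0],
  [2, 1, 0],
  [1, 3, 0, 2, 1, 3, 2, 0],
  [1, 3, 0, 2, 0, 3],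
  [1, 0, 2, 1, 3, 2, 3, 2, 3],
  [1, 0, 3, 2, 0, 1, 0],
  [3, 2, 3, 2, 1],
  [1, 0, 1, 2, 0, 3, 0, 2],
  [2, 3, 0, 2, 0, 1, 0, 2, 1],
  [1, 3, 2, 1, 3],
  [1, 0, 2, 1, 3, 0, 2],
  [1, 3, 0, 1, 2, 0, 1, 0],
  [3, 2, 0, 1, 0, 1, 0],
  [3, 2, 0, 1, 2, 3, 0],
  [1, 3, 0, 2, 0, 3, 0, 2],
  [1, 0, 2, 3, 2, 3, 0],
  [2, 3, 2, 1, 3, 2, 3, 0, 1],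
  [2, 3, 0, 2, 0, 1, 0, 3, 0],
  [2, 1, 0, 2, 1, 0, 3, 2],
  [1, 2, 1, 3, 2, 1, 0, 2, 1, 0],
  [1, 0, 1, 2, 0, 3, 0, 1, 2],
  [1, 0, 3, 0, 1, 0, 2],
  [1, 2, 1, 3, 2, 1, 0, 3],
  [3, 2, 1, 0, 1, 3],
  [1, 0, 3, 0, 2, 3, 2, 1, 3],
  [1, 2, 0, 3, 0],
  [1, 0, 2, 3, 2, 1, 0, 2, 3],
  [1, 0, 2, 3, 2, 1, 0, 2],
  [3, 2, 0, 3, 0, 2, 3, 2, 1],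
  [2, 0, 1, 0, 1, 2, 3],
  [2, 0, 3, 2, 3, 2],
  [1, 0, 3, 2, 1, 0, 1, 2, 3],
  [1, 3, 2, 3, 2, 1, 0],
  [3, 2, 1, 0, 2, 1, 3],
  [1, 0, 3, 0, 1, 2, 1],
  [1, 2, 3, 0, 2, 3, 0, 1, 2, 0],
  [2, 3, 0, 2, 3, 0],
  [2, 1, 0, 1, 0],
  [1, 0, 2, 1, 0, 3, 2],
  [1, 2, 1, 3, 0, 2, 0, 1],
  [2, 3, 0, 2, 0, 1, 0, 2, 3],
  [3, 2, 3, 2, 3, 2, 3, 0],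
  [2, 0, 1, 3, 2, 1, 0, 1],
  [2, 3, 0, 2, 3, 2, 1, 0, 2],
  [3, 2, 1, 0, 2, 1, 3, 0],
  [3, 2, 1, 0, 1, 2, 1, 0],
  [3, 2, 1, 0, 1, 2, 1, 0, 1],
  [2, 1, 3, 2, 3, 2, 1, 0, 3],
  [2, 1, 0, 3, 0, 2, 1],
  [1, 3, 2, 3, 2, 0],
  [3, 2, 0, 3, 0, 1, 0, 2, 1],
  [1, 0, 3, 2, 0, 1, 2],
  [3, 2, 3, 2, 3, 2, 0, 1],
  [2, 0, 3, 2, 3, 0],
  [3, 2, 0, 3, 2, 1, 0],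
  [1, 2, 3, 2, 3, 2, 0],
  [1, 0, 2, 1, 3, 2, 3],
  [1, 0, 3, 0, 1, 0, 2, 1, 0, 2],
  [1, 0, 1, 2, 3, 0, 1, 0, 2],
  [2, 1, 3, 2, 3],
  [3, 2, 3, 0, 2, 0, 3, 0, 1],
  [1, 3, 0, 2, 1, 3, 2, 1],
  [2, 0, 3, 2, 1, 0, 1, 2, 0],
  [1, 0, 1],
  [1, 3, 0, 2, 3, 0, 1, 2],
  [2, 3, 2, 0, 3, 0, 1],
  [1, 2, 1, 0, 1, 3, 0, 1],
  [1, 2, 1, 0, 3, 2, 3],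
  [2, 3, 0, 2, 3, 2, 1, 0, 1],
  [1, 3, 0, 2, 3, 0, 1],
  [2, 0, 3, 2, 0, 3, 2, 0],
  [1, 3, 2, 0, 3, 0, 2, 1],
  [1, 3, 2, 3, 2, 1, 0, 2],
  [2, 1, 0, 3, 0, 2, 0, 1, 3, 2],
  [1, 0, 2, 3, 2, 3, 2, 3, 2, 3],
  [2, 1, 3, 2, 3, 2, 0, 3, 0],
  [3, 0, 2, 1],
  [2, 3, 2, 1, 3, 2, 0],
  [1, 0, 3, 0, 2, 1],
  [1, 2, 1, 0, 3, 0, 1, 0],
  [2, 1, 3, 0, 2, 3],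
  [1, 2, 1, 0, 3, 0, 1, 2, 1, 0],
  [1, 3, 0, 2, 3, 0, 1, 2, 0],
  [3, 0, 2, 3, 2, 0, 3],
  [2, 1, 3, 2, 1],
  [1, 0, 2, 3, 2, 3, 2, 1, 0, 3],
  [1, 2, 3, 0, 2, 3, 2, 3, 0],
  [2, 1, 0, 3, 0],
  [2, 3, 2, 0, 3, 0, 2],
  [1, 2, 1, 3, 0, 1, 0, 1],
  [2, 3, 2, 0, 1, 0, 3],
  [2, 0, 3, 0, 1, 0, 3, 2, 0],
  [2, 0, 1, 3, 0],
  [2, 3, 0, 2, 3, 2, 1, 0, 1, 2],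
  [1, 3, 0, 1, 2, 3, 2, 3, 2],
  [2, 0, 1, 0],
  [1, 0, 1, 0],
  [1, 0, 2, 3, 2, 0, 1, 2, 3, 2],
  [2, 1, 0, 1, 2, 3],
  [2, 1, 3, 2, 3, 2, 1],
  [2, 1, 0, 3, 0, 2, 1, 3],
  [2, 3, 2, 3, 2, 1, 0],
  [1, 3, 2, 3, 2, 1, 0, 2, 3],
  [1, 2, 3, 2, 1, 0, 2, 1, 3, 0],
  [1, 2, 1, 0, 3, 0, 2, 0, 1],
  [1, 2, 1, 3, 2, 1, 3, 2],
  [2, 0, 3, 2, 0, 3, 0, 1, 0],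
  [1, 0, 1, 2, 0, 3, 0, 2, 3],
  [1, 0, 3, 2, 1, 3, 2, 3, 0],
  [1, 0, 3, 2, 3, 2, 0, 1, 0],
  [1, 2, 3, 2, 3, 2, 1],
  [2, 3, 0, 1, 0, 1, 2, 3, 2],
  [2, 1, 0, 1, 3, 0, 1],
  [2, 3, 0, 2, 3, 2, 1],
  [1, 0, 3, 2, 1, 3, 2, 1, 0, 3],
  [1, 2, 1, 0, 2, 3, 0],
  [2, 3, 0, 1, 0, 1],
  [1, 2, 0, 3, 2],
  [3, 2, 0, 3, 2],
  [2, 1, 0, 3],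
  [1, 3, 0, 2, 1, 0, 2, 1, 3],
  [1, 3, 0, 2, 3, 0, 2, 1, 3],
  [1, 0, 3, 0, 1, 2],
  [2, 3, 2, 0, 3],
  [2, 3, 2, 3, 2],
  [3, 2, 0, 1, 0, 1],
  [2, 1, 0, 1, 3, 0],
  [2, 1, 3, 0, 1, 0, 1, 2],
  [1, 3, 0, 1, 2, 3, 2, 1, 3, 2],
  [1, 2, 0, 3, 0, 1, 0, 2, 1],
  [1, 2, 1, 3, 2, 3, 2, 3, 2, 0],
  [1, 3, 2, 3, 0, 1, 0],
  [2, 3, 0, 1, 0, 3, 2, 3, 2, 1],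
  [3, 2, 1, 0, 1, 0, 3, 2],
  [1, 3, 0, 2, 0, 3, 0, 2, 3],
  [],
  [1, 0, 3, 2, 0, 1, 0, 2],
  [3, 2, 0, 3, 0, 1, 0, 2],
  [2, 3, 2, 1, 3, 2],
  [3, 2, 0, 1, 0, 3, 2, 3],
  [2, 3, 2, 0, 3, 0, 2, 0, 1, 0],
  [1, 3, 2, 1, 0, 3, 0, 2, 3, 0, 2],
  [1, 2, 3, 2, 1, 0, 1, 0, 2],
  [2, 1, 3, 2, 1, 0, 1, 2, 0],
  [2, 0, 1, 0, 3, 0, 1, 2, 1],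
  [2, 1, 3, 2, 1, 0, 3],
  [2, 1, 0, 2, 3, 0, 1, 0],
  [2, 3, 0, 2, 3, 2, 1, 3],
  [3, 2, 3, 2, 0, 1, 0, 3, 2],
  [1, 0, 2, 1, 0],
  [2, 0, 1, 0, 3, 0, 2],
  [1, 3, 2, 3, 2, 3, 2, 3, 2, 3],
  [1, 3, 0, 2, 3, 0, 2, 0, 1],
  [1, 2, 3, 0, 2, 3, 0, 1, 0],
  [2, 1, 0, 3, 0, 1, 0, 3],
  [2, 0, 3, 0, 1, 0, 3, 2],
  [1, 0, 2, 3, 2, 1, 0, 2, 3, 0, 1],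
  [3, 2, 3, 0, 1],
  [2, 1, 3, 2, 3, 2],
  [1, 3, 2, 0, 3],
  [2, 1, 0, 3, 2, 0, 1, 3],
  [3, 2, 0, 1, 2, 0, 1, 2, 0],
  [1, 2, 3, 2, 3, 2],
  [2, 0, 3, 2, 3, 0, 1, 0],
  [1, 0, 2, 3, 2, 3, 2, 1, 3],
  [1, 0, 3, 0, 1, 0, 2, 1],
  [1, 2, 3, 0, 2, 3, 0, 1],
  [3, 2, 1, 0, 1, 2, 1, 0, 2],
  [3, 2, 1, 0, 2, 3, 0, 1, 0],
  [1, 2, 3, 0, 2, 3, 2, 0, 3],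
  [1, 0, 1, 2, 0, 3, 0, 1, 2, 1],
  [1, 2, 1, 0, 3, 0, 2, 1],
  [2, 3, 0, 2, 3, 0, 2, 3],
  [1, 3, 0, 2, 3, 2],
  [1, 3, 2, 1, 0, 2, 1, 0, 2, 3],
  [2, 1, 0, 2, 3, 2],
  [2, 3, 0, 2, 3, 0, 1, 0, 3],
  [1, 0, 2, 0, 3, 2, 0, 3, 2],
  [3, 0, 2, 1, 0, 2, 1, 0, 1],
  [2, 1, 3, 0, 2, 1],
  [1, 2, 1, 3, 0, 2, 3, 2, 1],
  [1, 3, 0, 2, 3, 2, 3, 0, 2],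
  [1, 3, 2, 3, 2, 3, 2, 3, 0, 1],
  [1, 3, 0, 2, 3, 2, 3, 0],
  [2, 1, 3, 0, 2, 3, 2, 0],
  [2, 1, 3, 2, 1, 0, 1, 3],
  [1, 2, 3, 0, 2, 3, 2, 3, 0, 1],
  [1, 0, 3, 2, 1, 0, 1, 0, 2, 1],
  [3, 2, 0, 3, 0, 1, 0],
  [1, 0, 2, 3, 2, 3, 2, 0, 1, 0],
  [1, 0, 1, 2, 1],
  [2, 1, 0, 3, 0, 1],
  [1, 0, 2, 3, 2, 1, 0],
  [2, 3, 2, 1, 3, 2, 1, 3],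
  [1, 3, 2, 1, 0, 3, 0, 1],
  [3, 2, 1, 3, 2, 0, 1, 0],
  [3, 2, 1],
  [2, 1, 0, 2, 3, 2, 3, 0],
  [2, 0, 3, 0, 1, 0, 1, 3],
  [2, 1, 0, 3, 2, 0, 3],
  [3, 2, 0, 3, 0, 2, 3, 2],
  [1, 3, 0, 2, 1, 0, 2, 1, 3, 2],
  [2, 3, 0, 2, 3, 2, 3, 2, 3],
  [3, 2, 3, 0, 1, 0, 1, 2],
  [2, 0, 3, 2, 1, 0, 1, 2],
  [2, 3, 0, 1, 0, 3, 2],
  [1, 2, 0, 3, 0, 2, 0, 1],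
  [2, 0, 1, 0, 3, 0, 2, 1],
  [3, 2, 1, 3, 2, 0, 1, 2, 3],
  [1, 2, 3, 2, 3, 0, 2],
  [3, 2, 0, 3, 0, 1, 2, 0],
  [3, 2, 0, 1, 3, 0, 2, 3, 0],
  [2, 0, 1, 0, 3, 0, 2, 3, 2],
  [3, 2, 3, 2, 3, 2],
  [3, 2, 1, 0, 3, 0, 2, 1],
  [2, 1, 0, 3, 0, 1, 2, 3],
  [2, 0, 1, 3, 0, 2, 0, 3, 2],
  [2, 1, 3, 2, 3, 2, 3],
  [3, 2, 3, 2, 1, 0, 1],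
  [1, 3, 2, 3, 2, 0, 1, 0, 1],
  [1, 3, 2, 0, 3, 0, 2, 3, 2],
  [1, 2, 1, 0, 1],
  [1, 2, 3, 2, 3, 2, 0, 1],
  [3, 2, 0, 1, 2, 3, 2],
  [2, 1, 0, 2, 3, 2, 0],
  [1, 3, 0, 2, 0, 3, 2, 0],
  [3, 2, 1, 0, 1, 0, 2, 0, 1],
  [3, 2, 0, 1, 2, 0, 3, 2],
  [2, 3, 0, 1, 0, 3, 2, 1, 3],
  [2, 1, 0, 2],
  [3, 2, 3, 0, 1, 0, 2, 1, 0, 1],
  [1, 3, 0, 1, 2, 1, 0, 1, 0],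
  [1, 3, 0, 1, 2, 3, 2, 1],
  [2, 1, 0, 1, 2, 0, 1, 3],
  [1, 3, 0, 2, 0, 3, 0, 2, 0, 1],
  [3, 0, 2, 3, 2, 1, 3, 2],
  [1, 3, 0, 2, 1],
  [3, 2, 1, 3, 2, 0, 3, 2],
  [1, 2, 3, 2, 3, 2, 3, 2, 1, 0],
  [2, 1, 0, 1, 2, 0, 1],
  [1, 2, 1, 0, 2, 3, 2, 3],
  [2, 1, 0, 2, 3, 0, 1, 0, 3],
  [2, 1, 0, 2, 3, 2, 3, 2],
  [1, 3, 0, 2, 0, 3, 0, 1, 0, 1],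
  [2, 1, 0, 2, 3, 2, 1, 0],
  [3, 2, 0, 1, 3, 0, 2, 3, 2],
  [2, 3, 0, 2, 3, 0, 2],
  [1, 3, 2, 3, 2],
  [1, 2, 0, 3, 0, 1, 0, 1, 2, 1],
  [3, 2, 1, 3, 2],
  [1, 0, 2, 3, 2, 3, 2, 1, 0, 1, 3],
  [2, 1, 0, 3, 2, 3],
  [3, 2, 0, 3, 0, 1, 2],
  [1, 3, 2, 3, 2, 3, 2],
  [2, 0, 1, 0, 1, 0, 2, 0, 3],
  [2, 3, 0, 2, 3, 2, 3],
  [3, 2, 3, 2, 0, 3],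
  [1, 0, 2, 1, 0, 1, 0, 2],
  [1, 2, 0, 3, 0, 1, 0, 3, 2, 0],
  [1, 0, 3, 2, 3, 2, 3, 2, 3],
  [1, 2, 3, 0, 2, 0, 3],
  [3, 2, 0, 1, 2, 0, 1, 0, 3, 2],
  [2, 3, 2, 3, 0],
  [3, 2, 0, 3, 0, 1, 0, 3],
  [1, 2, 1, 0],
  [3, 2, 0, 1, 2, 0, 1, 2],
  [1, 2, 1, 3, 2, 1, 0, 2],
  [2, 1, 3, 2, 3, 0],
  [1, 2, 3, 2, 0],
  [1, 0, 1, 3, 2, 0],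
  [1, 0, 3, 2, 1, 0],
  [3, 2, 3],
  [1, 2, 3, 2, 3, 2, 3, 2, 3],
  [2, 3, 2, 3, 0, 2],
  [2, 0, 1, 0, 3, 2],
  [2, 1, 3, 0, 1, 0, 3],
  [2, 3, 0, 2, 0, 1, 3, 2, 1],
  [1, 0, 1, 2, 0, 1, 2, 3, 0],
  [2, 0, 1, 0, 1, 0],
  [1, 3, 2, 1, 3, 2, 1, 3, 2, 0],
  [1, 2, 1, 3, 0, 2, 1],
  [1, 2, 1, 0, 2, 3],
  [2, 3, 2, 3, 0, 1, 2],
  [2, 1, 0, 1, 0, 2, 3, 0, 2],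
  [2, 1, 3, 2, 3, 2, 3, 2, 3],
  [3, 2, 3, 2, 3, 2, 3, 0, 1],
  [1, 2, 1, 0, 3, 2, 1],
  [1, 2, 1, 3, 0, 2, 0, 3, 0],
  [3, 2, 3, 2, 3, 0, 1, 0, 2],
  [1, 3, 2],
  [1, 0, 2, 0, 1, 0, 1, 3, 0],
  [3, 2, 1, 3, 2, 3],
  [3, 2, 0, 3, 0, 2, 1],
  [1, 3, 2, 1, 0, 1, 2, 3],
  [2, 3, 0, 2, 3, 0, 1, 0, 2],
  [1, 0, 3, 0, 2, 3, 2, 0],
  [2, 3, 0, 2, 0, 1, 0, 2, 0],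
  [1, 0, 3, 2, 0, 3, 0, 2, 1],
  [1, 2, 1, 0, 3, 2, 0],
  [1, 3, 0, 1, 2, 1, 0, 1],
  [2, 0, 1, 0, 3, 2, 0],
  [3, 0, 2, 3, 2, 3, 0],
  [1, 2, 1, 3, 0, 2, 3, 2, 0],
  [1, 2, 3, 0, 2, 1],
  [2, 3, 2],
  [1, 3, 2, 1, 3, 2],
  [1, 0, 3, 2, 3, 2, 0],
  [3],
  [1, 0, 3, 0, 1, 2, 1, 3, 2],
  [1, 2, 3, 2, 3, 2, 3, 2, 1],
  [1, 0, 2, 3, 2, 3, 2, 1, 0],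
  [1, 2, 1, 3, 0, 2, 0, 1, 3],
  [2, 1, 0, 2, 3, 0],
  [1, 3, 0, 2, 1, 3, 2],
  [2, 0, 1, 0, 1, 2, 0, 1],
  [3, 2, 1, 0, 1, 0, 2, 0],
  [2, 3, 0, 2, 3, 2, 3, 2, 1],
  [1, 0, 2, 0, 1, 0, 3, 2],
  [1, 0, 2, 0],
  [2, 1, 0, 1, 0, 2, 3, 2, 1],
  [3, 2, 1, 3, 2, 0, 1, 0, 1],
  [1, 2, 1, 0, 2, 3, 2, 0],
  [1, 2, 3, 2, 1, 0, 1, 2, 0, 1],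
  [1, 0, 3, 0, 1, 2, 3, 2, 0, 1, 3],
  [1, 2, 0, 3, 2, 0],
  [1, 3, 2, 1, 0, 3, 0, 2, 3, 2],
  [1, 2, 1, 0, 2, 3, 2, 0, 1],
  [1, 0, 1, 2, 3, 0, 1, 0, 1],
  [2, 1, 3, 2, 3, 2, 0, 3],
  [1, 3, 2, 3, 2, 3, 2, 3],
  [2, 1, 3, 2, 1, 3, 2, 0],
  [2, 1, 0, 3, 0, 2, 0, 1, 0],
  [2, 0, 1, 0, 1, 0, 3, 2],
  [2, 1, 3, 0, 2, 3, 2, 1],
  [2, 3, 0, 2, 3, 2, 1, 0, 3],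
  [1, 0, 2, 0, 1, 0, 2],
  [1, 2, 3, 0, 1, 0, 3, 2],
  [3, 2, 3, 0, 2, 3, 0],
  [3, 2, 1, 0, 3, 0, 2],
  [3, 2, 0, 1, 2, 0, 3, 0],
  [1, 3, 0, 2, 1, 0],
  [1, 0, 1, 2, 1, 3, 0],
  [1, 3, 0, 1, 2, 0, 1, 2],
  [1, 3, 2, 3, 2, 3, 2, 0, 3],
  [1, 0, 2, 0, 3],
  [1, 3, 2, 1, 3, 2, 3, 2, 0],
  [1, 3, 2, 3, 2, 3, 0, 2, 0],
  [2, 3, 2, 1, 3, 2, 3],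
  [2, 3, 2, 3, 2, 1, 0, 1],
  [1, 3, 0, 2, 0, 3, 0, 2, 0],
  [2, 3, 0],
  [1, 3, 2, 3, 2, 1, 3, 0],
  [1, 0, 3, 0, 2, 1, 0],
  [3, 2, 0, 1, 0, 1, 0, 2, 0],
  [2, 3, 2, 1, 3, 2, 0, 3, 0],
  [3, 2, 1, 0, 2, 3, 0],
  [2, 3, 0, 2, 0, 1, 0],
  [3, 2, 3, 2, 3, 0, 1, 0, 1],
  [1, 3, 2, 3, 2, 0, 1, 3],
  [1, 0, 2, 3, 2, 1, 0, 2, 3, 0],
  [1, 2, 1, 0, 2, 3, 2],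
  [2, 3, 2, 3, 0, 2, 3],
  [1, 0, 3, 2, 1, 3, 2, 1],
  [1, 0, 3, 2, 1, 3, 2, 1, 3, 2],
  [2, 1, 3, 2, 1, 3],
  [1, 0, 1, 2, 0, 1, 2, 3, 0, 2],
  [1, 3, 0, 1, 2, 1, 0, 2, 1, 3],
  [2, 1, 0, 3, 0, 1, 0, 1],
  [1, 2, 3, 0, 1, 0, 3, 2, 0],
  [1, 0, 3, 2, 1, 0, 1, 2, 3, 2],
  [1, 0, 1, 2, 0, 3, 0, 2, 1],
  [1, 0, 2, 3, 2, 1, 0, 2, 1, 0],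
  [1, 0, 1, 2, 3, 0, 1, 0, 2, 1],
  [1, 3, 0, 2, 3, 0, 1, 0, 2, 0],
  [2, 0, 3, 2, 0, 3, 0, 2, 1],
  [1, 0, 3, 0, 1, 0, 2, 0],
  [2, 1, 0, 2, 3, 0, 1],
  [1, 3, 2, 3, 2, 3, 2, 0, 1],
  [2, 1, 0, 3, 2, 3, 2],
  [1, 2, 3, 0, 2, 1, 3],
  [1, 3, 0, 2, 3, 2, 3],
  [1, 2, 3, 0, 1, 0, 3, 2, 3],
  [1, 0, 2, 3, 2, 0, 1, 2, 3],
  [2, 0, 3, 2, 0, 3, 0, 2, 0],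
  [2, 0, 1, 0, 3, 0, 1],
  [2, 1, 0, 2, 1, 0, 3, 2, 0],
  [2, 0, 3, 0, 1, 0, 1],
  [1, 0, 1, 3, 2, 3, 2, 3, 2],
  [1, 3, 0, 1, 2],
  [1, 2, 3, 2, 3, 2, 1, 3],
  [2, 1, 0, 2, 1, 3],
  [1, 0, 3, 2, 0, 1, 0, 1, 0],
  [3, 2, 0, 1, 0, 2],
  [1, 2, 1, 3, 2, 3, 2],
  [2, 3, 0, 2, 0],
  [1, 3, 0, 1, 2, 1, 0, 2, 3],
  [1, 3, 2, 3, 2, 3, 2, 3, 0],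
  [3, 2, 3, 0, 1, 0, 2, 1, 0],
  [2, 3, 0, 2, 1, 3, 2, 1, 3],
  [2, 0, 3, 2, 0, 3, 0, 1, 2, 1],
  [1, 0, 2, 3, 2, 0, 1],
  [2, 3, 0, 2, 3, 0, 1, 2, 0],
  [1, 0, 3, 0, 2, 3, 0, 1],
  [2, 3, 0, 1, 0, 1, 3, 2, 1, 0],
  [1, 2, 3, 0, 2, 0, 3, 0, 2],
  [2, 1, 0, 3, 0, 1, 2],
  [1, 3, 0, 1, 2, 1, 0, 3, 0],
  [1, 3, 0, 2, 3, 0, 2, 0],
  [3, 2, 3, 2, 0, 1, 3, 0],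
  [1, 0, 3, 2, 1, 0, 1, 2, 0],
  [1, 3, 0, 2, 3, 2, 0, 3, 0],
  [1, 0, 3, 0, 1, 2, 3],
  [1, 2, 3, 2, 1, 0, 2, 1, 0, 2],
  [2, 0, 1, 3, 0, 1, 0, 3, 2],
  [1, 0, 2, 3, 2, 3, 2, 1, 0, 1],
  [3, 2, 0, 1, 0, 3],
  [1, 3, 0, 2, 3, 2, 3, 0, 1],
  [2, 3, 2, 0, 3, 0, 2, 0],
  [1, 2, 1, 3, 2, 1, 0, 1, 2],
  [1, 2, 3, 2, 0, 1, 2],
  [3, 2, 3, 2, 3],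
  [1, 0, 2, 1, 3, 2, 0, 3],
  [1, 2, 3, 2, 1, 0, 1, 0, 2, 0],
  [1, 0, 3, 0, 1, 2, 1, 0],
  [2, 0, 1, 3, 0, 2, 0, 3],
  [3, 2, 3, 0, 2, 0, 3, 0, 2],
  [2, 0, 1, 3, 0, 1],
  [3, 2, 3, 2, 0, 1, 0, 3],
  [2, 0, 3, 2, 1, 0, 1, 2, 3],
  [2, 1, 0, 2, 1, 0],
  [3, 2, 0, 1, 2],
  [3, 2, 3, 2, 1, 3, 2],
  [3, 2, 0, 1, 0, 2, 1],
  [1, 2, 3, 2, 1],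
  [3, 2, 1, 0, 1, 0],
  [2, 1, 3, 2, 1, 0, 1, 0],
  [3, 2, 1, 0, 2, 1, 3, 2],
  [2, 3, 2, 0, 3, 0, 2, 1, 3],
  [2, 3, 0, 2, 3, 0, 1, 0, 2, 0],
  [3, 2, 1, 3, 2, 0, 1, 0, 2],
  [2, 0, 1, 0, 1, 2],
  [1, 2, 3, 2, 1, 0, 1, 2, 0],
  [3, 2, 0, 1],
  [1, 0, 2, 3, 2, 3, 2, 0],
  [1, 3, 0, 1, 2, 0],
  [1, 0, 2, 3, 2, 3, 2, 0, 1, 2],
  [3, 2, 3, 2, 3, 0, 1, 0],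
  [1, 3, 2, 0, 3, 0, 2, 3, 0, 1],
  [1, 2, 3, 2, 1, 0, 1],
  [1, 2, 3, 2, 1, 3, 0, 1],
  [1, 0, 2, 0, 1, 0, 1, 3],
  [1, 3, 2, 0, 3, 0, 1],
  [1, 2, 3, 0, 2, 0, 3, 0],
  [1, 3, 2, 3, 2, 0, 1],
  [3, 2, 1, 3, 2, 3, 2],
  [3, 2, 0, 1, 2, 3, 0, 2, 3],
  [3, 2, 1, 3, 2, 1],
  [1, 0, 2, 3, 2, 1, 0, 1, 0],
  [1, 0, 2, 1, 3, 0],
  [2, 1, 0, 1, 0, 3],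
  [3, 2, 3, 0, 2, 0, 3, 0],
  [1, 3, 0, 1, 2, 1],
  [2, 1, 0, 1, 2, 1, 3, 2, 0],
  [3, 0, 2, 3, 2, 0],
  [2, 1, 0, 2, 1, 3, 2, 1],
  [2, 1, 0, 1, 2, 1, 3, 2],
  [1, 3, 0, 2, 0, 3, 0, 1],
  [2, 3, 0, 2, 3, 2, 3, 2, 3, 0],
  [1, 2, 3, 2, 1, 0, 2],
  [1, 3],
  [2, 0, 1, 3, 0, 2],
  [3, 2, 0, 3],
  [1, 0, 3, 2, 3, 0],
  [1, 2, 1, 3, 2, 3, 0],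
  [3, 2, 3, 0, 1, 0, 1],
  [1, 0, 1, 3, 2, 1, 0, 2, 1, 3],
  [1, 3, 2, 3, 0, 1],
  [3, 2, 0, 3, 0, 1],
  [2, 1, 3, 0, 2, 0, 1],
  [1, 0, 3, 2, 0, 1, 0, 1],
  [3, 2, 0, 1, 0],
  [3, 2, 1, 0, 2, 1],
  [3, 2, 0, 3, 0, 1, 2, 0, 1],
  [2, 3, 0, 1, 0, 3, 2, 1, 0],
  [2, 3, 2, 3, 0, 1, 0, 1, 3],
  [1, 2, 3, 2, 0, 3, 0, 2],
  [2, 1, 0, 3, 0, 1, 2, 1, 3],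
  [1, 3, 2, 3, 2, 1, 0, 2, 1],
  [3, 2, 0, 1, 0, 1, 2],
  [1, 3, 0, 1, 2, 0, 1, 0, 1],
  [1, 0, 2, 1, 3, 2, 1, 0, 1, 2],
  [1, 0, 2, 1],
  [2, 3, 2, 0, 3, 0, 2, 3, 0],
  [1, 2, 1, 3, 2, 1],
  [1, 2, 1, 3, 2, 1, 0, 1, 2, 1],
  [2, 1, 3, 2, 1, 0, 1, 2, 3],
  [3, 0, 2, 3, 2],
  [1, 2, 1, 3, 2, 3, 2, 0, 1],
  [1, 3, 2, 1, 3, 2, 3],
  [2, 1, 3, 0, 1, 0],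
  [1, 3, 0, 1, 2, 3],
  [1, 0, 3, 2, 1, 3],
  [2, 3, 0, 2, 0, 3, 0],
  [1, 3, 0, 2, 3],
  [1, 0, 2, 0, 3, 2, 0],
  [2, 3, 0, 1, 0, 3, 2, 1, 3, 2],
  [2, 1, 0, 3, 2, 0],
  [2, 1],
  [1, 3, 2, 1, 0, 1, 2, 1],
  [1, 3, 0, 2, 0, 3, 0, 2, 1],
  [1, 3, 0, 2, 3, 2, 1],
  [3, 0, 2, 3, 0, 2, 0, 3],
  [2, 0, 1, 0, 1, 2, 3, 0, 1],
  [3, 2, 3, 0, 2, 0, 3, 2, 3],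
  [1, 3, 0, 1, 2, 1, 0, 2, 1],
  [1, 2, 0, 3, 0, 1],
  [1, 2, 0, 3, 0, 1, 0, 3],
  [1, 2, 3, 2, 3, 0, 2, 0, 3],
  [1, 2, 1, 3, 2, 3, 2, 3],
  [2, 0, 1, 3, 2, 1, 0, 3],
  [3, 2, 3, 2, 1, 0, 2, 3],
  [1, 0, 3, 2, 0, 1, 2, 3],
  [2, 0, 1, 0, 1, 2, 3, 2, 1, 0],
  [2, 0, 3, 2, 0, 1],
  [1, 0, 3, 0, 2, 0, 1],
  [1, 2, 3, 2, 3, 2, 3],
  [1, 0, 3, 0, 1, 2, 3, 2],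
  [2, 0, 3, 0, 1, 0, 1, 2, 0],
  [1, 2, 3, 0, 1],
  [2, 1, 3, 0],
  [2, 3, 0, 2, 3, 2, 1, 0, 2, 1],
  [1, 0, 3, 2, 3, 2, 0, 1, 3],
  [3, 2, 3, 2, 3, 2, 0, 3, 2, 0],
  [2, 3, 0, 1, 0, 1, 3, 2],
  [1, 3, 2, 1, 0, 3, 0],
  [1, 3, 0, 1, 2, 1, 3, 0],
  [2, 1, 0, 2, 1],
  [1, 0, 2, 3, 2, 3, 2, 3, 2],
  [1, 0, 3, 0, 1, 2, 0],
  [1, 2, 1, 3, 2, 3, 2, 3, 0],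
  [2, 0, 3, 2, 1, 0, 1],
  [2, 1, 0, 3, 0, 2, 0, 1, 3],
  [2, 0, 1, 0, 3, 0, 2, 0],
  [2, 3, 0, 2, 0, 1, 3, 2],
  [1, 3, 2, 1, 3, 2, 1, 0, 3],
  [1, 2, 3],
  [1, 3, 2, 0],
  [1, 3, 2, 1, 0, 2, 1],
  [2, 0, 3, 0, 1],
  [2, 1, 0, 1, 3, 0, 1, 2, 3],
  [1, 3, 2, 3, 2, 1],
  [2, 1, 0, 2, 3, 0, 1, 0, 1],
  [3, 2, 1, 3, 2, 3, 0, 1],
  [1, 2, 1, 3, 2, 3, 0, 1],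
  [1, 0, 3, 2, 0, 1, 2, 0],
  [1, 3, 2, 3, 2, 1, 0, 1],
  [2, 3, 0, 2, 1, 3, 2, 1, 0],
  [1, 2, 3, 2, 3, 0, 1],
  [1, 0, 3, 2, 1, 3, 2, 0, 1],
  [3, 0, 2, 3, 0],
  [3, 2, 0, 3, 0, 2, 3, 2, 3],
  [1, 3, 2, 1, 0, 2],
  [3, 2, 0, 1, 0, 3, 2, 1],
  [1, 0],
  [2, 3, 0, 2, 0, 1, 0, 2],
  [1, 3, 2, 1, 0, 1, 2],
  [1, 2, 0, 3, 0, 2, 3, 0],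
  [1, 0, 3, 0, 2, 0, 3, 0, 1],
  [2, 1, 0, 2, 1, 3, 2, 3],
  [1, 0, 2, 3, 2, 1, 0, 1],
  [1, 0, 2, 1, 3],
  [3, 2, 0, 3, 0, 1, 0, 2, 3],
  [1, 2, 1, 0, 2],
  [1, 3, 2, 3, 2, 3, 0, 2],
  [1, 2, 3, 2, 1, 0, 2, 3, 0],
  [1, 3, 0, 2, 1, 0, 2],
  [3, 2, 1, 3, 2, 3, 2, 0],
  [1, 0, 1, 3, 2, 1],
  [1, 0, 1, 3, 2, 1, 0, 1, 2],
  [1, 0, 1, 3, 2, 3, 2, 0],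
  [1, 0, 1, 2, 0, 1, 0, 3],
  [1, 0, 1, 2, 0, 1],
  [3, 0, 2, 1, 0],
  [2, 3, 0, 1, 0, 1, 3],
  [1, 2, 0, 3, 0, 1, 0, 1, 2],
  [1, 2, 1, 3, 0, 2, 3],
  [3, 2, 3, 0, 1, 0, 1, 2, 1],
  [1, 3, 2, 3, 0],
  [1, 0, 2, 3, 2, 1, 0, 1, 2],
  [3, 2, 0, 1, 3, 0, 2],
  [1, 3, 2, 1, 0, 3],
  [1, 0, 3, 2, 3, 2, 1, 0],
  [3, 2, 0, 3, 0, 2, 3, 0, 2],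
  [1, 2, 0, 3, 0, 2, 3, 2],
  [1, 2, 1, 3, 0, 1, 0, 1, 2, 0],
  [1, 3, 0, 2, 1, 0, 2, 1, 3, 0],
  [1, 2, 3, 0, 2, 3, 2, 3, 2],
  [2, 1, 0, 3, 0, 2, 3],
  [1, 2, 1, 0, 3, 0, 1, 2, 1],
  [1, 3, 0, 2, 1, 0, 2, 1],
  [1, 0, 3, 2, 1, 3, 2],
  [2, 1, 0, 3, 0, 1, 2, 1, 0],
  [3, 2, 3, 2, 0, 1, 0],
  [1, 0, 2, 1, 0, 1, 0, 3],
  [3, 2, 1, 3, 2, 1, 3],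
  [1, 3, 2, 1, 3, 2, 3, 2, 0, 1, 0],
  [1, 2, 3, 2, 1, 0, 2, 3, 0, 2],
  [1, 0, 1, 3, 2, 3, 2, 1, 0],
  [1, 2, 3, 0, 2, 3, 0, 1, 0, 2],
  [1, 3, 0, 2, 1, 3],
  [1, 2, 0, 3, 0, 2, 1, 3, 2, 1],
  [2, 3, 2, 3, 2, 1, 0, 1, 3],
  [1, 0, 2, 1, 3, 2],
  [3, 2, 1, 3, 2, 0, 1],
  [2, 1, 3, 2, 1, 0, 1, 2],
  [2, 1, 0, 1, 2, 1],
  [2, 3, 0, 2, 0, 1, 3, 0],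
  [1, 0, 3, 2, 3, 2, 3, 2],
  [1, 0, 3, 0, 2, 0, 3, 2, 0],
  [1, 2, 3, 2],
  [2, 3, 2, 3, 0, 2, 0],
  [1, 0, 3, 2, 1, 3, 2, 1, 3, 0],
  [1, 0, 3, 2, 1, 0, 1, 0, 2],
  [2, 3, 0, 1, 0],
  [1, 0, 3, 2, 3, 2, 0, 3],
  [1, 0, 3, 0, 2, 3],
  [1, 2, 3, 2, 1, 0, 2, 1, 3],
  [1, 0, 1, 2, 0, 1, 3, 0],
  [1, 3, 2, 3, 2, 0, 1, 0],
  [2, 3, 2, 0, 3, 0],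
  [1, 2, 1, 0, 3, 0, 1, 0, 2],
  [1, 2, 1, 3, 2, 1, 0, 1, 2, 0],
  [2, 3, 0, 2, 0, 1],
  [1, 0, 3, 0, 1, 0, 2, 1, 0, 1],
  [1, 3, 0, 1, 2, 3, 2, 3],
  [2, 3, 0, 2, 3],
  [2, 1, 0, 2, 1, 0, 1, 3],
  [3, 2, 0, 1, 3, 0, 2, 1],
  [1, 0, 2, 1, 3, 2, 1, 0, 3],
  [2, 0, 1, 0, 1, 2, 3, 2, 3],
  [2, 3, 0, 2, 3, 0, 2, 1, 3],
  [2, 0, 3, 2, 0, 3, 0],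
  [1, 2, 0, 3, 0, 1, 2, 1],
  [3, 2, 3, 2, 1, 0, 2],
  [1, 2, 1, 3, 0, 2, 0, 3],
  [2, 0, 1, 0, 3, 0],
  [1, 0, 3, 0, 2, 1, 0, 2],
  [2, 0, 1, 0, 3, 0, 2, 0, 1, 0],
  [2, 3, 0, 1, 0, 3, 2, 1],
  [3, 2, 0, 1, 0, 1, 2, 0, 1],
  [2, 3, 2, 3, 0, 1, 0, 1],
  [2, 0, 1, 0, 3, 0, 1, 0],
  [1, 0, 1, 2, 0, 3],
  [1, 0, 2, 3, 2, 3],
  [1, 2, 1, 0, 2, 3, 0, 2, 0, 1],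
  [1, 3, 0, 2, 0, 3, 0, 1, 0],
  [1, 0, 1, 2, 0, 1, 2, 3],
  [1, 0, 2, 3, 2, 3, 2, 1, 3, 0],
  [3, 2, 0, 1, 2, 0, 3],
  [3, 2, 1, 0, 2, 1, 0, 3],
  [1, 3, 2, 1, 3, 2, 1, 3, 2],
  [2, 3, 2, 3, 2, 0],
  [1, 0, 1, 3, 2, 3, 0, 1, 0],
  [2, 3, 2, 0, 3, 0, 2, 3],
  [1, 2, 1, 3, 0, 2, 0, 1, 0, 3],
  [1, 0, 1, 3, 2, 3, 2, 3, 2, 1],
  [3, 2, 1, 0, 2, 1, 3, 2, 3],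
  [2, 1, 0, 1, 0, 2],
  [1, 0, 2, 1, 3, 2, 3, 2, 1],
  [1, 0, 1, 3, 2, 3, 2, 3, 2, 1, 0],
  [2, 1, 3, 2, 1, 0, 1],
  [3, 0, 2, 3, 2, 1],
  [3, 2, 3, 2, 3, 2, 0, 3, 0],
  [2, 0],
  [2, 3, 0, 2, 3, 2, 0],
  [3, 2, 0, 1, 2, 0, 1, 0, 3],
  [1, 0, 2, 3, 2, 3, 2, 0, 3, 0],
  [2, 3, 0, 2, 3, 0, 1, 2],
  [1, 0, 1, 3, 2, 3, 0],
  [1, 2, 1, 0, 2, 3, 2, 3, 2],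
  [1, 2, 1, 3, 0, 1],
  [2, 1, 0, 2, 3, 2, 0, 1, 2, 3],
  [3, 0, 2, 1, 3],
  [1, 0, 2, 3, 2],
  [1, 3, 2, 1, 0, 3, 0, 2, 3],
  [3, 2, 1, 0, 2],
  [1, 0, 3, 0, 2, 3, 2, 1, 0],
  [1, 3, 0, 2, 3, 2, 3, 0, 1, 2],
  [1, 0, 1, 2, 3, 0, 1, 0],
  [1, 2, 0, 3, 0, 2, 3, 2, 3],
  [2, 1, 0, 3, 0, 2, 0, 1],
  [1, 0, 3, 0, 1],
  [1, 2, 3, 0, 2, 3, 2, 3],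
  [1, 3, 2, 1, 3, 2, 1, 0],
  [2, 0, 3, 2, 0, 3, 2],
  [2, 1, 0, 3, 2],
  [1, 2, 3, 0, 1, 0, 1, 2, 3, 2],
  [3, 2, 1, 0, 2, 1, 0, 3, 2],
  [3, 2, 3, 2, 3, 0, 2, 0, 3],
  [1, 0, 3, 2, 1, 3, 2, 3, 0, 1],
  [2, 0, 1, 0, 1, 2, 0, 3],
  [1, 0, 1, 2, 1, 3, 2, 0, 3],
  [1, 3, 2, 3, 2, 3, 2, 0],
  [1, 3, 2, 1, 3, 2, 3, 2, 0, 1],
  [1, 3, 2, 3, 2, 3, 0, 1],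
  [1, 3, 2, 1, 0, 3, 0, 2, 3, 0],
  [1, 0, 2, 0, 1, 3, 0, 2, 3, 2],
  [1, 2, 3, 0, 1, 0, 1, 2, 3],
  [3, 2, 3, 0, 2, 0, 3, 2],
  [2, 0, 3, 0, 1, 0, 1, 3, 2],
  [2, 1, 3, 2, 3, 2, 3, 0],
  [2, 1, 0, 2, 1, 0, 1, 3, 0],
  [1, 2, 0, 3, 0, 1, 0, 2],
  [2, 1, 0, 3, 0, 2, 0],
  [1, 0, 2, 3, 2, 0, 1, 2, 3, 2, 3],
  [3, 2, 0, 1, 2, 0, 1, 3],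
  [1, 0, 2, 3, 2, 1, 0, 1, 0, 2],
  [3, 0, 2, 3],
  [2, 0, 1, 3, 2, 1, 0],
  [2, 0, 3],
  [2, 1, 0, 3, 2, 0, 1],
  [1, 0, 2, 3, 2, 3, 2, 3],
  [2, 1, 0, 2, 3, 2, 3, 0, 2],
  [1, 0, 2, 0, 1, 3, 0, 1],
  [3, 0, 2, 3, 2, 1, 0, 3],
  [1, 2, 3, 0, 2, 3, 0],
  [1, 2, 1, 3, 2, 3, 2, 0],
  [1, 2, 3, 2, 3, 2, 3, 2, 3, 0],
  [2, 1, 0, 2, 3, 2, 0, 1, 2],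
  [2, 0, 3, 2, 0, 3, 0, 1],
  [3, 0],
  [1, 2, 1, 0, 3, 0, 2, 0],
  [1, 0, 2, 0, 3, 2],
  [3, 2, 1, 3, 2, 0, 3, 0],
  [1, 2, 3, 0, 1, 0, 3, 2, 1],
  [1, 0, 2, 1, 0, 3, 0],
  [2, 3, 0, 2, 0, 1, 3, 0, 2],
  [1, 3, 2, 1, 3, 2, 1, 0, 2],
  [3, 2, 1, 3, 2, 0, 1, 2, 0],
  [1, 3, 0, 1, 2, 1, 3, 2],
  [1, 3, 2, 3, 2, 0, 3],
  [3, 2, 3, 2, 3, 2, 3],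
  [1, 0, 3, 0, 1, 2, 3, 2, 1, 0, 1],
  [1, 3, 2, 1],
  [1, 2, 3, 2, 1, 3, 0],
  [1, 0, 3, 2, 1, 3, 2, 1, 0],
  [1, 3, 0, 1, 2, 3, 2, 3, 2, 3],
  [3, 2, 1, 0, 2, 1, 0, 2],
  [1, 0, 3, 2, 3, 2, 3],
  [2, 3, 2, 1, 3, 2, 0, 3, 0, 2],
  [3, 2, 1, 3, 2, 3, 2, 0, 1],
  [2, 3, 2, 3, 0, 1, 0],
  [2, 1, 0, 3, 0, 1, 0, 1, 2],
  [3, 2, 3, 2, 1, 0, 2, 3, 2],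
  [1, 3, 2, 1, 0, 1],
  [2, 0, 1, 0, 1, 0, 2],
  [3, 0, 2, 1, 3, 2],
  [1, 0, 2, 3, 2, 1, 0, 1, 2, 0],
  [2, 1, 0, 2, 3, 2, 1],
  [2, 0, 3, 0, 1, 0, 3],
  [2, 1, 3, 2, 1, 3, 0],
  [3, 2, 0, 3, 2, 1, 0, 2, 3],
  [3, 2, 1, 3, 2, 1, 0],
  [1, 2, 3, 2, 1, 0, 2, 3, 2, 3],
  [2, 1, 3, 2, 1, 3, 2, 1, 3],
  [1, 2, 0, 3, 0, 2, 0],
  [1, 2, 3, 0, 1, 0, 2, 3],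
  [1, 0, 2, 3, 2, 3, 2],
  [2, 0, 1, 0, 1, 2, 3, 0],
  [1, 0, 3, 0, 1, 2, 3, 2, 1, 0],
  [2, 0, 3, 2, 0, 1, 3],
  [3, 2, 1, 0, 3, 0],
  [1, 2, 1, 3, 2, 3, 2, 3, 0, 2],
  [2, 3, 2, 3],
  [2, 3, 2, 0, 3, 0, 2, 0, 1],
  [3, 2, 1, 3, 0],
  [1, 0, 3, 2, 0, 1, 0, 1, 2],
  [2, 3, 0, 2, 0, 3, 2, 3],
  [3, 2, 0, 1, 2, 0, 1],
  [2, 0, 1, 3, 0, 1, 0, 1, 2],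
  [2, 0, 3, 2, 0, 3, 2, 1],
  [1, 2, 3, 2, 1, 0, 1, 0, 3],
  [2, 1, 0, 1, 0, 2, 3, 0],
  [2, 3, 0, 1, 2, 1],
  [2, 1, 0, 3, 2, 3, 2, 3],
  [1, 0, 3, 0, 1, 2, 3, 2, 0],
  [2, 3, 0, 2, 3, 2, 1, 0, 2, 1, 3],
  [1, 0, 1, 2, 1, 3],
  [2, 0, 1, 3],
  [2, 0, 3, 2, 1],
  [3, 0, 2, 3, 2, 3, 0, 2]]

theorem hR : J1C.par.rels.all (fun W => relOK J1x.nets 9 (W.flatMap iw)) = true := by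
  decide +kernel

theorem hcomm : ∀ l : Fin 3,
    relOK J1x.nets 9 ([0] ++ iw l ++ [(0 : Fin 4)].reverse ++ (iw l).reverse) = true := by
  decide +kernel

theorem hsq : relOK J1x.nets 9 [(0 : Fin 4), 0] = true := by decide +kernel

theorem hne : wpos J1x.nets [(0 : Fin 4)] 1 ≠ 1 := by decide +kernel

theorem hcw : incr (cwL.map (fun W => wcode (W.flatMap iw))) = true := by decide +kernel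

theorem hcwlen : cwL.length = 120 := by decide +kernel

theorem hgw : incr (gwL.map (fun W => wcode (W.reverse ++ [0] ++ W))) = true := by
  decide +kernel

theorem hgwlen : gwL.length = 1463 := by decide +kernel

end Cfsg.Agent.Lib.Helper13.J1Cn
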