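import Cfsg.Agent.Lib.Helper13.J1xData
import Cfsg.Agent.Lib.Helper13.CosetPrim
set_option autoImplicit false
set_option maxRecDepth 100000

open Cfsg.Agent.Lib.Helper13.CE

namespace Cfsg.Agent.Lib.Helper13.J1Prim

def orbs : List (ℕ × ℕ × List ℕ × List (Fin 4) × List ℕ) := [(1, 11, [0, 1, 2, 1, 0, 1, 2, 0], [3, 0, 2, 3, 2, 0, 3], [0, 1, 2, 3, 0, 1, 2, 3, 0, 1, 2, 3, 0, 1, 2, 3, 0, 1]),
  (12, 12, [0, 1, 2, 0], [3, 2, 1, 0, 1, 0, 3], [0, 1, 3, 0, 1, 2, 3, 0, 1, 2, 3, 0, 1, 2]),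
  (24, 110, [0, 1, 2, 0, 1, 2, 0, 1, 2, 0, 1, 2, 0, 1], [3], [0, 1, 2, 3, 0, 1, 2, 3, 0, 1, 2, 3, 0, 1, 2, 3, 0, 1, 3]),
  (134, 132, [0, 1, 2, 0, 1, 2, 0, 1, 2, 0, 1, 2, 0, 1], [3, 0, 2, 0, 3], [0, 1, 2, 3, 0, 1, 2, 3, 0, 1, 2, 3, 0, 1])]

theorem hcov : rngCover 266 1 orbs = true := by decide +kernel
theorem hprim : orbs.all (primOK J1x.par.nets 266 J1x.par.subs) = true := by decide +kernel

end Cfsg.Agent.Lib.Helper13.J1Prim
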