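import Cfsg.Agent.Lib.Helper13.F11Mat
import Cfsg.Agent.Lib.Helper13.J1O
import Cfsg.Agent.Lib.Helper13.CosetWords
import Cfsg.Prelude.Def_Spor_J1

set_option autoImplicit false
set_option maxRecDepth 100000

/-!
The presented group of order 175560 is isomorphic to the subgroup of `GL₇(11)` generated by the
two matrices of Janko: four involutions of that subgroup, given by tables, satisfy the relators,
they are words in the two matrices, and the two matrices are words in them.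
-/

open Cfsg.Agent.Lib.Helper13.CE Cfsg.Spor Cfsg.Agent.Lib.Helper13.F11M

namespace Cfsg.Agent.Lib.Helper13.J1M

/-- the tables of four involutions. -/
def tabL : List (List (List ℕ)) := [
  [[3, 3, 9, 7, 10, 10, 7], [3, 10, 6, 6, 6, 0, 2], [9, 6, 0, 4, 8, 9, 3], [7, 6, 4, 4, 8, 9, 5], [10, 6, 8, 8, 4, 9, 5], [10, 0, 9, 9, 9, 10, 3], [7, 2, 3, 5, 5, 3, 1]],
  [[2, 8, 2, 10, 3, 5, 9], [8, 8, 10, 3, 1, 9, 1], [2, 10, 0, 7, 0, 8, 9], [10, 3, 7, 0, 4, 3, 4], [3, 1, 0, 4, 10, 6, 2], [5, 9, 8, 3, 6, 1, 4], [9, 1, 9, 4, 2, 4, 0]],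
  [[6, 1, 6, 5, 4, 5, 4], [1, 6, 5, 4, 6, 6, 4], [6, 5, 8, 8, 8, 5, 3], [5, 4, 8, 5, 0, 7, 3], [4, 6, 8, 0, 8, 4, 6], [5, 6, 5, 7, 4, 10, 5], [4, 4, 3, 3, 6, 5, 0]],
  [[5, 0, 0, 0, 2, 7, 0], [0, 9, 8, 10, 0, 0, 3], [0, 8, 8, 10, 0, 0, 2], [0, 10, 10, 8, 0, 0, 1], [2, 0, 0, 0, 7, 6, 0], [7, 0, 0, 0, 6, 9, 0], [0, 3, 2, 1, 0, 0, 8]]]

def tabs (l : Fin 4) : List (List ℕ) := tabL.getD l.val []

/-- the tables of the two matrices of Janko. -/
def tabXYL : List (List (List ℕ)) := [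
  [[0, 1, 0, 0, 0, 0, 0], [0, 0, 1, 0, 0, 0, 0], [0, 0, 0, 1, 0, 0, 0], [0, 0, 0, 0, 1, 0, 0], [0, 0, 0, 0, 0, 1, 0], [0, 0, 0, 0, 0, 0, 1], [1, 0, 0, 0, 0, 0, 0]],
  [[8, 2, 10, 10, 8, 10, 8], [9, 1, 1, 3, 1, 3, 3], [10, 10, 8, 10, 8, 8, 2], [10, 8, 10, 8, 8, 2, 10], [8, 10, 8, 8, 2, 10, 10], [1, 3, 3, 9, 1, 1, 3], [3, 3, 9, 1, 1, 3, 1]]]

def tXY (l : Fin 2) : List (List ℕ) := tabXYL.getD l.val []

/-- the four involutions as words in the two matrices. -/
def wGL : List (List (Fin 2)) := [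
  [1, 0, 1, 1, 0, 1, 0, 1, 0, 1, 1, 1, 0, 1, 0],
  [0, 0, 1, 1, 0, 0, 1, 1, 0, 1, 1, 0, 0, 1, 1],
  [1, 0, 0, 0, 0, 1, 1, 0, 0, 1, 1, 0, 0, 1, 0, 0, 0, 0, 0, 1],
  [0, 1, 0, 1, 1, 0, 0, 0, 0, 1, 0, 1, 0, 0, 0, 0, 1, 1]]

def wG (l : Fin 4) : List (Fin 2) := wGL.getD l.val []

/-- the two matrices as words in the four involutions. -/
def wXYL : List (List (Fin 4)) := [
  [3, 0, 1, 2, 1, 3, 2, 1, 3, 2, 0, 1, 2],
  [1, 3, 2, 1, 3, 2, 1, 0, 2, 1, 0, 2, 3, 0, 1]]

def wXY (l : Fin 2) : List (Fin 4) := wXYL.getD l.val []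

theorem hrel : J1x.par.rels.all (fun W => decide (prodL tabs W = idL)) = true := by
  decide +kernel

theorem hsq : ∀ l : Fin 4, mulL (tabs l) (tabs l) = idL := by decide +kernel

theorem hwG : ∀ l : Fin 4, prodL tXY (wG l) = tabs l := by decide +kernel

theorem hwXY : ∀ l : Fin 2, prodL tabs (wXY l) = tXY l := by decide +kernel

theorem hne : ent (tabs 0) 0 0 % 11 ≠ ent idL 0 0 % 11 := by decide +kernel

/-- the matrices. -/
def mat (l : Fin 4) : Matrix (Fin 7) (Fin 7) (ZMod 11) := matZ (tabs l)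

theorem prod_one (W : List (Fin 4)) (hW : W ∈ J1x.par.rels) : (W.map mat).prod = 1 := by
  have h := List.all_eq_true.mp hrel W hW
  have h1 : prodL tabs W = idL := of_decide_eq_true h
  have h2 := matZ_prodL tabs W
  rw [h1, matZ_idL] at h2
  exact h2.symm

theorem mat_sq (l : Fin 4) : mat l * mat l = 1 := by
  unfold mat
  rw [← matZ_mulL, hsq l, matZ_idL]

/-- the involutions as invertible matrices. -/
def gI (l : Fin 4) : GL (Fin 7) (ZMod 11) := ⟨mat l, mat l, mat_sq l, mat_sq l⟩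

theorem gI_prod (W : List (Fin 4)) :
    (((W.map gI).prod : GL (Fin 7) (ZMod 11)) : Matrix (Fin 7) (Fin 7) (ZMod 11)) =
      (W.map mat).prod := by
  induction W with
  | nil => rfl
  | cons l W ih =>
    rw [List.map_cons, List.prod_cons, List.map_cons, List.prod_cons, Units.val_mul, ih]
    rfl

theorem gI_rel : ∀ W ∈ relsGen J1x.edges J1x.par.letters J1x.extraW,
    (W.map gI).prod = 1 := by
  intro W hW
  have hW' : W ∈ J1x.par.rels := by rw [J1x.hrels]; exact hW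
  apply Units.ext
  rw [gI_prod, prod_one W hW']
  rfl

/-- the homomorphism to the general linear group. -/
def theta : J1O.P →* GL (Fin 7) (ZMod 11) :=
  PresentedGroup.toGroup (lift_eq_one_of_relsGen J1x.edges J1x.extra J1x.par.letters
    J1x.extraW J1x.hletters J1x.hextra gI gI_rel)

theorem theta_of (l : Fin 4) : theta (PresentedGroup.of l) = gI l :=
  PresentedGroup.toGroup.of _

theorem theta_injective : Function.Injective theta := by
  rw [← MonoidHom.ker_eq_bot_iff]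
  rcases J1O.simple.eq_bot_or_eq_top_of_normal theta.ker inferInstance with h | h
  · exact h
  · exfalso
    have h0 : (PresentedGroup.of 0 : J1O.P) ∈ theta.ker := by rw [h]; trivial
    rw [MonoidHom.mem_ker, theta_of] at h0
    have h1 : mat 0 = 1 := congrArg Units.val h0
    exact matZ_ne (tabs 0) idL 0 0 hne (h1.trans matZ_idL.symm)

/-- the two matrices of Janko. -/
def gXY (l : Fin 2) : GL (Fin 7) (ZMod 11) :=
  if l = 0 then Cfsg.Spor.jankoX else Cfsg.Spor.jankoY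

theorem gXY_val (l : Fin 2) :
    ((gXY l : GL (Fin 7) (ZMod 11)) : Matrix (Fin 7) (Fin 7) (ZMod 11)) = matZ (tXY l) := by
  fin_cases l
  · show Cfsg.jankoMatrixX = _
    ext i j
    fin_cases i <;> fin_cases j <;> decide
  · show Cfsg.jankoMatrixY = _
    ext i j
    fin_cases i <;> fin_cases j <;> decide

theorem gXY_prod (W : List (Fin 2)) :
    (((W.map gXY).prod : GL (Fin 7) (ZMod 11)) : Matrix (Fin 7) (Fin 7) (ZMod 11)) =
      matZ (prodL tXY W) := by
  induction W with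
  | nil => rw [prodL, matZ_idL]; rfl
  | cons l W ih =>
    rw [List.map_cons, List.prod_cons, Units.val_mul, ih, prodL, matZ_mulL, gXY_val]

theorem gI_eq (l : Fin 4) : gI l = ((wG l).map gXY).prod := by
  apply Units.ext
  rw [gXY_prod, hwG l]
  rfl

theorem gXY_eq (l : Fin 2) : gXY l = theta (((wXY l).map PresentedGroup.of).prod) := by
  rw [map_list_prod, List.map_map]
  have h : (theta ∘ PresentedGroup.of) = gI := funext theta_of
  rw [h]
  apply Units.ext
  rw [gI_prod, gXY_val, ← hwXY l, matZ_prodL]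
  rfl

theorem gXY_mem (l : Fin 2) : gXY l ∈
    Subgroup.closure ({Cfsg.Spor.jankoX, Cfsg.Spor.jankoY} : Set (GL (Fin 7) (ZMod 11))) := by
  apply Subgroup.subset_closure
  fin_cases l
  · exact Or.inl rfl
  · exact Or.inr rfl

theorem range_eq : theta.range =
    Subgroup.closure ({Cfsg.Spor.jankoX, Cfsg.Spor.jankoY} : Set (GL (Fin 7) (ZMod 11))) := by
  apply le_antisymm
  · rw [MonoidHom.range_eq_map, ← PresentedGroup.closure_range_of, MonoidHom.map_closure,
      Subgroup.closure_le]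
    rintro _ ⟨_, ⟨l, rfl⟩, rfl⟩
    rw [theta_of, gI_eq]
    exact Subgroup.list_prod_mem _ (by
      intro g hg
      obtain ⟨k, -, rfl⟩ := List.mem_map.mp hg
      exact gXY_mem k)
  · rw [Subgroup.closure_le]
    rintro g (rfl | rfl)
    · exact ⟨_, (gXY_eq 0).symm⟩
    · exact ⟨_, (gXY_eq 1).symm⟩

/-- the presented group is isomorphic to the group of Janko. -/
noncomputable def equivJ1 : J1O.P ≃*
    Subgroup.closure ({Cfsg.Spor.jankoX, Cfsg.Spor.jankoY} : Set (GL (Fin 7) (ZMod 11))) :=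
  (MonoidHom.ofInjective theta_injective).trans (MulEquiv.subgroupCongr range_eq)

end Cfsg.Agent.Lib.Helper13.J1M
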