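import Cfsg.Agent.Lib.Helper13.J1xData
import Cfsg.Agent.Lib.Helper13.CosetBase
set_option autoImplicit false
set_option maxRecDepth 100000

open Cfsg.Agent.Lib.Helper13.CE

namespace Cfsg.Agent.Lib.Helper13.J1S

def levelsW : List (List (List (Fin 4)) × ℕ × List ℕ × ℕ) := [([[0], [1], [2], [3]], 0, [3, 0, 1, 2, 3, 0, 1, 2, 3, 0, 1, 2, 3, 0, 1, 2, 3, 0, 2], 266),
  ([[0], [1], [2], [3, 2, 0, 1, 3, 2, 3], [3, 2, 1, 3, 0, 2, 3]], 134, [0, 1, 2, 3, 4, 0, 1, 2, 3, 4, 0, 1, 2], 132),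
  ([[1, 0, 1, 2, 0], [0, 2, 1, 0, 1], [0, 1, 2, 3, 2, 1, 3, 0, 3, 1, 0, 2, 3, 2, 1]], 1, [0, 1, 2], 5)]
def witL : List (List (List (Fin 4))) := [[[1, 2, 0, 2, 3, 2, 1, 2]],
  [[2, 3, 1, 2, 0, 1, 0, 3]],
  [[3, 1, 2, 1, 3, 0, 1, 0]],
  [[2, 1, 3, 2, 0, 1, 0, 1]]]
def wit (x : Fin 4) : List (List (Fin 4)) := witL.getD x.val []

end Cfsg.Agent.Lib.Helper13.J1S
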